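import Groth.Agent.Ega2.RelAmp
import Groth.Agent.Ega2.AmpleAff
import Groth.Agent.Ega2.AmpleUnit
import Groth.Agent.Ega3B.TensRestrict

/-!
# Ampleness on opens: restriction along open immersions, isomorphisms, tensor products and powers;
locality of relative ampleness on the base for arbitrary open covers
-/

set_option autoImplicit false
universe u
open CategoryTheory CategoryTheory.Limits AlgebraicGeometry

namespace K30.AmpleLoc

open Groth.Agent.Ega2.ExtCoeff Groth.Agent.Ega2.Nv Groth.Agent.Ega2.Ample Groth.Agent.Fdesc.LocGen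
open Groth.Agent.Ega2.RelAmp Groth.Agent.Ega2.Weight

variable {X X' Y Y' Z S : Scheme.{u}}

/-- Ampleness of a restriction on an open. -/
theorem ampleOn_restrict_iff {L : X.Modules} (j : X' ⟶ X) [IsOpenImmersion j] (V : X'.Opens) :
    AmpleOn (L.restrict j) V ↔ AmpleOn L (j ''ᵁ V) := by
  have h2 : (V.ι ≫ j).opensRange = j ''ᵁ V := by
    rw [Scheme.Hom.opensRange_comp, Scheme.Opens.opensRange_ι]
  rw [← isAmple_restrict_ι_iff, ← h2, ← isAmple_restrict_iff]
  have e : L.restrict (V.ι ≫ j) ≅ (L.restrict j).restrict V.ι :=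
    (Scheme.Modules.restrictFunctorComp V.ι j).app L
  exact ⟨fun h => isAmple_of_iso e.symm h, fun h => isAmple_of_iso e h⟩

theorem ampleOn_of_iso {L L' : X.Modules} (i : L ≅ L') {U : X.Opens} (h : AmpleOn L U) :
    AmpleOn L' U := by
  rw [← isAmple_restrict_ι_iff] at h ⊢
  exact isAmple_of_iso ((Scheme.Modules.restrictFunctor U.ι).mapIso i) h

theorem isRelAmple_of_iso {f : X ⟶ S} {L L' : X.Modules} (i : L ≅ L') (h : RelAmple.IsRelAmple f L) :
    RelAmple.IsRelAmple f L' := by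
  rw [isRelAmple_iff] at h ⊢
  exact ⟨h.1, fun V => ampleOn_of_iso i (h.2 V)⟩

/-- Relative ampleness is local on the base, for arbitrary open covers. -/
theorem isRelAmple_iff_of_iSup_eq_top (f : X ⟶ Y) [QuasiCompact f] (L : X.Modules)
    {ι : Type*} (U : ι → Y.Opens) (hU : ⨆ i, U i = ⊤) :
    RelAmple.IsRelAmple f L ↔ ∀ i, RelAmple.IsRelAmple (f ∣_ (U i)) (L.restrict (f ⁻¹ᵁ (U i)).ι) := by
  constructor
  · intro h i
    rw [isRelAmple_iff] at h ⊢
    refine ⟨inferInstance, fun V => ?_⟩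
    rw [ampleOn_restrict_iff, image_morphismRestrict_preimage]
    exact h.2 ⟨(U i).ι ''ᵁ V.1, V.2.image_of_isOpenImmersion _⟩
  · intro h
    refine isRelAmple_of_forall_exists fun y => ?_
    have hy : y ∈ ⨆ i, U i := by rw [hU]; trivial
    obtain ⟨i, hi⟩ := TopologicalSpace.Opens.mem_iSup.1 hy
    obtain ⟨_, ⟨W, hW, rfl⟩, hyW, -⟩ :=
      (U i : Scheme).isBasis_affineOpens.exists_subset_of_mem_open
        (show (⟨y, hi⟩ : U i) ∈ (⊤ : (U i : Scheme).Opens) from trivial) (⊤ : (U i : Scheme).Opens).2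
    refine ⟨(U i).ι ''ᵁ W, hW.image_of_isOpenImmersion _, ⟨⟨y, hi⟩, hyW, rfl⟩, ?_⟩
    have h1 := (isRelAmple_iff.1 (h i)).2 ⟨W, hW⟩
    rwa [ampleOn_restrict_iff, image_morphismRestrict_preimage] at h1

/-- `L|_U ⊗ L'|_U ≅ (L ⊗ L')|_U`. -/
theorem ampleOn_tensorMod_iff {L L' : X.Modules} (U : X.Opens) :
    AmpleOn (CohB1.tensorMod L L') U ↔
      CohB1.IsAmple (CohB1.tensorMod (L.restrict U.ι) (L'.restrict U.ι)) := by
  rw [← isAmple_restrict_ι_iff]
  exact ⟨fun h => isAmple_of_iso (Groth.Agent.Ega3B.TensRestrict.restrictIso U.ι L L') h,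
    fun h => isAmple_of_iso (Groth.Agent.Ega3B.TensRestrict.restrictIso U.ι L L').symm h⟩

theorem ampleOn_tensorPow_iff {L : X.Modules} (U : X.Opens) (n : ℕ) :
    AmpleOn (CohB1.tensorPow L n) U ↔ CohB1.IsAmple (CohB1.tensorPow (L.restrict U.ι) n) := by
  rw [← isAmple_restrict_ι_iff]
  obtain ⟨e⟩ := Groth.Agent.Ega3B.TensRestrict.restrictPowIso U.ι L n
  exact ⟨fun h => isAmple_of_iso e h, fun h => isAmple_of_iso e.symm h⟩

/-- The tensor product of two ample modules is ample. -/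
theorem isAmple_tensorMod' {L L' : X.Modules} (hL : CohB1.IsAmple L) (hL' : CohB1.IsAmple L') :
    CohB1.IsAmple (CohB1.tensorMod L L') :=
  isAmple_tensorMod hL hL'.1 fun x => by
    obtain ⟨n, s, hx, -⟩ := hL'.2.2 x
    exact ⟨n, s, hx⟩

theorem ampleOn_tensorMod {L L' : X.Modules} {U : X.Opens} (hL : AmpleOn L U) (hL' : AmpleOn L' U) :
    AmpleOn (CohB1.tensorMod L L') U := by
  rw [ampleOn_tensorMod_iff]
  rw [← isAmple_restrict_ι_iff] at hL hL'
  exact isAmple_tensorMod' hL hL'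

/-- `L` is ample iff `L ^ n` is ample. -/
theorem isAmple_iff_tensorPow {L : X.Modules} (hL : PicF.IsInvertible L) {n : ℕ} (hn : 0 < n) :
    CohB1.IsAmple L ↔ CohB1.IsAmple (CohB1.tensorPow L n) := by
  have hLn : PicF.IsInvertible (CohB1.tensorPow L n) :=
    Groth.Agent.Fdesc.LocGen.isInvertible_tensorPow hL n
  constructor
  · rintro ⟨-, hc, h⟩
    refine isAmple_of_wt hLn fun x => ?_
    obtain ⟨m, s, hx, hs⟩ := h x
    have hLm := Groth.Agent.Fdesc.LocGen.isInvertible_tensorPow hL (m + 1)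
    have h1 : Wt L L ((m + 1) * n) 0 (CohB1.tensorPow (CohB1.tensorPow L (m + 1)) n) := by
      simpa using (Wt.tensorPow_fst (L := L) (L' := L) (m + 1)).pow n
    have h2 : Wt L L ((m + 1) * n) 0 (CohB1.tensorPow (CohB1.tensorPow L n) (m + 1)) := by
      have := (Wt.tensorPow_fst (L := L) (L' := L) n).pow (m + 1)
      rw [zero_mul, mul_comm] at this
      exact this
    obtain ⟨t, ht⟩ := exists_section_of_wt hL hL h1 h2 (Groth.Agent.Ega2.Weight.powHom s n)
    rw [genLocus_powHom hLm s hn] at ht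
    exact ⟨m + 1, Nat.succ_pos m, _, Wt.tensorPow_fst _, t, ht ▸ hx, ht ▸ hs⟩
  · rintro ⟨-, hc, h⟩
    refine isAmple_of_wt hL fun x => ?_
    obtain ⟨m, s, hx, hs⟩ := h x
    refine ⟨n * (m + 1), Nat.mul_pos hn (Nat.succ_pos m), _, ?_, s, hx, hs⟩
    simpa using (Wt.tensorPow_fst (L := L) (L' := L) n).pow (m + 1)

theorem ampleOn_iff_tensorPow {L : X.Modules} {U : X.Opens} (hL : LocGen L U) {n : ℕ} (hn : 0 < n) :
    AmpleOn L U ↔ AmpleOn (CohB1.tensorPow L n) U := by
  rw [ampleOn_tensorPow_iff, ← isAmple_restrict_ι_iff]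
  refine isAmple_iff_tensorPow ?_ hn
  rw [← locGen_top_iff, locGen_restrict_iff, Scheme.Opens.opensRange_ι]
  exact hL

/-- An invertible module on a quasi-affine scheme is ample. -/
theorem isAmple_of_isQuasiAffine [X.IsQuasiAffine] {L : X.Modules} (hL : PicF.IsInvertible L) :
    CohB1.IsAmple L := by
  refine isAmple_of_wt hL fun x => ?_
  obtain ⟨W, e, hxW, he⟩ := (isInvertible_iff L).mp hL x
  obtain ⟨_, ⟨_, ⟨r, hr, rfl⟩, rfl⟩, hxr, hrW⟩ := (Scheme.IsQuasiAffine.isBasis_basicOpen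
    X).exists_subset_of_mem_open (show x ∈ (W : Set X) from hxW) W.2
  obtain ⟨S, hS⟩ := exists_nv_eq_nv (locGen_top_iff.2 hL) isCompact_univ isQuasiSeparated_univ r
    (res L hrW e)
  have h1 : nv L (res L hrW e) = X.basicOpen r := by
    refine le_antisymm (nv_le _ _) ?_
    rw [le_nv_iff L _ le_rfl, res_refl]
    exact he.res hrW
  rw [h1, nv_eq_genLocus] at hS
  refine ⟨1, one_pos, _, Wt.fst, homOf S, ?_, ?_⟩
  · rw [hS]; exact hxr
  · rw [hS]; exact hr

end K30.AmpleLoc
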