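import Groth.Agent.PerfB.ApproxStage
import Groth.Agent.Ega1.QcqsPush
import Groth.Agent.Ega2.GlobGenCrit
import Groth.Agent.Ega2.IdealAmple
import Groth.Agent.EGA2.K30.AmpleLoc

/-!
# The counit `f^* f_* M ⟶ M` as an epimorphism

* `counit_sec`: on the canonical sections the counit is restriction.
* `span_res_eq_top`: if the counit is epi (`f` qcqs, `M` quasi-coherent) then `Γ(M, W)` is spanned by the
  restrictions of `Γ(M, f⁻¹V)` for `V`, `W` affine, `W ≤ f⁻¹V`.
* `epi_counit`: the converse, pointwise.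
* `exists_mem_nv`: if the counit is epi and `M` has a generator near `x ∈ f⁻¹V`, `V` affine, then some section of `M`
  over `f⁻¹V` generates at `x`.
* `ampleOn_tensorMod_of_nv`: `AmpleOn L U`, `L'` locally generated with powers without base points over `U` implies
  `AmpleOn (L ⊗ L') U`.
-/

set_option autoImplicit false
universe u
open CategoryTheory CategoryTheory.Limits AlgebraicGeometry

namespace K30.CounitEpi

open Groth.Agent.Ega2.ExtCoeff Groth.Agent.Ega2.Nv Groth.Agent.Ega2.Ample Groth.Agent.Fdesc.LocGen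
open Groth.Agent.VarietyB

variable {X Y : Scheme.{u}}

theorem counit_unit (f : X ⟶ Y) (M : X.Modules) (V : Y.Opens)
    (m : Γ((Scheme.Modules.pushforward f).obj M, V)) :
    ((Scheme.Modules.pullbackPushforwardAdjunction f).counit.app M).app (f ⁻¹ᵁ V)
        (((Scheme.Modules.pullbackPushforwardAdjunction f).unit.app
          ((Scheme.Modules.pushforward f).obj M)).app V m) = (show Γ(M, f ⁻¹ᵁ V) from m) :=
  congrArg (fun φ : (Scheme.Modules.pushforward f).obj M ⟶ (Scheme.Modules.pushforward f).obj M =>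
    (φ.app V m : Γ((Scheme.Modules.pushforward f).obj M, V)))
    ((Scheme.Modules.pullbackPushforwardAdjunction f).right_triangle_components M)

theorem counit_sec (f : X ⟶ Y) (M : X.Modules) {V : Y.Opens} {W : X.Opens} (e : W ≤ f ⁻¹ᵁ V)
    (m : Γ((Scheme.Modules.pushforward f).obj M, V)) :
    ((Scheme.Modules.pullbackPushforwardAdjunction f).counit.app M).app W
      (PullSec.sec f ((Scheme.Modules.pushforward f).obj M) e m) = res M e (show Γ(M, f ⁻¹ᵁ V) from m) := by
  rw [PullSec.sec_apply]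
  refine (app_res ((Scheme.Modules.pullbackPushforwardAdjunction f).counit.app M) e
    (((Scheme.Modules.pullbackPushforwardAdjunction f).unit.app
          ((Scheme.Modules.pushforward f).obj M)).app V m)).trans ?_
  exact congrArg (res M e) (counit_unit f M V m)

theorem span_res_eq_top (f : X ⟶ Y) [QuasiCompact f] [QuasiSeparated f] {M : X.Modules} (hM : Coh.IsQCoh M)
    (h : Epi ((Scheme.Modules.pullbackPushforwardAdjunction f).counit.app M)) {V : Y.Opens}
    (hV : IsAffineOpen V) {W : X.Opens} (hW : IsAffineOpen W) (e : W ≤ f ⁻¹ᵁ V) :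
    Submodule.span Γ(X, W) (Set.range (res M e)) = ⊤ := by
  have hP : Coh.IsQCoh ((Scheme.Modules.pushforward f).obj M) :=
    Groth.Agent.Ega1.QcqsPush.isQCoh_pushforward f M hM
  have i1 : Coh.IsQCoh ((Scheme.Modules.pullback f).obj ((Scheme.Modules.pushforward f).obj M)) :=
    PullSec.isQCoh_pullback f _ hP
  have hspan := Groth.Agent.PerfB.ApproxStage.span_sec f hP e hV hW
  have hsurj : Function.Surjective
      (((Scheme.Modules.pullbackPushforwardAdjunction f).counit.app M).app W) := by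
    have i2 : Coh.IsQCoh ((Scheme.Modules.pushforward f ⋙ Scheme.Modules.pullback f).obj M) := i1
    have i3 : Coh.IsQCoh ((𝟭 X.Modules).obj M) := hM
    exact Groth.Agent.PerfA.QCohEpi.app_surjective_of_epi
      ((Scheme.Modules.pullbackPushforwardAdjunction f).counit.app M) hW
  rw [eq_top_iff]
  rintro x -
  obtain ⟨y, rfl⟩ := hsurj x
  have hy : y ∈ Submodule.span Γ(X, W) (Set.range (PullSec.sec f ((Scheme.Modules.pushforward f).obj M) e)) :=
    hspan ▸ Submodule.mem_top
  induction hy using Submodule.span_induction with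
  | mem y hy =>
    obtain ⟨s, rfl⟩ := hy
    exact Submodule.subset_span ⟨s, (counit_sec f M e s).symm⟩
  | zero => rw [map_zero]; exact zero_mem _
  | add a b _ _ ha hb => rw [map_add]; exact add_mem ha hb
  | smul r a _ ha =>
    rw [Scheme.Modules.Hom.app_smul]
    exact Submodule.smul_mem _ _ ha

/-- If the counit is an epimorphism and `M` has a generator near `x`, then some section of `M` over the preimage of
an affine open of the base generates at `x`. -/
theorem exists_mem_nv (f : X ⟶ Y) [QuasiCompact f] [QuasiSeparated f] {M : X.Modules} (hM : Coh.IsQCoh M)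
    (h : Epi ((Scheme.Modules.pullbackPushforwardAdjunction f).counit.app M)) {V : Y.Opens}
    (hV : IsAffineOpen V) {U : X.Opens} {e : Γ(M, U)} (he : IsGen e) {x : X} (hxU : x ∈ U)
    (hx : x ∈ f ⁻¹ᵁ V) : ∃ s : Γ(M, f ⁻¹ᵁ V), x ∈ nv M s := by
  obtain ⟨W, hW, hxW, hWU⟩ := exists_isAffineOpen_mem_and_subset (x := x) (U := U ⊓ f ⁻¹ᵁ V) ⟨hxU, hx⟩
  have hWU1 : W ≤ U := fun y hy => (hWU hy).1
  have hWV : W ≤ f ⁻¹ᵁ V := fun y hy => (hWU hy).2
  have heW : IsGen (res M hWU1 e) := he.res hWU1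
  by_contra hcon
  push Not at hcon
  have hspan := span_res_eq_top f hM h hV hW hWV
  have key : ∀ t ∈ Submodule.span Γ(X, W) (Set.range (res M hWV)), ∀ b : Γ(X, W), t = b • res M hWU1 e →
      ¬ IsUnit (X.presheaf.germ W x hxW b) := by
    intro t ht
    induction ht using Submodule.span_induction with
    | mem t ht =>
      obtain ⟨s, rfl⟩ := ht
      intro b hb hu
      have h1 := nv_inf_of_eq_smul s hWV heW b hb
      have h2 : x ∈ X.basicOpen b := (Scheme.mem_basicOpen X b x hxW).2 hu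
      rw [← h1] at h2
      exact hcon s h2.2
    | zero =>
      intro b hb hu
      have h1 : b = 0 := heW.ext (by rw [← hb, zero_smul])
      rw [h1, map_zero] at hu
      exact not_isUnit_zero hu
    | add t₁ t₂ _ _ h₁ h₂ =>
      intro b hb hu
      obtain ⟨b₁, hb₁⟩ := heW.exists_eq t₁
      obtain ⟨b₂, hb₂⟩ := heW.exists_eq t₂
      have h3 : b = b₁ + b₂ := heW.ext (by rw [← hb, hb₁, hb₂, add_smul])
      rw [h3, map_add] at hu
      rcases IsLocalRing.isUnit_or_isUnit_of_isUnit_add hu with h | h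
      · exact h₁ b₁ hb₁ h
      · exact h₂ b₂ hb₂ h
    | smul a t _ h₁ =>
      intro b hb hu
      obtain ⟨b₁, hb₁⟩ := heW.exists_eq t
      have h3 : b = a * b₁ := heW.ext (by rw [← hb, hb₁, mul_smul])
      rw [h3, map_mul] at hu
      exact h₁ b₁ hb₁ (isUnit_of_mul_isUnit_right hu)
  refine key (res M hWU1 e) (hspan ▸ Submodule.mem_top) 1 (one_smul _ _).symm ?_
  rw [map_one]
  exact isUnit_one

/-- `L` ample on `U`, some powers of `L'` having sections over `U` without common zeros: `L ⊗ L'` is ample on `U`. -/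
theorem ampleOn_tensorMod_of_nv {L L' : X.Modules} {U : X.Opens} (hL : AmpleOn L U) (hL' : LocGen L' U)
    (h : ∀ x ∈ U, ∃ (n : ℕ) (_ : 0 < n) (s : Γ(CohB1.tensorPow L' n, U)), x ∈ nv _ s) :
    AmpleOn (CohB1.tensorMod L L') U := by
  rw [K30.AmpleLoc.ampleOn_tensorMod_iff]
  rw [← isAmple_restrict_ι_iff] at hL
  have hle : (⊤ : Scheme.Opens U) ≤ U.ι ⁻¹ᵁ U := fun x _ => x.2
  have hinv : PicF.IsInvertible (L'.restrict U.ι) := by
    rw [← locGen_top_iff]
    intro x _
    obtain ⟨V, e, hxV, hVU, he⟩ := hL' x.1 x.2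
    exact ⟨U.ι ⁻¹ᵁ V, (restrictMap U.ι L').toFun V e, hxV, le_top, (restrictMap U.ι L').isGen_toFun V e he⟩
  refine Groth.Agent.Ega2.Weight.isAmple_tensorMod hL hinv fun x => ?_
  obtain ⟨n, hn, s, hx⟩ := h x.1 x.2
  obtain ⟨m, rfl⟩ : ∃ m, n = m + 1 := ⟨n - 1, by omega⟩
  obtain ⟨s', hs'⟩ := (restrictMap U.ι L').exists_nv_eq hL' s
  refine ⟨m, homOf (res _ hle s'), ?_⟩
  rw [← nv_eq_genLocus, nv_res, hs']
  exact ⟨trivial, hx⟩

/-- If all functions of the ideal `I` are supported on `W`, the sections of `N` coming from `I ⊗ N` over `U` have their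
nonvanishing locus inside `W`. -/
theorem nv_mulMap_le (I : X.IdealSheafData) {N : X.Modules} {U W : X.Opens} (hN : LocGen N U)
    (hbo : ∀ A : X.affineOpens, ∀ x ∈ I.ideal A, X.basicOpen x ≤ W)
    (s : Γ(CohB1.tensorMod (ClSub.idealMod I) N, U)) :
    nv N ((Groth.Agent.Ega2.IdealAmple.mulMap I N).app U s) ≤ W := by
  intro y hy
  have hyU : y ∈ U := nv_le _ _ hy
  obtain ⟨V, e, hyV, hVU, he⟩ := hN y hyU
  obtain ⟨V', hV', hyV', hV'V⟩ := exists_isAffineOpen_mem_and_subset (x := y) (U := V) hyV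
  have hV'V : V' ≤ V := hV'V
  have he' : IsGen (res N hV'V e) := he.res hV'V
  have hle : V' ≤ U := hV'V.trans hVU
  obtain ⟨i, hi⟩ := (tmul_right_bijective (ClSub.idealMod I) he' le_rfl).2 (res _ hle s)
  dsimp only at hi
  rw [res_refl] at hi
  have h1 : res N hle ((Groth.Agent.Ega2.IdealAmple.mulMap I N).app U s) =
      Groth.Agent.Ega2.IdealAmple.val I i • res N hV'V e := by
    rw [← app_res, ← hi, Groth.Agent.Ega2.IdealAmple.mulMap_tmul]
  have h2 := nv_inf_of_eq_smul _ hle he' _ h1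
  have h3 : y ∈ X.basicOpen (Groth.Agent.Ega2.IdealAmple.val I i) := by
    rw [← h2]
    exact ⟨hyV', hy⟩
  exact hbo ⟨V', hV'⟩ _ (Groth.Agent.Dix.IdealModSec.idealModι_app_mem I ⟨V', hV'⟩ i) h3

/-- Sections of `I ⊗ N` generating at `x`, with `I = 1` near `x`, give sections of `N` generating at `x`. -/
theorem mem_nv_mulMap (I : X.IdealSheafData) {N : X.Modules} {U V : X.Opens} {e : Γ(N, V)} (he : IsGen e)
    {i : Γ(ClSub.idealMod I, V)} (hi : Groth.Agent.Ega2.IdealAmple.val I i = 1)
    (s : Γ(CohB1.tensorMod (ClSub.idealMod I) N, U)) {x : X} (hxV : x ∈ V)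
    (hx : x ∈ nv (CohB1.tensorMod (ClSub.idealMod I) N) s) :
    x ∈ nv N ((Groth.Agent.Ega2.IdealAmple.mulMap I N).app U s) := by
  have hgi : IsGen i := Groth.Agent.Ega2.IdealAmple.isGen_of_val_eq_one I i hi
  let W := V ⊓ nv (CohB1.tensorMod (ClSub.idealMod I) N) s
  have hWV : W ≤ V := inf_le_left
  have hWU : W ≤ U := inf_le_right.trans (nv_le _ _)
  have h1 : IsGen (res _ hWU s) := (le_nv_iff _ s hWU).1 inf_le_right
  obtain ⟨u, hu, hu'⟩ := ((hgi.tmul he).res hWV).exists_unit h1
  refine (le_nv_iff N _ hWU).2 ?_ (⟨hxV, hx⟩ : x ∈ W)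
  rw [← app_res, hu', Scheme.Modules.Hom.app_smul, app_res, Groth.Agent.Ega2.IdealAmple.mulMap_tmul, hi, one_smul]
  exact (he.res _).unit_smul hu

end K30.CounitEpi
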