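import Groth.Prelude.Def_LCI2
import Groth.Agent.Sga67.PushLocal
import Groth.Agent.Ega2.AmpleGlobGen
import Groth.Agent.Ega1.GlobGenPt
import Groth.Agent.Ega3B.TensRestrict
import Groth.Agent.CohqB.LocalQC

/-!
# The counit `f^* f_* (F ⊗ L^n) ⟶ F ⊗ L^n` for `L` relatively ample

* `epi_counit_of_globGen`: the counit is epi at a globally generated module.
* `epi_counit_of_cover`: it is epi at `M` if `M` restricted to `f⁻¹V_i` is globally generated and the `f⁻¹V_i` cover.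
* `exists_globGen_over`, `exists_epi_counit`: for `L` relatively ample, `f` quasi-separated, `X` quasi-compact and `F`
  quasi-coherent of finite type.
-/

set_option autoImplicit false
universe u
open CategoryTheory CategoryTheory.Limits AlgebraicGeometry

namespace K30.CounitGG

open Groth.Agent.Fdesc.LocGen

variable {X S : Scheme.{u}}

/-- If `F` is globally generated, the counit `f^* f_* F ⟶ F` is an epimorphism. -/
theorem epi_counit_of_globGen (f : X ⟶ S) {F : X.Modules} (h : Curv2.IsGloballyGenerated F) :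
    Epi ((Scheme.Modules.pullbackPushforwardAdjunction f).counit.app F) := by
  obtain ⟨ι, p, hp⟩ := h
  refine ⟨fun {Z} u v huv => ?_⟩
  have h1 : (Scheme.Modules.pushforward f).map u = (Scheme.Modules.pushforward f).map v := by
    have h2 := congrArg ((Scheme.Modules.pullbackPushforwardAdjunction f).homEquiv _ _) huv
    rw [Adjunction.homEquiv_naturality_right, Adjunction.homEquiv_naturality_right,
      Adjunction.homEquiv_unit, Adjunction.right_triangle_components, Category.id_comp,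
      Category.id_comp] at h2
    exact h2
  have h3 : ∀ s : Γ(F, ⊤), u.app ⊤ s = v.app ⊤ s := fun s =>
    congrArg (fun φ : (Scheme.Modules.pushforward f).obj F ⟶ (Scheme.Modules.pushforward f).obj Z =>
      Scheme.Modules.Hom.app φ ⊤ s) h1
  refine (cancel_epi p).mp (Groth.Agent.Ega1.GlobGenPt.free_hom_ext _ _ fun i => ?_)
  apply hom_ext_sec
  exact h3 (sec (Groth.Agent.Ega1.GlobGenPt.inc i ≫ p) ⊤)

/-- The counit at `M` is an epimorphism if the restrictions of `M` to the preimages of some opens of the base, covering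
the source, are globally generated. -/
theorem epi_counit_of_cover (f : X ⟶ S) (M : X.Modules) {ι : Type*} (V : ι → S.Opens)
    (hc : ∀ x : X, ∃ i, x ∈ f ⁻¹ᵁ (V i))
    (h : ∀ i, Curv2.IsGloballyGenerated (M.restrict (f ⁻¹ᵁ (V i)).ι)) :
    Epi ((Scheme.Modules.pullbackPushforwardAdjunction f).counit.app M) := by
  refine Groth.Agent.Sga67.PushLocal.epi_of_cover _ (fun i => (f ⁻¹ᵁ (V i)).ι) (fun x => ?_) fun i => ?_
  · obtain ⟨i, hi⟩ := hc x
    exact ⟨i, by rw [Scheme.Opens.range_ι]; exact hi⟩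
  · exact Groth.Agent.Sga67.PushLocal.epi_restrict_counit (isPullback_morphismRestrict f (V i)).flip M
      (epi_counit_of_globGen (f ∣_ (V i)) (h i))

/-- Global generation over an affine open of the base. -/
theorem exists_globGen_over (f : X ⟶ S) [QuasiSeparated f] {L M : X.Modules} (hL : RelAmple.IsRelAmple f L)
    (hM : Coh.IsQCoh M) (hM' : CohB1.IsFT M) (W : S.Opens) (hW : IsAffineOpen W) : ∃ n₀ : ℕ, ∀ n : ℕ, n₀ ≤ n →
    Curv2.IsGloballyGenerated ((CohB1.tensorMod M (CohB1.tensorPow L n)).restrict (f ⁻¹ᵁ W).ι) := by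
  have : IsAffine W := hW
  have : QuasiSeparatedSpace (f ⁻¹ᵁ W) := quasiSeparatedSpace_of_quasiSeparated (f ∣_ W)
  obtain ⟨n₀, h⟩ := Groth.Agent.Ega2.AmpleGlobGen.exists_globGen (hL.2 ⟨W, hW⟩)
    (Groth.Agent.CohqB.LocalQC.isCoh_restrict (f ⁻¹ᵁ W).ι ⟨hM, hM'⟩)
  refine ⟨n₀, fun n hn => ?_⟩
  obtain ⟨e⟩ := Groth.Agent.Ega3B.TensRestrict.restrictPowIso (f ⁻¹ᵁ W).ι L n
  obtain ⟨e'⟩ := Groth.Agent.Ega2.TensHom.tensCongr (Iso.refl (M.restrict (f ⁻¹ᵁ W).ι)) e
  exact Groth.Agent.Ega2.GlobGenCrit.isGloballyGenerated_of_iso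
    (Groth.Agent.Ega3B.TensRestrict.restrictIso (f ⁻¹ᵁ W).ι M (CohB1.tensorPow L n) ≪≫ e').symm (h n hn)

/-- `f^* f_* (M ⊗ L^n) ⟶ M ⊗ L^n` is an epimorphism for large `n`. -/
theorem exists_epi_counit (f : X ⟶ S) [QuasiSeparated f] [CompactSpace X] {L M : X.Modules}
    (hL : RelAmple.IsRelAmple f L) (hM : Coh.IsQCoh M) (hM' : CohB1.IsFT M) : ∃ n₀ : ℕ, ∀ n : ℕ, n₀ ≤ n →
    Epi ((Scheme.Modules.pullbackPushforwardAdjunction f).counit.app
      (CohB1.tensorMod M (CohB1.tensorPow L n))) := by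
  have key : ∀ x : X, ∃ (V : S.Opens) (n₀ : ℕ), x ∈ f ⁻¹ᵁ V ∧ ∀ n : ℕ, n₀ ≤ n → Curv2.IsGloballyGenerated
      ((CohB1.tensorMod M (CohB1.tensorPow L n)).restrict (f ⁻¹ᵁ V).ι) := by
    intro x
    obtain ⟨V, hV, hxV, -⟩ := exists_isAffineOpen_mem_and_subset (x := f x) (U := ⊤) trivial
    obtain ⟨n₀, hn₀⟩ := exists_globGen_over f hL hM hM' V hV
    exact ⟨V, n₀, hxV, hn₀⟩
  choose V N hxV hN using key
  obtain ⟨t, ht⟩ := CompactSpace.elim_nhds_subcover (X := X) (fun x => ((f ⁻¹ᵁ (V x) : X.Opens) : Set X))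
    (fun x => (f ⁻¹ᵁ (V x)).isOpen.mem_nhds (hxV x))
  refine ⟨t.sup N, fun n hn => ?_⟩
  refine epi_counit_of_cover f _ (fun x : t => V x.1) (fun x => ?_)
    (fun x => hN x.1 n ((Finset.le_sup (f := N) x.2).trans hn))
  have hx : x ∈ ⋃ y ∈ t, ((f ⁻¹ᵁ (V y) : X.Opens) : Set X) := by
    rw [show (⋃ y ∈ t, ((f ⁻¹ᵁ (V y) : X.Opens) : Set X)) = ⊤ from ht]
    trivial
  simp only [Set.mem_iUnion] at hx
  obtain ⟨y, hy, hxy⟩ := hx
  exact ⟨⟨y, hy⟩, hxy⟩

end K30.CounitGG
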