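import Groth.Agent.Fdesc.LocGen
import Mathlib.AlgebraicGeometry.Morphisms.QuasiSeparated
import Mathlib.AlgebraicGeometry.Morphisms.Affine
import Mathlib.AlgebraicGeometry.Morphisms.IsIso
import Groth.Agent.EGA2.K37.LocTarget

/-!
# Contractions

`Contr j q g ε`: over the affine opens `U` of the base, every function on `(q ≫ g)⁻¹U` vanishing along `j` comes from a
function on `g⁻¹U` vanishing along `ε`, and functions on `g⁻¹U` are determined by their pullbacks along `q` and `ε`.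
-/

set_option autoImplicit false
universe u

open CategoryTheory CategoryTheory.Limits AlgebraicGeometry Opposite TopologicalSpace

namespace K30.Ctr

open Groth.Agent.Fdesc.LocGen

/-- If `φ(b) S ⊆ φ(R)` and `b` kills the kernel of `φ`, then `φ` becomes bijective after inverting `b`. -/
theorem bijective_away {R S R' S' : Type*} [CommRing R] [CommRing S] [CommRing R'] [CommRing S'] [Algebra R R']
    [Algebra S S'] (φ : R →+* S) (b : R) [IsLocalization.Away b R'] [IsLocalization.Away (φ b) S']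
    (φ' : R' →+* S') (hφ : ∀ r, φ' (algebraMap R R' r) = algebraMap S S' (φ r))
    (hs : ∀ s : S, ∃ r : R, φ r = φ b * s) (hi : ∀ r : R, φ r = 0 → b * r = 0) : Function.Bijective φ' := by
  have hub : IsUnit (algebraMap R R' b) := IsLocalization.Away.algebraMap_isUnit b
  have huφ : IsUnit (algebraMap S S' (φ b)) := IsLocalization.Away.algebraMap_isUnit (φ b)
  constructor
  · rw [injective_iff_map_eq_zero]
    intro a ha
    obtain ⟨n, r, hr⟩ := IsLocalization.Away.surj b a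
    have h1 : algebraMap S S' (φ r) = 0 := by
      rw [← hφ, ← hr, map_mul, ha, zero_mul]
    obtain ⟨m, hm⟩ := IsLocalization.Away.exists_of_eq (S := S') (φ b) (a := φ r) (b := 0) (h1.trans (map_zero _).symm)
    rw [mul_zero, ← map_pow, ← map_mul] at hm
    have h2 := congrArg (algebraMap R R') (hi _ hm)
    rw [map_mul, map_mul, map_pow, map_zero, ← hr] at h2
    have h3 := (hub.mul_right_eq_zero).mp h2
    have h4 := ((hub.pow m).mul_right_eq_zero).mp h3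
    exact ((hub.pow n).mul_left_eq_zero).mp h4
  · intro a
    obtain ⟨n, s, hsa⟩ := IsLocalization.Away.surj (φ b) a
    obtain ⟨r, hr⟩ := hs s
    have h1 : φ' (algebraMap R R' r) = a * algebraMap S S' (φ b) ^ (n + 1) := by
      rw [hφ, hr, map_mul, ← hsa, pow_succ]
      ring
    obtain ⟨u, hu⟩ := hub.pow (n + 1)
    refine ⟨algebraMap R R' r * ↑u⁻¹, ?_⟩
    rw [map_mul, h1]
    have h2 : φ' (↑u : R') = algebraMap S S' (φ b) ^ (n + 1) := by
      rw [hu, map_pow, hφ]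
    rw [← h2, mul_assoc, ← map_mul, Units.mul_inv, map_one, mul_one]

variable {X V Y C : Scheme.{u}}

/-- See the module docstring. -/
structure Contr (j : X ⟶ V) (q : V ⟶ C) (g : C ⟶ Y) (ε : Y ⟶ C) : Prop where
  surj : ∀ (U : Y.Opens), IsAffineOpen U → ∀ F : Γ(V, q ⁻¹ᵁ (g ⁻¹ᵁ U)), (j.app _ F : Γ(X, j ⁻¹ᵁ _)) = 0 →
    ∃ b : Γ(C, g ⁻¹ᵁ U), (q.app _ b : Γ(V, q ⁻¹ᵁ (g ⁻¹ᵁ U))) = F ∧ (ε.app _ b : Γ(Y, ε ⁻¹ᵁ _)) = 0
  inj : ∀ (U : Y.Opens), IsAffineOpen U → ∀ b : Γ(C, g ⁻¹ᵁ U), (q.app _ b : Γ(V, q ⁻¹ᵁ (g ⁻¹ᵁ U))) = 0 →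
    (ε.app _ b : Γ(Y, ε ⁻¹ᵁ _)) = 0 → b = 0

variable {j : X ⟶ V} {q : V ⟶ C} {g : C ⟶ Y} {ε : Y ⟶ C}

theorem app_app_eq_zero {p : X ⟶ Y} (hjq : j ≫ q = p ≫ ε) {W : C.Opens} (b : Γ(C, W))
    (hb : (ε.app W b : Γ(Y, ε ⁻¹ᵁ W)) = 0) :
    (j.app _ (q.app W b : Γ(V, q ⁻¹ᵁ W)) : Γ(X, j ⁻¹ᵁ (q ⁻¹ᵁ W))) = 0 := by
  have h1 := Scheme.Hom.congr_app hjq W
  have h2 : (j.app _ (q.app W b : Γ(V, q ⁻¹ᵁ W)) : Γ(X, j ⁻¹ᵁ (q ⁻¹ᵁ W))) = (j ≫ q).app W b := by
    rw [Scheme.Hom.comp_app]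
    rfl
  rw [h2, h1, Scheme.Hom.comp_app]
  change X.presheaf.map _ (p.app _ (ε.app W b)) = 0
  rw [hb, map_zero, map_zero]

/-- Over the part of `C` where a function `b` vanishing along `ε` is invertible, `q` is an isomorphism as soon as its
source is affine there. -/
theorem Contr.isIso [IsAffineHom g] [QuasiCompact (q ≫ g)] [QuasiSeparated (q ≫ g)] (hc : Contr j q g ε)
    {p : X ⟶ Y} (hjq : j ≫ q = p ≫ ε) {U : Y.Opens} (hU : IsAffineOpen U) (b : Γ(C, g ⁻¹ᵁ U))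
    (hb : (ε.app _ b : Γ(Y, ε ⁻¹ᵁ _)) = 0) (haff : IsAffineOpen (q ⁻¹ᵁ (C.basicOpen b))) :
    IsIso (q ∣_ (C.basicOpen b)) := by
  have hgU : IsAffineOpen (g ⁻¹ᵁ U) := hU.preimage g
  have hD : IsAffineOpen (C.basicOpen b) := hgU.basicOpen b
  have i1 : IsAffine (q ⁻¹ᵁ (C.basicOpen b)) := haff
  have i2 : IsAffine (C.basicOpen b) := hD
  have hcomp : IsCompact ((q ⁻¹ᵁ (g ⁻¹ᵁ U) : V.Opens) : Set V) := by
    rw [← Scheme.Hom.comp_preimage]
    exact (q ≫ g).isCompact_preimage hU.isCompact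
  have hqs : IsQuasiSeparated ((q ⁻¹ᵁ (g ⁻¹ᵁ U) : V.Opens) : Set V) := by
    rw [← Scheme.Hom.comp_preimage]
    exact (q ≫ g).isQuasiSeparated_preimage hU.isQuasiSeparated
  let φ : Γ(C, g ⁻¹ᵁ U) →+* Γ(V, q ⁻¹ᵁ (g ⁻¹ᵁ U)) := (q.app (g ⁻¹ᵁ U)).hom
  let F := φ b
  have hle1 : C.basicOpen b ≤ g ⁻¹ᵁ U := C.basicOpen_le b
  have hle2 : q ⁻¹ᵁ (C.basicOpen b) ≤ q ⁻¹ᵁ (g ⁻¹ᵁ U) := q.preimage_mono hle1
  have heq : V.basicOpen F = q ⁻¹ᵁ (C.basicOpen b) := (Scheme.preimage_basicOpen q b).symm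
  let alg1 : Algebra Γ(C, g ⁻¹ᵁ U) Γ(C, C.basicOpen b) := (C.presheaf.map (homOfLE hle1).op).hom.toAlgebra
  let alg2 : Algebra Γ(V, q ⁻¹ᵁ (g ⁻¹ᵁ U)) Γ(V, q ⁻¹ᵁ (C.basicOpen b)) :=
    (V.presheaf.map (homOfLE hle2).op).hom.toAlgebra
  have l1 : IsLocalization.Away b Γ(C, C.basicOpen b) := hgU.isLocalization_basicOpen b
  have l2 : IsLocalization.Away F Γ(V, q ⁻¹ᵁ (C.basicOpen b)) := by
    let : Algebra Γ(V, q ⁻¹ᵁ (g ⁻¹ᵁ U)) Γ(V, V.basicOpen F) :=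
      (V.presheaf.map (homOfLE (V.basicOpen_le _)).op).hom.toAlgebra
    dsimp +instances [alg2]
    rw! (castMode := .all) [← heq]
    exact isLocalization_basicOpen_of_qcqs hcomp hqs F
  have key : Function.Bijective (q.app (C.basicOpen b)).hom := by
    refine bijective_away φ b (q.app (C.basicOpen b)).hom ?_ ?_ ?_
    · intro r
      exact congr($(q.naturality (homOfLE hle1).op) r)
    · intro s
      obtain ⟨r, hr, -⟩ := hc.surj U hU (F * s) (by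
        rw [map_mul]
        have : (j.app _ (F : Γ(V, q ⁻¹ᵁ (g ⁻¹ᵁ U))) : Γ(X, j ⁻¹ᵁ _)) = 0 := app_app_eq_zero hjq b hb
        rw [this, zero_mul])
      exact ⟨r, hr⟩
    · intro r hr
      refine hc.inj U hU (b * r) ?_ ?_
      · rw [map_mul]
        have : (q.app _ r : Γ(V, q ⁻¹ᵁ (g ⁻¹ᵁ U))) = 0 := hr
        rw [this, mul_zero]
      · rw [map_mul, hb, zero_mul]
  have hiso : IsIso (q.app (C.basicOpen b)) := (ConcreteCategory.isIso_iff_bijective _).2 key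
  have hU' : (C.basicOpen b).ι ''ᵁ ⊤ = C.basicOpen b := by
    rw [Scheme.Opens.ι_image_top]
  have h1 : ∀ (W : C.Opens) (_ : W = C.basicOpen b), IsIso (q.app W) := by
    rintro W rfl
    exact hiso
  have h2 : IsIso (q ∣_ (C.basicOpen b)).appTop := by
    rw [morphismRestrict_appTop]
    exact IsIso.comp_isIso' (h1 _ hU') (Functor.map_isIso _ _)
  have h3 : q ∣_ (C.basicOpen b) = (Scheme.isoSpec _).hom ≫ Spec.map (q ∣_ (C.basicOpen b)).appTop ≫
      (Scheme.isoSpec _).inv := by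
    rw [← Category.assoc, Iso.eq_comp_inv]
    exact (Scheme.isoSpec_hom_naturality _).symm
  rw [h3]
  infer_instance

end K30.Ctr
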