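import Groth.Agent.EGA2.K30.SecFun
import Groth.Agent.EGA2.K30.Contr

/-!
# The complement of the zero section of a relatively ample line bundle in a contraction
-/

set_option autoImplicit false
universe u

open CategoryTheory CategoryTheory.Limits AlgebraicGeometry Opposite TopologicalSpace

noncomputable section

namespace K30.Grauert2

open K30.LBdl K30.EvSpec K30.Taylor K30.TaylorPt K30.SecFun K30.Ctr Groth.Agent.Fdesc.LocGen
  Groth.Agent.Ega2.Nv Groth.Agent.Ega2.Ample Groth.Agent.Ega2.RelAmp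

variable {X V : Scheme.{u}} {L : X.Modules} {π : V ⟶ X} {j : X ⟶ V} (B : LineBdl L π j)

section frame

variable {A : X.Opens} (hA : IsAffineOpen A) {e : Γ(L, A)} (he : IsGen e)

theorem appLE_app (a : Γ(X, A)) : (j.appLE (π ⁻¹ᵁ A) A (le_preimage_section B.comp A) (π.app A a) : Γ(X, A)) = a := by
  have h1 : π.app A ≫ j.appLE (π ⁻¹ᵁ A) A (le_preimage_section B.comp A) = 𝟙 _ := by
    rw [← Scheme.Hom.appLE_eq_app, Scheme.Hom.appLE_comp_appLE]
    have h2 : ∀ (k : X ⟶ X) (_ : k = 𝟙 X) (e : A ≤ k ⁻¹ᵁ A), k.appLE A A e = 𝟙 _ := by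
      rintro k rfl e
      exact (Category.id_comp _).trans (X.presheaf.map_id _)
    exact h2 _ B.comp _
  exact congr($h1 a)

include he in
/-- Off the zero section, the coordinate function is invertible. -/
theorem mem_basicOpen_tau_iff {v : V} (hv : v ∈ π ⁻¹ᵁ A) :
    v ∈ V.basicOpen (B.tau A hA e) ↔ v ∉ Set.range j := by
  constructor
  · rintro h ⟨x, rfl⟩
    have hx : x ∈ A := (mem_preimage_section_iff B x A).1 hv
    rw [section_mem_basicOpen_iff (le_preimage_section B.comp A) _ hx, B.zero, Scheme.basicOpen_zero] at h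
    exact h
  · intro h
    by_contra hcon
    apply h
    have hA' := isAffineOpen_preimage B hA
    obtain ⟨P, hP⟩ : v ∈ Set.range hA'.fromSpec := by rwa [hA'.range_fromSpec]
    have hmem : B.tau A hA e ∈ P.asIdeal := by
      by_contra hn
      apply hcon
      rw [← hP, ev_mem_iff hA'.fromSpec _ (by rw [hA'.fromSpec_preimage_self]), ev_fromSpec]
      exact hn
    let κ : Γ(V, π ⁻¹ᵁ A) ⟶ Γ(X, A) := j.appLE (π ⁻¹ᵁ A) A (le_preimage_section B.comp A)
    have hsur : Function.Surjective κ.hom := fun a => ⟨π.app A a, appLE_app B a⟩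
    have hker : ∀ F : Γ(V, π ⁻¹ᵁ A), κ.hom F = 0 → B.tau A hA e ∣ F := by
      intro F hF
      obtain ⟨f, rfl⟩ := (polyEquiv B hA he).surjective F
      have h1 : κ.hom (polyEquiv B hA he f) = f.coeff 0 := by
        have h2 : (κ.hom.comp (polyEquiv B hA he : Polynomial Γ(X, A) →+* Γ(V, π ⁻¹ᵁ A))) =
            Polynomial.constantCoeff := by
          apply Polynomial.ringHom_ext
          · intro a
            change κ.hom (polyEquiv B hA he (Polynomial.C a)) = _
            rw [polyEquiv_C, Polynomial.constantCoeff_apply, Polynomial.coeff_C_zero]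
            exact appLE_app B a
          · change κ.hom (polyEquiv B hA he Polynomial.X) = _
            rw [polyEquiv_X, Polynomial.constantCoeff_apply, Polynomial.coeff_X_zero]
            exact B.zero A hA e
        exact DFunLike.congr_fun h2 f
      rw [h1] at hF
      obtain ⟨f', rfl⟩ := Polynomial.X_dvd_iff.mpr hF
      rw [map_mul, polyEquiv_X]
      exact dvd_mul_right _ _
    obtain ⟨Q, hQ⟩ : P ∈ Set.range (Spec.map κ) := by
      have h1 : P ∈ PrimeSpectrum.zeroLocus (RingHom.ker κ.hom : Set _) := by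
        intro F hF
        obtain ⟨G, rfl⟩ := hker F hF
        exact Ideal.mul_mem_right _ _ hmem
      rw [← _root_.range_comap_of_surjective _ _ hsur] at h1
      exact h1
    refine ⟨hA.fromSpec Q, ?_⟩
    rw [← hP, ← hQ, ← Scheme.Hom.comp_apply, ← Scheme.Hom.comp_apply]
    rw [IsAffineOpen.SpecMap_appLE_fromSpec j hA' hA (le_preimage_section B.comp A)]

include he in
theorem mem_basicOpen_fn_iff {v : V} (hv : v ∈ π ⁻¹ᵁ A) {n : ℕ} (hn : 0 < n) (a : Γ(X, A)) :
    v ∈ V.basicOpen (fn B hA e n a) ↔ π v ∈ X.basicOpen a ∧ v ∉ Set.range j := by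
  unfold fn
  rw [Scheme.basicOpen_mul, Scheme.basicOpen_pow _ _ hn, ← Scheme.preimage_basicOpen,
    ← mem_basicOpen_tau_iff B hA he hv]
  exact Iff.rfl

end frame

section secfun

variable {D : X.Opens} (hD : LocGen L D) {n : ℕ} (hn : 0 < n) {s : Γ(CohB1.tensorPow L n, D)}
  {F : Γ(V, π ⁻¹ᵁ D)} (hF : ∀ (A : X.Opens) (hA : IsAffineOpen A) (i : A ≤ D) (e : Γ(L, A)) (_ : IsGen e)
      (a : Γ(X, A)), res _ i s = a • pow e n → ores (π.preimage_mono i) F = fn B hA e n a)

include hD hn hF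

theorem mem_basicOpen_fun_iff {v : V} : v ∈ V.basicOpen F ↔ π v ∈ nv _ s ∧ v ∉ Set.range j := by
  by_cases hv : π v ∈ D
  · obtain ⟨A₁, e₁, hzA, hA₁, he₁⟩ := hD (π v) hv
    obtain ⟨A, hA, hzA', hle⟩ := exists_isAffineOpen_mem_and_subset (x := π v) (U := A₁) hzA
    have hle : A ≤ A₁ := hle
    have he := he₁.res hle
    obtain ⟨a, ha⟩ := (he.pow n).exists_eq (res _ (hle.trans hA₁) s)
    have h1 := hF A hA (hle.trans hA₁) _ he a ha
    have h2 := mem_basicOpen_fn_iff B hA he (v := v) hzA' hn a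
    rw [← h1] at h2
    have h3 := nv_inf_of_eq_smul s (hle.trans hA₁) (he.pow n) a ha
    rw [← h3] at h2
    have h4 : v ∈ V.basicOpen (ores (π.preimage_mono (hle.trans hA₁)) F) ↔ v ∈ V.basicOpen F := by
      have : V.basicOpen (ores (π.preimage_mono (hle.trans hA₁)) F) = π ⁻¹ᵁ A ⊓ V.basicOpen F :=
        V.basicOpen_res F (homOfLE _).op
      rw [this]
      exact ⟨fun h => h.2, fun h => ⟨hzA', h⟩⟩
    rw [← h4, h2]
    exact ⟨fun h => ⟨h.1.2, h.2⟩, fun h => ⟨⟨hzA', h.1⟩, h.2⟩⟩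
  · constructor
    · intro h
      exact (hv (V.basicOpen_le F h)).elim
    · rintro ⟨h, -⟩
      exact (hv (nv_le _ _ h)).elim

theorem isAffineOpen_basicOpen_fun (haff : IsAffineOpen (nv _ s)) : IsAffineOpen (V.basicOpen F) := by
  have := B.affine
  have h1 : IsAffineOpen (π ⁻¹ᵁ (nv _ s)) := haff.preimage π
  have hle : π ⁻¹ᵁ (nv _ s) ≤ π ⁻¹ᵁ D := π.preimage_mono (nv_le _ _)
  have h2 : V.basicOpen (ores hle F) = V.basicOpen F := by
    have : V.basicOpen (ores hle F) = π ⁻¹ᵁ (nv _ s) ⊓ V.basicOpen F := V.basicOpen_res F (homOfLE _).op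
    rw [this]
    exact inf_eq_right.2 fun v hv => ((mem_basicOpen_fun_iff B hD hn hF).1 hv).1
  rw [← h2]
  exact h1.basicOpen _

theorem app_fun_eq_zero : (j.app _ F : Γ(X, j ⁻¹ᵁ (π ⁻¹ᵁ D))) = 0 := by
  have hfr : ∀ z : D, ∃ (A : X.Opens) (_ : IsAffineOpen A) (e : Γ(L, A)), z.1 ∈ A ∧ A ≤ D ∧ IsGen e := by
    intro z
    obtain ⟨A₁, e₁, hzA, hA₁, he₁⟩ := hD z.1 z.2
    obtain ⟨A, hA, hzA', hle⟩ := exists_isAffineOpen_mem_and_subset (x := z.1) (U := A₁) hzA
    exact ⟨A, hA, res L hle e₁, hzA', (show A ≤ A₁ from hle).trans hA₁, he₁.res _⟩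
  choose A hA e hzA hAD he using hfr
  have hle : ∀ z, A z ≤ j ⁻¹ᵁ (π ⁻¹ᵁ D) := fun z =>
    (le_preimage_section B.comp (A z)).trans (j.preimage_mono (π.preimage_mono (hAD z)))
  refine ores_ext A hle (fun z hz => ?_) fun z => ?_
  · have hzD : z ∈ D := (mem_preimage_section_iff B z D).1 hz
    exact Opens.mem_iSup.mpr ⟨⟨z, hzD⟩, hzA _⟩
  · obtain ⟨a, ha⟩ := ((he z).pow n).exists_eq (res _ (hAD z) s)
    have h1 := hF (A z) (hA z) (hAD z) (e z) (he z) a ha
    have h2 : ores (hle z) (j.app _ F : Γ(X, j ⁻¹ᵁ (π ⁻¹ᵁ D))) =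
        (j.appLE (π ⁻¹ᵁ (A z)) (A z) (le_preimage_section B.comp (A z)) (ores (π.preimage_mono (hAD z)) F) :
          Γ(X, A z)) := by
      have e1 : V.presheaf.map (homOfLE (π.preimage_mono (hAD z))).op ≫
          j.appLE (π ⁻¹ᵁ (A z)) (A z) (le_preimage_section B.comp (A z)) = j.appLE _ _ (hle z) :=
        Scheme.Hom.map_appLE _ _ _
      exact congr($e1 F).symm
    rw [h2, h1, map_zero]
    unfold fn
    rw [map_mul, map_pow, B.zero, zero_pow hn.ne', mul_zero]

end secfun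

end K30.Grauert2

end
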