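import Groth.Agent.EGA2.K30.SymLine
import Groth.Agent.EGA2.K35.GammaIso
import Groth.Agent.EGA2.K37.SpecBase
import Groth.Prelude.Def_RelSpec2

/-!
# Line bundles with their zero section, abstractly

`LineBdl L π j`: `π : V ⟶ X` is an affine morphism with a section `j` and, for `A` affine in `X`, maps
`tau : Γ(L, A) → Γ(V, π⁻¹A)`, linear and compatible with restriction, with values vanishing on the zero section, such
that `Γ(V, π⁻¹A)` is the polynomial ring over `Γ(X, A)` in the variable `tau e` for every generator `e` of `L` on `A`.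

`ofSym`: the spectrum of the graded symmetric algebra of an invertible module, with its vertex section.
-/

set_option autoImplicit false
universe u

open CategoryTheory CategoryTheory.Limits AlgebraicGeometry Opposite TopologicalSpace

namespace K30.LBdl

open K36.SymAlg Groth.Agent.Fdesc.LocGen

variable {X V : Scheme.{u}}

theorem le_preimage_section {π : V ⟶ X} {j : X ⟶ V} (h : j ≫ π = 𝟙 X) (A : X.Opens) :
    A ≤ j ⁻¹ᵁ (π ⁻¹ᵁ A) := by
  rw [← Scheme.Hom.comp_preimage, h]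
  exact le_rfl

/-- The line bundle of `L` with its zero section. -/
structure LineBdl (L : X.Modules) (π : V ⟶ X) (j : X ⟶ V) where
  affine : IsAffineHom π
  comp : j ≫ π = 𝟙 X
  tau : ∀ (A : X.Opens), IsAffineOpen A → Γ(L, A) →+ Γ(V, π ⁻¹ᵁ A)
  tau_smul : ∀ (A : X.Opens) (hA : IsAffineOpen A) (a : Γ(X, A)) (e : Γ(L, A)),
    tau A hA (a • e) = (π.app A a : Γ(V, π ⁻¹ᵁ A)) * tau A hA e
  tau_res : ∀ (A A' : X.Opens) (hA : IsAffineOpen A) (hA' : IsAffineOpen A') (i : A' ≤ A) (e : Γ(L, A)),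
    ores (π.preimage_mono i) (tau A hA e) = tau A' hA' (res L i e)
  zero : ∀ (A : X.Opens) (hA : IsAffineOpen A) (e : Γ(L, A)),
    j.appLE (π ⁻¹ᵁ A) A (le_preimage_section comp A) (tau A hA e) = 0
  bij : ∀ (A : X.Opens) (hA : IsAffineOpen A) (e : Γ(L, A)), IsGen e →
    Function.Bijective (Polynomial.eval₂RingHom (π.app A).hom (tau A hA e))

section ofSym

variable {L : X.Modules} {𝒜 : RelProj.QCGrAlg X} {jL : L ⟶ 𝒜.toModule}

/-- The identification of the functions on the preimage of an affine open with the sections of the algebra. -/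
noncomputable def gam (𝒜 : RelSpec.QCAlg X) (A : X.Opens) (hA : IsAffineOpen A) :
    Γ(𝒜.spec, 𝒜.π ⁻¹ᵁ A) ≃+* 𝒜.presheaf.obj (op A) :=
  RingEquiv.ofBijective (𝒜.gammaAff A hA).hom
    (by
      have := K35.GammaIso.isIso_gammaAff 𝒜 A hA
      exact ConcreteCategory.bijective_of_isIso (𝒜.gammaAff A hA))

theorem gam_apply (𝒜 : RelSpec.QCAlg X) (A : X.Opens) (hA : IsAffineOpen A) (F : Γ(𝒜.spec, 𝒜.π ⁻¹ᵁ A)) :
    gam 𝒜 A hA F = (𝒜.gammaAff A hA).hom F := rfl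

theorem gam_app (𝒜 : RelSpec.QCAlg X) (A : X.Opens) (hA : IsAffineOpen A) (a : Γ(X, A)) :
    gam 𝒜 A hA (𝒜.π.app A a) = (𝒜.str.app (op A)).hom a :=
  congr($(𝒜.π_app_gammaAff A hA) a)

theorem gam_res (𝒜 : RelSpec.QCAlg X) {A A' : X.Opens} (hA : IsAffineOpen A) (hA' : IsAffineOpen A') (i : A' ≤ A)
    (F : Γ(𝒜.spec, 𝒜.π ⁻¹ᵁ A)) :
    gam 𝒜 A' hA' (ores (𝒜.π.preimage_mono i) F) = (𝒜.presheaf.map (homOfLE i).op).hom (gam 𝒜 A hA F) := by
  have h := 𝒜.gammaMap.naturality (homOfLE i).op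
  rw [𝒜.gammaMap_app A hA, 𝒜.gammaMap_app A' hA'] at h
  exact congr($h F)

theorem fromSpec_appLE {A : X.Opens} (hA : IsAffineOpen A) (e1 : (⊤ : (Spec Γ(X, A)).Opens) ≤ hA.fromSpec ⁻¹ᵁ A) :
    hA.fromSpec.appLE A ⊤ e1 = (Scheme.ΓSpecIso Γ(X, A)).inv := by
  rw [Scheme.Hom.appLE, hA.fromSpec_app_self, Category.assoc, ← Functor.map_comp]
  have : ∀ k : (op ⊤ : (Spec Γ(X, A)).Opensᵒᵖ) ⟶ op ⊤, (Spec Γ(X, A)).presheaf.map k = 𝟙 _ := fun k => by
    rw [Subsingleton.elim k (𝟙 _)]; exact CategoryTheory.Functor.map_id _ _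
  exact (congrArg (fun k => (Scheme.ΓSpecIso Γ(X, A)).inv ≫ k) (this _)).trans (Category.comp_id _)

theorem appLE_eq_of_fromSpec {A : X.Opens} (hA : IsAffineOpen A) {j : X ⟶ V} {W : V.Opens} (h : A ≤ j ⁻¹ᵁ W)
    {Z : CommRingCat.{u}} (α : Z ⟶ Γ(X, A)) (i : Spec Z ⟶ V) (e : (⊤ : (Spec Z).Opens) ≤ i ⁻¹ᵁ W)
    (hc : hA.fromSpec ≫ j = Spec.map α ≫ i) :
    j.appLE W A h = i.appLE W ⊤ e ≫ (Scheme.ΓSpecIso Z).hom ≫ α := by
  have e1 : (⊤ : (Spec Γ(X, A)).Opens) ≤ hA.fromSpec ⁻¹ᵁ A := by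
    rw [hA.fromSpec_preimage_self]
  have e2 : (⊤ : (Spec Γ(X, A)).Opens) ≤ (hA.fromSpec ≫ j) ⁻¹ᵁ W := by
    rw [Scheme.Hom.comp_preimage]
    exact e1.trans (hA.fromSpec.preimage_mono h)
  have e3 : (⊤ : (Spec Γ(X, A)).Opens) ≤ (Spec.map α) ⁻¹ᵁ ⊤ := le_rfl
  have h1 : j.appLE W A h ≫ (Scheme.ΓSpecIso Γ(X, A)).inv = (hA.fromSpec ≫ j).appLE W ⊤ e2 := by
    rw [← fromSpec_appLE hA e1, Scheme.Hom.appLE_comp_appLE]
  have e4 : (⊤ : (Spec Γ(X, A)).Opens) ≤ (Spec.map α ≫ i) ⁻¹ᵁ W := hc ▸ e2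
  have h2 : (hA.fromSpec ≫ j).appLE W ⊤ e2 = (Spec.map α ≫ i).appLE W ⊤ e4 := by
    congr 1
  have h3 : (Spec.map α ≫ i).appLE W ⊤ e4 = i.appLE W ⊤ e ≫ (Spec.map α).appLE ⊤ ⊤ e3 := by
    rw [Scheme.Hom.appLE_comp_appLE]
  have h4 : (Spec.map α).appLE ⊤ ⊤ e3 = (Spec.map α).appTop := Scheme.Hom.appLE_eq_app _
  have h5 := Scheme.ΓSpecIso_naturality α
  rw [h2, h3, h4] at h1
  rw [← cancel_mono (Scheme.ΓSpecIso Γ(X, A)).inv, h1, Category.assoc, Category.assoc, ← Scheme.ΓSpecIso_naturality_assoc]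
  rw [Iso.hom_inv_id, Category.comp_id]

/-- A section of the relative spectrum given on charts by an algebra homomorphism: values on functions. -/
theorem app_of_chart {𝒜 : RelSpec.QCAlg X} {j : X ⟶ 𝒜.spec} (comp : j ≫ 𝒜.π = 𝟙 X)
    (aug : 𝒜 ⟶ RelSpec.QCAlg.unit X) (A : X.Opens) (hA : IsAffineOpen A)
    (h : hA.fromSpec ≫ j = Spec.map (aug.hom.app (op A)) ≫ 𝒜.ι A hA) (F : Γ(𝒜.spec, 𝒜.π ⁻¹ᵁ A)) :
    j.appLE (𝒜.π ⁻¹ᵁ A) A (le_preimage_section comp A) F = (aug.hom.app (op A)).hom (gam 𝒜 A hA F) := by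
  have h1 := appLE_eq_of_fromSpec hA (le_preimage_section comp A) (aug.hom.app (op A)) (𝒜.ι A hA)
    (𝒜.top_le_preimage A hA) h
  exact congr($h1 F)

/-- The spectrum of the graded symmetric algebra of `L`, with the vertex section. -/
noncomputable def ofSym (hLq : Coh.IsQCoh L) (hS : RelProj.IsGrSymAlg L 𝒜 jL)
    (aug : 𝒜.toQCAlg ⟶ RelSpec.QCAlg.unit X) (haug : RelCone.IsAugmentation 𝒜 aug)
    (j0 : X ⟶ 𝒜.toQCAlg.spec) (hj0 : RelCone.IsVertex 𝒜 aug j0) : LineBdl L 𝒜.toQCAlg.π j0 where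
  affine := inferInstance
  comp := hj0.comp_π
  tau A hA := (gam 𝒜.toQCAlg A hA).symm.toAddMonoidHom.comp (jApp L 𝒜.toQCAlg jL A)
  tau_smul A hA a e := by
    change (gam 𝒜.toQCAlg A hA).symm (jApp L 𝒜.toQCAlg jL A (a • e)) =
      _ * (gam 𝒜.toQCAlg A hA).symm (jApp L 𝒜.toQCAlg jL A e)
    rw [RingEquiv.symm_apply_eq, map_mul, RingEquiv.apply_symm_apply, gam_app, jApp_smul]
  tau_res A A' hA hA' i e := by
    change ores _ ((gam 𝒜.toQCAlg A hA).symm (jApp L 𝒜.toQCAlg jL A e)) =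
      (gam 𝒜.toQCAlg A' hA').symm (jApp L 𝒜.toQCAlg jL A' (res L i e))
    rw [RingEquiv.eq_symm_apply, gam_res 𝒜.toQCAlg hA hA' i, RingEquiv.apply_symm_apply]
    exact (jApp_res L 𝒜.toQCAlg jL i e).symm
  zero A hA e := by
    rw [app_of_chart hj0.comp_π aug A hA (hj0.chart A hA)]
    change (aug.hom.app (op A)).hom (gam 𝒜.toQCAlg A hA ((gam 𝒜.toQCAlg A hA).symm (jApp L 𝒜.toQCAlg jL A e))) = 0
    rw [RingEquiv.apply_symm_apply]
    exact haug A hA 0 _ (hS.2 A hA e)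
  bij A hA e he := by
    have h1 := K30.SymLine.bijective_eval₂ hLq hS.1 hA he
    have h2 : ((gam 𝒜.toQCAlg A hA : Γ(𝒜.toQCAlg.spec, 𝒜.toQCAlg.π ⁻¹ᵁ A) →+* _)).comp
        (Polynomial.eval₂RingHom (𝒜.toQCAlg.π.app A).hom
          ((gam 𝒜.toQCAlg A hA).symm (jApp L 𝒜.toQCAlg jL A e))) =
        Polynomial.eval₂RingHom (𝒜.toQCAlg.str.app (op A)).hom (jApp L 𝒜.toQCAlg jL A e) := by
      apply Polynomial.ringHom_ext
      · intro a
        rw [RingHom.comp_apply, Polynomial.coe_eval₂RingHom, Polynomial.coe_eval₂RingHom, Polynomial.eval₂_C,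
          Polynomial.eval₂_C]
        exact gam_app 𝒜.toQCAlg A hA a
      · rw [RingHom.comp_apply, Polynomial.coe_eval₂RingHom, Polynomial.coe_eval₂RingHom, Polynomial.eval₂_X,
          Polynomial.eval₂_X]
        exact RingEquiv.apply_symm_apply _ _
    rw [← h2] at h1
    exact (Function.Bijective.of_comp_iff' (gam 𝒜.toQCAlg A hA).bijective _).1 h1

end ofSym

end K30.LBdl
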