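import Groth.Agent.EGA2.K30.LineBdl

/-!
# Evaluation of functions along morphisms from the spectrum of a ring

`ev i W h : Γ(V, W) →+* B` for `i : Spec B ⟶ V` landing in the open `W`.
-/

set_option autoImplicit false
universe u

open CategoryTheory CategoryTheory.Limits AlgebraicGeometry Opposite TopologicalSpace

namespace K30.EvSpec

open Groth.Agent.Fdesc.LocGen

variable {V X : Scheme.{u}} {B B' : CommRingCat.{u}}

/-- Evaluation along `i : Spec B ⟶ V`. -/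
noncomputable def ev (i : Spec B ⟶ V) (W : V.Opens) (h : (⊤ : (Spec B).Opens) ≤ i ⁻¹ᵁ W) : Γ(V, W) →+* B :=
  (i.appLE W ⊤ h ≫ (Scheme.ΓSpecIso B).hom).hom

theorem ev_apply (i : Spec B ⟶ V) (W : V.Opens) (h : (⊤ : (Spec B).Opens) ≤ i ⁻¹ᵁ W) (F : Γ(V, W)) :
    ev i W h F = (Scheme.ΓSpecIso B).hom (i.appLE W ⊤ h F) := rfl

theorem ev_res (i : Spec B ⟶ V) {W W' : V.Opens} (h : (⊤ : (Spec B).Opens) ≤ i ⁻¹ᵁ W') (hW : W' ≤ W)
    (h' : (⊤ : (Spec B).Opens) ≤ i ⁻¹ᵁ W) (F : Γ(V, W)) :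
    ev i W' h (ores hW F) = ev i W h' F := by
  rw [ev_apply, ev_apply]
  congr 1
  have : V.presheaf.map (homOfLE hW).op ≫ i.appLE W' ⊤ h = i.appLE W ⊤ h' := Scheme.Hom.map_appLE _ _ _
  exact congr($this F)

theorem ev_comp (i : Spec B ⟶ V) (α : B ⟶ B') (i' : Spec B' ⟶ V) (hi : i' = Spec.map α ≫ i) (W : V.Opens)
    (h : (⊤ : (Spec B).Opens) ≤ i ⁻¹ᵁ W) (h' : (⊤ : (Spec B').Opens) ≤ i' ⁻¹ᵁ W) (F : Γ(V, W)) :
    ev i' W h' F = α.hom (ev i W h F) := by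
  subst hi
  have e3 : (⊤ : (Spec B').Opens) ≤ (Spec.map α) ⁻¹ᵁ ⊤ := le_rfl
  have h3 : (Spec.map α ≫ i).appLE W ⊤ h' = i.appLE W ⊤ h ≫ (Spec.map α).appLE ⊤ ⊤ e3 := by
    rw [Scheme.Hom.appLE_comp_appLE]
  have h4 : (Spec.map α).appLE ⊤ ⊤ e3 = (Spec.map α).appTop := Scheme.Hom.appLE_eq_app _
  rw [h4] at h3
  have h5 : (Spec.map α ≫ i).appLE W ⊤ h' ≫ (Scheme.ΓSpecIso B').hom =
      (i.appLE W ⊤ h ≫ (Scheme.ΓSpecIso B).hom) ≫ α := by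
    rw [h3, Category.assoc, Category.assoc, Scheme.ΓSpecIso_naturality]
  exact congr($h5 F)

theorem ev_fromSpec {A : V.Opens} (hA : IsAffineOpen A) (h : (⊤ : (Spec Γ(V, A)).Opens) ≤ hA.fromSpec ⁻¹ᵁ A)
    (F : Γ(V, A)) : ev hA.fromSpec A h F = F := by
  rw [ev_apply, K30.LBdl.fromSpec_appLE]
  exact congr($((Scheme.ΓSpecIso Γ(V, A)).inv_hom_id) F)

theorem top_le_of_comp {A : V.Opens} (hA : IsAffineOpen A) (α : Γ(V, A) ⟶ B) (i : Spec B ⟶ V)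
    (hi : i = Spec.map α ≫ hA.fromSpec) : (⊤ : (Spec B).Opens) ≤ i ⁻¹ᵁ A := by
  subst hi
  rw [Scheme.Hom.comp_preimage, hA.fromSpec_preimage_self]
  exact le_rfl

theorem ev_of_comp {A : V.Opens} (hA : IsAffineOpen A) (α : Γ(V, A) ⟶ B) (i : Spec B ⟶ V)
    (hi : i = Spec.map α ≫ hA.fromSpec) (h : (⊤ : (Spec B).Opens) ≤ i ⁻¹ᵁ A) (F : Γ(V, A)) :
    ev i A h F = α.hom F := by
  rw [ev_comp hA.fromSpec α i hi A (by rw [hA.fromSpec_preimage_self]), ev_fromSpec]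

theorem ev_of_comp_le {A W : V.Opens} (hA : IsAffineOpen A) (α : Γ(V, A) ⟶ B) (i : Spec B ⟶ V)
    (hi : i = Spec.map α ≫ hA.fromSpec) (hAW : A ≤ W) (h : (⊤ : (Spec B).Opens) ≤ i ⁻¹ᵁ W) (F : Γ(V, W)) :
    ev i W h F = α.hom (ores hAW F) := by
  rw [← ev_of_comp hA α i hi (top_le_of_comp hA α i hi), ev_res i _ hAW h]

/-- Morphisms to an affine open are determined by the evaluation. -/
theorem eq_of_ev {A : V.Opens} (hA : IsAffineOpen A) (i : Spec B ⟶ V) (h : (⊤ : (Spec B).Opens) ≤ i ⁻¹ᵁ A) :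
    i = Spec.map (CommRingCat.ofHom (ev i A h)) ≫ hA.fromSpec := by
  have h1 := IsAffineOpen.SpecMap_appLE_fromSpec i hA (isAffineOpen_top (Spec B)) h
  rw [IsAffineOpen.fromSpec_top] at h1
  have h2 : CommRingCat.ofHom (ev i A h) = i.appLE A ⊤ h ≫ (Scheme.ΓSpecIso B).hom := rfl
  rw [h2, Spec.map_comp, Category.assoc, h1, ← Category.assoc]
  have h3 : Spec.map (Scheme.ΓSpecIso B).hom ≫ (Spec B).isoSpec.inv = 𝟙 _ := by
    rw [← Scheme.isoSpec_Spec_hom, Iso.hom_inv_id]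
  rw [h3]
  exact (Category.id_comp _).symm

theorem ev_mem_iff (i : Spec B ⟶ V) (W : V.Opens) (h : (⊤ : (Spec B).Opens) ≤ i ⁻¹ᵁ W) (F : Γ(V, W))
    (y : Spec B) : i y ∈ V.basicOpen F ↔ ev i W h F ∉ y.asIdeal := by
  have h1 : (Spec B).basicOpen (i.appLE W ⊤ h F) = i ⁻¹ᵁ (V.basicOpen F) := by
    have e : i.appLE W ⊤ h F = (Spec B).presheaf.map (homOfLE h).op (i.app W F) := rfl
    rw [e, Scheme.basicOpen_res, ← Scheme.preimage_basicOpen]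
    exact top_inf_eq _
  have h2 : i y ∈ V.basicOpen F ↔ y ∈ (Spec B).basicOpen (i.appLE W ⊤ h F) := by
    rw [h1]
    rfl
  rw [h2, basicOpen_eq_of_affine']
  rfl

end K30.EvSpec
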