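import Groth.Agent.CohqB.RelSpec
import Groth.Agent.Ega2.H278.AlgOf
import Groth.Agent.EGA2.K30.Contr
import Groth.Agent.EGA2.K30.EvSpec
import Groth.Prelude.Def_RelSpec

/-!
# The contraction of a closed subscheme over the base

For `j : X ⟶ V` and `h : V ⟶ Y` (quasi-compact quasi-separated, `j ≫ h` quasi-compact and quasi-separated) the
relative spectrum `C` over `Y` of the algebra of pairs `(F, a)` with `j^*F = j^*h^*a`, with `q : V ⟶ C` and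
`ε : Y ⟶ C`.
-/

set_option autoImplicit false
universe u

open CategoryTheory CategoryTheory.Limits AlgebraicGeometry Opposite TopologicalSpace

noncomputable section

namespace K30.FibAlg

open Groth.Agent.Fdesc.LocGen K30.Ctr K30.EvSpec

section loc

variable {V Y : Scheme.{u}} (h : V ⟶ Y) [QuasiCompact h] [QuasiSeparated h] {U : Y.Opens} (hU : IsAffineOpen U)
  (f : Γ(Y, U))

include hU in
theorem surj_loc (G : Γ(V, h ⁻¹ᵁ (Y.basicOpen f))) : ∃ (n : ℕ) (F : Γ(V, h ⁻¹ᵁ U)),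
    G * (ores (h.preimage_mono (Y.basicOpen_le f)) (h.app U f : Γ(V, h ⁻¹ᵁ U))) ^ n =
      ores (h.preimage_mono (Y.basicOpen_le f)) F := by
  let := ((h.base _* V.presheaf).map (homOfLE (Y.basicOpen_le f)).op).hom.toAlgebra
  have hQ : IsLocalization.Away ((h.c.app (op U)).hom f) ((h.base _* V.presheaf).obj (op (Y.basicOpen f))) :=
    RelSpec.QCAlg.isQC_pushforward h U hU f
  exact IsLocalization.Away.surj (S := (h.base _* V.presheaf).obj (op (Y.basicOpen f)))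
    ((h.c.app (op U)).hom f) G

include hU in
theorem inj_loc (F : Γ(V, h ⁻¹ᵁ U)) (hF : ores (h.preimage_mono (Y.basicOpen_le f)) F = 0) :
    ∃ n : ℕ, (h.app U f : Γ(V, h ⁻¹ᵁ U)) ^ n * F = 0 := by
  let := ((h.base _* V.presheaf).map (homOfLE (Y.basicOpen_le f)).op).hom.toAlgebra
  have hQ : IsLocalization.Away ((h.c.app (op U)).hom f) ((h.base _* V.presheaf).obj (op (Y.basicOpen f))) :=
    RelSpec.QCAlg.isQC_pushforward h U hU f
  obtain ⟨n, hn⟩ := IsLocalization.Away.exists_of_eq (S := (h.base _* V.presheaf).obj (op (Y.basicOpen f)))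
    ((h.c.app (op U)).hom f) (a := F) (b := (0 : Γ(V, h ⁻¹ᵁ U))) (by
      rw [map_zero]
      exact hF)
  refine ⟨n, ?_⟩
  rw [mul_zero] at hn
  exact hn

include hU in
omit [QuasiCompact h] [QuasiSeparated h] in
theorem surj_base (a : Γ(Y, Y.basicOpen f)) : ∃ (n : ℕ) (b : Γ(Y, U)),
    a * (ores (Y.basicOpen_le f) f) ^ n = ores (Y.basicOpen_le f) b := by
  let := (Y.presheaf.map (homOfLE (Y.basicOpen_le f)).op).hom.toAlgebra
  have hQ : IsLocalization.Away f Γ(Y, Y.basicOpen f) := hU.isLocalization_basicOpen f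
  exact IsLocalization.Away.surj (S := Γ(Y, Y.basicOpen f)) f a

include hU in
omit [QuasiCompact h] [QuasiSeparated h] in
theorem inj_base (a : Γ(Y, U)) (ha : ores (Y.basicOpen_le f) a = 0) : ∃ n : ℕ, f ^ n * a = 0 := by
  let := (Y.presheaf.map (homOfLE (Y.basicOpen_le f)).op).hom.toAlgebra
  have hQ : IsLocalization.Away f Γ(Y, Y.basicOpen f) := hU.isLocalization_basicOpen f
  obtain ⟨n, hn⟩ := IsLocalization.Away.exists_of_eq (S := Γ(Y, Y.basicOpen f)) f (a := a) (b := 0) (by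
    rw [map_zero]
    exact ha)
  exact ⟨n, by rw [hn, mul_zero]⟩

end loc

theorem ι_appLE_top {T : Scheme.{u}} (W : T.Opens) (e : (⊤ : W.toScheme.Opens) ≤ W.ι ⁻¹ᵁ W) :
    W.ι.appLE W ⊤ e = W.topIso.inv := by
  rw [Scheme.Hom.appLE, Scheme.Opens.ι_app, Scheme.Opens.topIso_inv]
  exact (T.presheaf.map_comp (homOfLE _).op (W.ι.opensFunctor.op.map (homOfLE e).op)).symm

theorem appLE_of_ι_eq {T C : Scheme.{u}} (r : T ⟶ C) (W : T.Opens) {B : CommRingCat.{u}} (ψ : B ⟶ Γ(T, W))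
    (i : Spec B ⟶ C) (hr : W.ι ≫ r = W.toSpecΓ ≫ Spec.map ψ ≫ i) (O : C.Opens)
    (hO : (⊤ : (Spec B).Opens) ≤ i ⁻¹ᵁ O) (e : W ≤ r ⁻¹ᵁ O) :
    r.appLE O W e = CommRingCat.ofHom (ev i O hO) ≫ ψ := by
  have e1 : (⊤ : W.toScheme.Opens) ≤ W.ι ⁻¹ᵁ W := by rw [Scheme.Opens.ι_preimage_self]
  have e2 : (⊤ : W.toScheme.Opens) ≤ (W.ι ≫ r) ⁻¹ᵁ O := e1.trans (W.ι.preimage_mono e)
  have h1 : (W.ι ≫ r).appLE O ⊤ e2 = r.appLE O W e ≫ W.topIso.inv := by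
    rw [← ι_appLE_top W e1, Scheme.Hom.appLE_comp_appLE]
  have e3 : (⊤ : (Spec Γ(T, W)).Opens) ≤ (Spec.map ψ) ⁻¹ᵁ ⊤ := le_rfl
  have e4 : (⊤ : W.toScheme.Opens) ≤ W.toSpecΓ ⁻¹ᵁ ⊤ := le_rfl
  have h2 : ∀ (k : W.toScheme ⟶ C) (_ : k = W.toSpecΓ ≫ Spec.map ψ ≫ i) (e5 : (⊤ : W.toScheme.Opens) ≤ k ⁻¹ᵁ O),
      k.appLE O ⊤ e5 = i.appLE O ⊤ hO ≫ (Spec.map ψ).appLE ⊤ ⊤ e3 ≫ W.toSpecΓ.appLE ⊤ ⊤ e4 := by
    rintro k rfl e5
    rw [Scheme.Hom.appLE_comp_appLE, Scheme.Hom.appLE_comp_appLE]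
    simp only [Category.assoc]
  have h3 := (h2 _ hr e2).symm.trans h1
  have h4 : (Spec.map ψ).appLE ⊤ ⊤ e3 = (Spec.map ψ).appTop := Scheme.Hom.appLE_eq_app _
  have h5 : W.toSpecΓ.appLE ⊤ ⊤ e4 = W.toSpecΓ.appTop := Scheme.Hom.appLE_eq_app _
  rw [h4, h5, Scheme.Opens.toSpecΓ_appTop, Scheme.ΓSpecIso_naturality_assoc] at h3
  rw [← cancel_mono W.topIso.inv, ← h3]
  have h6 : CommRingCat.ofHom (ev i O hO) = i.appLE O ⊤ hO ≫ (Scheme.ΓSpecIso B).hom := rfl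
  rw [h6]
  simp only [Category.assoc]

variable {X V Y : Scheme.{u}} (j : X ⟶ V) (h : V ⟶ Y)

/-- The ring of pairs. -/
def sub (U : Y.Opens) : Subring (Γ(V, h ⁻¹ᵁ U) × Γ(Y, U)) :=
  ((j.app (h ⁻¹ᵁ U)).hom.comp (RingHom.fst _ _)).eqLocus
    ((j.app (h ⁻¹ᵁ U)).hom.comp ((h.app U).hom.comp (RingHom.snd _ _)))

theorem mem_sub {U : Y.Opens} {x : Γ(V, h ⁻¹ᵁ U) × Γ(Y, U)} :
    x ∈ sub j h U ↔ (j.app (h ⁻¹ᵁ U) x.1 : Γ(X, j ⁻¹ᵁ (h ⁻¹ᵁ U))) = j.app (h ⁻¹ᵁ U) (h.app U x.2) := Iff.rfl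

/-- Restriction of pairs. -/
def resPair {U U' : Y.Opens} (i : U' ≤ U) : Γ(V, h ⁻¹ᵁ U) × Γ(Y, U) →+* Γ(V, h ⁻¹ᵁ U') × Γ(Y, U') :=
  RingHom.prodMap (ores (h.preimage_mono i)) (ores i)

theorem ores_app {U U' : Y.Opens} (i : U' ≤ U) (a : Γ(Y, U)) :
    ores (h.preimage_mono i) (h.app U a : Γ(V, h ⁻¹ᵁ U)) = (h.app U' (ores i a) : Γ(V, h ⁻¹ᵁ U')) :=
  congr($(h.naturality (homOfLE i).op) a).symm

theorem resPair_mem {U U' : Y.Opens} (i : U' ≤ U) (x : Γ(V, h ⁻¹ᵁ U) × Γ(Y, U)) (hx : x ∈ sub j h U) :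
    resPair h i x ∈ sub j h U' := by
  rw [mem_sub] at hx ⊢
  change (j.app (h ⁻¹ᵁ U') (ores (h.preimage_mono i) x.1) : Γ(X, j ⁻¹ᵁ (h ⁻¹ᵁ U'))) =
    j.app (h ⁻¹ᵁ U') (h.app U' (ores i x.2))
  rw [← ores_app h i, ← ores_app j (h.preimage_mono i), ← ores_app j (h.preimage_mono i), hx]

/-- Restriction. -/
def resSub {U U' : Y.Opens} (i : U' ≤ U) : sub j h U →+* sub j h U' :=
  (resPair h i).restrict _ _ (resPair_mem j h i)

theorem resSub_fst {U U' : Y.Opens} (i : U' ≤ U) (x : sub j h U) :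
    (resSub j h i x).1.1 = ores (h.preimage_mono i) x.1.1 := rfl

theorem resSub_snd {U U' : Y.Opens} (i : U' ≤ U) (x : sub j h U) :
    (resSub j h i x).1.2 = ores i x.1.2 := rfl

/-- The structure map. -/
def strSub (U : Y.Opens) : Γ(Y, U) →+* sub j h U :=
  ((h.app U).hom.prod (RingHom.id _)).codRestrict _ fun _ => rfl

theorem strSub_fst {U : Y.Opens} (a : Γ(Y, U)) : (strSub j h U a).1.1 = h.app U a := rfl
theorem strSub_snd {U : Y.Opens} (a : Γ(Y, U)) : (strSub j h U a).1.2 = a := rfl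

theorem isLocalization [QuasiCompact h] [QuasiSeparated h] [QuasiCompact (j ≫ h)] [QuasiSeparated (j ≫ h)]
    {U : Y.Opens} (hU : IsAffineOpen U) (f : Γ(Y, U)) :
    letI := (resSub j h (Y.basicOpen_le f)).toAlgebra
    IsLocalization.Away (strSub j h U f) (sub j h (Y.basicOpen f)) := by
  let i := Y.basicOpen_le f
  let alg := (resSub j h i).toAlgebra
  have hun : IsUnit (ores i f) := by
    have := Y.toRingedSpace.isUnit_res_basicOpen f
    exact this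
  have hstr : ∀ a : Γ(Y, U), resSub j h i (strSub j h U a) = strSub j h _ (ores i a) := by
    intro a
    refine Subtype.ext (Prod.ext ?_ rfl)
    exact ores_app h i a
  refine IsLocalization.Away.mk (strSub j h U f) ?_ ?_ ?_
  · change IsUnit (resSub j h i (strSub j h U f))
    rw [hstr]
    exact hun.map (strSub j h _)
  · rintro ⟨⟨G, a⟩, hGa⟩
    obtain ⟨n₁, F₁, h₁⟩ := surj_loc h hU f G
    obtain ⟨n₂, a₂, h₂⟩ := surj_base hU f a
    -- common exponent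
    let F₂ : Γ(V, h ⁻¹ᵁ U) := F₁ * (h.app U f) ^ n₂
    let a₃ : Γ(Y, U) := a₂ * f ^ n₁
    have e₁ : ores (h.preimage_mono i) F₂ = G * (ores (h.preimage_mono i) (h.app U f)) ^ (n₁ + n₂) := by
      change ores _ (F₁ * (h.app U f) ^ n₂) = _
      rw [map_mul, ← h₁, map_pow, pow_add, mul_assoc]
    have e₂ : ores i a₃ = a * ores i f ^ (n₁ + n₂) := by
      change ores _ (a₂ * f ^ n₁) = _
      rw [map_mul, ← h₂, map_pow, pow_add]
      ring
    have hz : ores (j.preimage_mono (h.preimage_mono i))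
        ((j.app (h ⁻¹ᵁ U) F₂ : Γ(X, j ⁻¹ᵁ (h ⁻¹ᵁ U))) - j.app (h ⁻¹ᵁ U) (h.app U a₃)) = 0 := by
      rw [map_sub, ores_app j (h.preimage_mono i), ores_app j (h.preimage_mono i), ores_app h i, e₁, e₂, map_mul,
        map_mul, map_mul]
      rw [mem_sub] at hGa
      dsimp only at hGa
      rw [hGa, map_pow, map_pow, map_pow, ores_app h i, sub_self]
    obtain ⟨m, hm⟩ := inj_loc (j ≫ h) hU f
      ((j.app (h ⁻¹ᵁ U) F₂ : Γ(X, j ⁻¹ᵁ (h ⁻¹ᵁ U))) - j.app (h ⁻¹ᵁ U) (h.app U a₃)) hz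
    have hm' : (j.app (h ⁻¹ᵁ U) (h.app U f) : Γ(X, j ⁻¹ᵁ (h ⁻¹ᵁ U))) ^ m *
        ((j.app (h ⁻¹ᵁ U) F₂ : Γ(X, j ⁻¹ᵁ (h ⁻¹ᵁ U))) - j.app (h ⁻¹ᵁ U) (h.app U a₃)) = 0 := by
      rw [Scheme.Hom.comp_app] at hm
      exact hm
    refine ⟨n₁ + n₂ + m, ⟨(F₂ * (h.app U f) ^ m, a₃ * f ^ m), ?_⟩, ?_⟩
    · have e₃ : (h.app U (a₃ * f ^ m) : Γ(V, h ⁻¹ᵁ U)) = h.app U a₃ * (h.app U f) ^ m := by
        rw [map_mul, map_pow]
      rw [mem_sub]
      dsimp only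
      rw [e₃]
      generalize F₂ = F₃ at hm' ⊢
      rw [map_mul, map_pow, map_mul, map_pow, ← sub_eq_zero, ← sub_mul, mul_comm]
      exact hm'
    · refine Subtype.ext (Prod.ext ?_ ?_)
      · change G * (ores (h.preimage_mono i) (h.app U f)) ^ (n₁ + n₂ + m) =
          ores (h.preimage_mono i) (F₂ * (h.app U f) ^ m)
        rw [map_mul, e₁, map_pow, pow_add _ (n₁ + n₂) m, mul_assoc]
      · change a * (ores i f) ^ (n₁ + n₂ + m) = ores i (a₃ * f ^ m)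
        rw [map_mul, e₂, map_pow, pow_add _ (n₁ + n₂) m, mul_assoc]
  · rintro x y hxy
    have hxy' : resSub j h i (x - y) = 0 := by rw [map_sub, sub_eq_zero]; exact hxy
    obtain ⟨n₁, h₁⟩ := inj_loc h hU f (x - y).1.1 (congrArg (fun z => z.1.1) hxy')
    obtain ⟨n₂, h₂⟩ := inj_base hU f (x - y).1.2 (congrArg (fun z => z.1.2) hxy')
    refine ⟨n₁ + n₂, ?_⟩
    rw [← sub_eq_zero, ← mul_sub]
    refine Subtype.ext (Prod.ext ?_ ?_)
    · change (h.app U f) ^ (n₁ + n₂) * (x - y).1.1 = 0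
      rw [pow_add, mul_right_comm, h₁, zero_mul]
    · change f ^ (n₁ + n₂) * (x - y).1.2 = 0
      rw [pow_add, mul_assoc, h₂, mul_zero]

theorem resSub_refl {U : Y.Opens} (i : U ≤ U) (x : sub j h U) : resSub j h i x = x :=
  Subtype.ext (Prod.ext (ores_refl x.1.1) (ores_refl x.1.2))

theorem resSub_resSub {U U' U'' : Y.Opens} (i : U' ≤ U) (i' : U'' ≤ U') (x : sub j h U) :
    resSub j h i' (resSub j h i x) = resSub j h (i'.trans i) x :=
  Subtype.ext (Prod.ext (ores_ores _ _ x.1.1) (ores_ores _ _ x.1.2))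

/-- The presheaf of pairs. -/
def pre : Y.Opensᵒᵖ ⥤ CommRingCat.{u} where
  obj U := CommRingCat.of (sub j h U.unop)
  map i := CommRingCat.ofHom (resSub j h i.unop.le)
  map_id U := by
    refine CommRingCat.hom_ext (RingHom.ext fun x => ?_)
    exact resSub_refl j h _ x
  map_comp i k := by
    refine CommRingCat.hom_ext (RingHom.ext fun x => ?_)
    exact (resSub_resSub j h _ _ x).symm

/-- The structure map. -/
def str : Y.presheaf ⟶ pre j h where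
  app U := CommRingCat.ofHom (strSub j h U.unop)
  naturality U U' i := by
    refine CommRingCat.hom_ext (RingHom.ext fun a => ?_)
    refine Subtype.ext (Prod.ext ?_ rfl)
    exact (ores_app h i.unop.le a).symm

variable [QuasiCompact h] [QuasiSeparated h] [QuasiCompact (j ≫ h)] [QuasiSeparated (j ≫ h)]

theorem coequifibered :
    ((Scheme.AffineZariskiSite.toOpensFunctor Y).op.whiskerLeft (str j h)).Coequifibered :=
  Scheme.AffineZariskiSite.coequifibered_iff_forall_isLocalizationAway.mpr fun U r =>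
    isLocalization j h U.2 r

/-- The contraction. -/
def C : Scheme.{u} := Groth.Agent.CohqB.RelSpec.obj (coequifibered j h)

/-- Its structure morphism. -/
def g : C j h ⟶ Y := Groth.Agent.CohqB.RelSpec.toBase (coequifibered j h)

instance : IsAffineHom (g j h) := Groth.Agent.CohqB.RelSpec.isAffineHom_toBase (coequifibered j h)

/-- The chart over an affine open. -/
def chart (U : Y.Opens) (hU : IsAffineOpen U) : Spec (CommRingCat.of (sub j h U)) ⟶ C j h :=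
  Groth.Agent.CohqB.RelSpec.ι (coequifibered j h) ⟨U, hU⟩

instance (U : Y.Opens) (hU : IsAffineOpen U) : IsOpenImmersion (chart j h U hU) :=
  (Groth.Agent.CohqB.RelSpec.cover (coequifibered j h)).map_prop _

theorem g_preimage (U : Y.Opens) (hU : IsAffineOpen U) : g j h ⁻¹ᵁ U = (chart j h U hU).opensRange :=
  Groth.Agent.CohqB.RelSpec.preimage (coequifibered j h) ⟨U, hU⟩

theorem top_le_chart (U : Y.Opens) (hU : IsAffineOpen U) :
    (⊤ : (Spec (CommRingCat.of (sub j h U))).Opens) ≤ chart j h U hU ⁻¹ᵁ (g j h ⁻¹ᵁ U) := by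
  rw [g_preimage j h U hU]
  intro x _
  exact ⟨x, rfl⟩

/-- Functions on the contraction as pairs. -/
def kap (U : Y.Opens) (hU : IsAffineOpen U) : Γ(C j h, g j h ⁻¹ᵁ U) →+* sub j h U :=
  ev (B := CommRingCat.of (sub j h U)) (chart j h U hU) (g j h ⁻¹ᵁ U) (top_le_chart j h U hU)

theorem kap_bijective (U : Y.Opens) (hU : IsAffineOpen U) : Function.Bijective (kap j h U hU) := by
  have h1 : IsIso ((chart j h U hU).app (g j h ⁻¹ᵁ U)) :=
    (chart j h U hU).isIso_app _ (g_preimage j h U hU).le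
  have h2 : (chart j h U hU) ⁻¹ᵁ (g j h ⁻¹ᵁ U) = ⊤ := top_le_iff.mp (top_le_chart j h U hU)
  have h3 : IsIso ((chart j h U hU).appLE (g j h ⁻¹ᵁ U) ⊤ (top_le_chart j h U hU)) := by
    rw [Scheme.Hom.appLE]
    have : (homOfLE (top_le_chart j h U hU)) = eqToHom h2.symm := Subsingleton.elim _ _
    rw [this]
    infer_instance
  have h4 : IsIso ((chart j h U hU).appLE (g j h ⁻¹ᵁ U) ⊤ (top_le_chart j h U hU) ≫
    (Scheme.ΓSpecIso (CommRingCat.of (sub j h U))).hom) := inferInstance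
  exact ConcreteCategory.bijective_of_isIso _

open Groth.Agent.CohqB.RelSpec in
/-- The lifting data of `q`. -/
def dq : LiftData ((Scheme.AffineZariskiSite.toOpensFunctor Y).op.whiskerLeft (str j h)) h where
  ψ U := CommRingCat.ofHom ((RingHom.fst _ _).comp (sub j h U.toOpens).subtype)
  nat i := rfl
  comp U := rfl

open Groth.Agent.CohqB.RelSpec in
/-- The lifting data of `ε`. -/
def de : LiftData ((Scheme.AffineZariskiSite.toOpensFunctor Y).op.whiskerLeft (str j h)) (𝟙 Y) where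
  ψ U := CommRingCat.ofHom ((RingHom.snd _ _).comp (sub j h U.toOpens).subtype) ≫ (𝟙 Y : Y ⟶ Y).app U.toOpens
  nat {U V} i := by
    refine CommRingCat.hom_ext (RingHom.ext fun x => ?_)
    exact congr($((𝟙 Y : Y ⟶ Y).naturality (homOfLE (Scheme.AffineZariskiSite.toOpens_mono i.le)).op) x.1.2)
  comp U := rfl

/-- The morphism `V ⟶ C`. -/
def q : V ⟶ C j h := Groth.Agent.CohqB.RelSpec.lift (coequifibered j h) (dq j h)

/-- The section `Y ⟶ C`. -/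
def ε : Y ⟶ C j h := Groth.Agent.CohqB.RelSpec.lift (coequifibered j h) (de j h)

theorem q_g : q j h ≫ g j h = h := Groth.Agent.CohqB.RelSpec.lift_toBase _ _

theorem ε_g : ε j h ≫ g j h = 𝟙 Y := Groth.Agent.CohqB.RelSpec.lift_toBase _ _

theorem le_q {U : Y.Opens} : h ⁻¹ᵁ U ≤ q j h ⁻¹ᵁ (g j h ⁻¹ᵁ U) := by
  rw [← Scheme.Hom.comp_preimage, q_g]

theorem le_ε {U : Y.Opens} : U ≤ ε j h ⁻¹ᵁ (g j h ⁻¹ᵁ U) := by
  rw [← Scheme.Hom.comp_preimage, ε_g]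
  exact le_rfl

theorem q_appLE {U : Y.Opens} (hU : IsAffineOpen U) (b : Γ(C j h, g j h ⁻¹ᵁ U)) :
    ((q j h).appLE (g j h ⁻¹ᵁ U) (h ⁻¹ᵁ U) (le_q j h) b : Γ(V, h ⁻¹ᵁ U)) = (kap j h U hU b).1.1 := by
  have h1 := appLE_of_ι_eq (q j h) (h ⁻¹ᵁ U) ((dq j h).ψ ⟨U, hU⟩) (chart j h U hU)
    (Groth.Agent.CohqB.RelSpec.ι_lift (coequifibered j h) (dq j h) ⟨U, hU⟩) (g j h ⁻¹ᵁ U) (top_le_chart j h U hU)
    (le_q j h)
  exact congr($h1 b)

theorem ε_appLE {U : Y.Opens} (hU : IsAffineOpen U) (b : Γ(C j h, g j h ⁻¹ᵁ U)) :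
    ((ε j h).appLE (g j h ⁻¹ᵁ U) U (le_ε j h) b : Γ(Y, U)) = (kap j h U hU b).1.2 := by
  have h1 := appLE_of_ι_eq (ε j h) ((𝟙 Y : Y ⟶ Y) ⁻¹ᵁ U) ((de j h).ψ ⟨U, hU⟩) (chart j h U hU)
    (Groth.Agent.CohqB.RelSpec.ι_lift (coequifibered j h) (de j h) ⟨U, hU⟩) (g j h ⁻¹ᵁ U) (top_le_chart j h U hU)
    (le_ε j h)
  exact congr($h1 b)

theorem j_q : j ≫ q j h = (j ≫ h) ≫ ε j h := by
  have w1 : (j ≫ q j h) ≫ g j h = j ≫ h := by rw [Category.assoc, q_g]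
  have w2 : ((j ≫ h) ≫ ε j h) ≫ g j h = j ≫ h := by rw [Category.assoc, ε_g, Category.comp_id]
  have key := Groth.Agent.Ega2.H278.AlgOf.injective (g j h) (j ≫ h)
    (a₁ := ⟨j ≫ q j h, w1⟩) (a₂ := ⟨(j ≫ h) ≫ ε j h, w2⟩) (Subtype.ext
      (Groth.Agent.Ega2.H278.AlgOf.hom_ext _ _ _ _ fun U => by
        change (AffAlg.algHom (g j h) (j ≫ h) (j ≫ q j h) w1).app (op U.1) =
          (AffAlg.algHom (g j h) (j ≫ h) ((j ≫ h) ≫ ε j h) w2).app (op U.1)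
        rw [Groth.Agent.Ega2.H278.AlgOf.algHom_app, Groth.Agent.Ega2.H278.AlgOf.algHom_app]
        refine CommRingCat.hom_ext (RingHom.ext fun b => ?_)
        have e1 : (j ≫ q j h).appLE (g j h ⁻¹ᵁ U.1) ((j ≫ h) ⁻¹ᵁ U.1)
            (Groth.Agent.Ega2.H278.AlgOf.preimage_le (g j h) (j ≫ h) (j ≫ q j h) w1 U.1) =
          (q j h).appLE (g j h ⁻¹ᵁ U.1) (h ⁻¹ᵁ U.1) (le_q j h) ≫ j.appLE (h ⁻¹ᵁ U.1) ((j ≫ h) ⁻¹ᵁ U.1) le_rfl :=
          (Scheme.Hom.appLE_comp_appLE _ _ _ _ _ _ _).symm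
        have e2 : ((j ≫ h) ≫ ε j h).appLE (g j h ⁻¹ᵁ U.1) ((j ≫ h) ⁻¹ᵁ U.1)
            (Groth.Agent.Ega2.H278.AlgOf.preimage_le (g j h) (j ≫ h) ((j ≫ h) ≫ ε j h) w2 U.1) =
          (ε j h).appLE (g j h ⁻¹ᵁ U.1) U.1 (le_ε j h) ≫ (j ≫ h).appLE U.1 ((j ≫ h) ⁻¹ᵁ U.1) le_rfl :=
          (Scheme.Hom.appLE_comp_appLE _ _ _ _ _ _ _).symm
        have e3 : (j ≫ h).appLE U.1 ((j ≫ h) ⁻¹ᵁ U.1) le_rfl = h.app U.1 ≫ j.app (h ⁻¹ᵁ U.1) := by
          rw [Scheme.Hom.appLE_eq_app, Scheme.Hom.comp_app]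
        have e4 : j.appLE (h ⁻¹ᵁ U.1) ((j ≫ h) ⁻¹ᵁ U.1) le_rfl = j.app (h ⁻¹ᵁ U.1) := Scheme.Hom.appLE_eq_app _
        rw [e1, e2, e3, e4]
        change (j.app (h ⁻¹ᵁ U.1) ((q j h).appLE (g j h ⁻¹ᵁ U.1) (h ⁻¹ᵁ U.1) (le_q j h) b) : Γ(X, _)) =
          j.app (h ⁻¹ᵁ U.1) (h.app U.1 ((ε j h).appLE (g j h ⁻¹ᵁ U.1) U.1 (le_ε j h) b))
        rw [q_appLE j h U.2, ε_appLE j h U.2]
        exact (kap j h U.1 U.2 b).2))
  exact congrArg Subtype.val key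

theorem contr : Contr j (q j h) (g j h) (ε j h) where
  surj U hU F hF := by
    have heq : q j h ⁻¹ᵁ (g j h ⁻¹ᵁ U) = h ⁻¹ᵁ U := by rw [← Scheme.Hom.comp_preimage, q_g]
    have h1 : (ores heq.ge F, (0 : Γ(Y, U))) ∈ sub j h U := by
      rw [mem_sub]
      dsimp only
      rw [map_zero, map_zero, ← ores_app j heq.ge, hF, map_zero]
    obtain ⟨b, hb⟩ := (kap_bijective j h U hU).2 ⟨_, h1⟩
    refine ⟨b, ?_, ?_⟩
    · have h2 := q_appLE j h hU b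
      rw [hb] at h2
      have h3 : ores heq.ge ((q j h).app _ b : Γ(V, q j h ⁻¹ᵁ (g j h ⁻¹ᵁ U))) = ores heq.ge F := h2
      have h4 := congrArg (ores heq.le) h3
      rw [ores_ores, ores_ores, ores_refl, ores_refl] at h4
      exact h4
    · have heq' : ε j h ⁻¹ᵁ (g j h ⁻¹ᵁ U) = U := by
        rw [← Scheme.Hom.comp_preimage, ε_g]
        rfl
      have h2 := ε_appLE j h hU b
      rw [hb] at h2
      have h3 : ores heq'.ge ((ε j h).app _ b : Γ(Y, ε j h ⁻¹ᵁ (g j h ⁻¹ᵁ U))) = 0 := h2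
      have h4 := congrArg (ores heq'.le) h3
      rw [ores_ores, ores_refl, map_zero] at h4
      exact h4
  inj U hU b h1 h2 := by
    apply (kap_bijective j h U hU).1
    rw [map_zero]
    refine Subtype.ext (Prod.ext ?_ ?_)
    · rw [← q_appLE j h hU b]
      change ores (le_q j h) ((q j h).app _ b : Γ(V, q j h ⁻¹ᵁ (g j h ⁻¹ᵁ U))) = 0
      rw [h1, map_zero]
    · rw [← ε_appLE j h hU b]
      change ores (le_ε j h) ((ε j h).app _ b : Γ(Y, ε j h ⁻¹ᵁ (g j h ⁻¹ᵁ U))) = 0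
      rw [h2, map_zero]

end K30.FibAlg

end
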