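import Groth.Agent.EGA2.K30.Grauert4
import Groth.Agent.EGA2.K30.FibAlg

/-!
# Grauert's criterion: existence of the contraction
-/

set_option autoImplicit false
universe u

open CategoryTheory CategoryTheory.Limits AlgebraicGeometry Opposite TopologicalSpace

noncomputable section

namespace K30.Grauert5

open K30.LBdl K30.Ctr K30.Grauert3 K30.Grauert4 Groth.Agent.Fdesc.LocGen Groth.Agent.Ega2.Ample Groth.Agent.Ega2.Nv

variable {X V Y : Scheme.{u}} {L : X.Modules} {π : V ⟶ X} {j : X ⟶ V} (B : LineBdl L π j)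

include B in
theorem exists_contraction (p : X ⟶ Y) [QuasiCompact p] [QuasiSeparated p] (hL : LocGen L ⊤)
    (h : RelAmple.IsRelAmple p L) (V0 : V.Opens) (hV0 : (V0 : Set V) = (Set.range j)ᶜ) :
    ∃ (C : Scheme.{u}) (g : C ⟶ Y) (ε : Y ⟶ C) (q : V ⟶ C), IsAffineHom g ∧ Contr j q g ε ∧
      ε ≫ g = 𝟙 Y ∧ q ≫ g = π ≫ p ∧ j ≫ q = p ≫ ε ∧
          IsOpenImmersion (V0.ι ≫ q) ∧ QuasiCompact (V0.ι ≫ q) ∧
            Set.range (V0.ι ≫ q) ∩ Set.range ε = ∅ := by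
  have := B.affine
  have hj : j ≫ π ≫ p = p := by rw [← Category.assoc, B.comp, Category.id_comp]
  have i1 : QuasiCompact (j ≫ π ≫ p) := by rw [hj]; infer_instance
  have i2 : QuasiSeparated (j ≫ π ≫ p) := by rw [hj]; infer_instance
  have hqg := K30.FibAlg.q_g j (π ≫ p)
  have hjq : j ≫ K30.FibAlg.q j (π ≫ p) = p ≫ K30.FibAlg.ε j (π ≫ p) := by
    rw [K30.FibAlg.j_q, hj]
  obtain ⟨O, hO1, hO2, hO3, -⟩ := exists_open B hqg hjq (K30.FibAlg.contr j (π ≫ p)) h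
  have hV : K30.FibAlg.q j (π ≫ p) ⁻¹ᵁ O = V0 := by
    ext v
    change v ∈ ((K30.FibAlg.q j (π ≫ p) ⁻¹ᵁ O : V.Opens) : Set V) ↔ v ∈ (V0 : Set V)
    rw [hO1, hV0]
  obtain ⟨h1, h2⟩ := isOpenImmersion_of_isIso hO2 V0 hV
  have i3 := quasiCompact_ι B hL V0 hV0
  refine ⟨_, K30.FibAlg.g j (π ≫ p), K30.FibAlg.ε j (π ≫ p), K30.FibAlg.q j (π ≫ p), inferInstance,
    K30.FibAlg.contr j (π ≫ p), K30.FibAlg.ε_g j (π ≫ p), hqg, hjq, h1, ?_, ?_⟩
  · have i4 : QuasiCompact ((V0.ι ≫ K30.FibAlg.q j (π ≫ p)) ≫ K30.FibAlg.g j (π ≫ p)) := by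
      rw [Category.assoc, hqg]
      infer_instance
    exact QuasiCompact.of_comp _ (K30.FibAlg.g j (π ≫ p))
  · rw [h2]
    ext c
    constructor
    · rintro ⟨hc1, hc2⟩
      exact hO3 c hc1 hc2
    · intro hc
      exact hc.elim

include B in
theorem exists_proper_contraction (p : X ⟶ Y) [IsProper p] (hL : LocGen L ⊤)
    (h : RelAmple.IsRelAmple p L) (V0 : V.Opens) (hV0 : (V0 : Set V) = (Set.range j)ᶜ) :
    ∃ (C : Scheme.{u}) (g : C ⟶ Y) (ε : Y ⟶ C) (q : V ⟶ C), IsAffineHom g ∧ Contr j q g ε ∧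
      ε ≫ g = 𝟙 Y ∧ q ≫ g = π ≫ p ∧ j ≫ q = p ≫ ε ∧ IsProper q ∧
          IsOpenImmersion (V0.ι ≫ q) ∧ QuasiCompact (V0.ι ≫ q) ∧
            Set.range (V0.ι ≫ q) = (Set.range ε)ᶜ := by
  obtain ⟨C, g, ε, q, hg, hc, hεg, hqg, hjq, h1, h2, h3⟩ := exists_contraction B p hL h V0 hV0
  have hq := isProper_q B hqg hc hL h
  refine ⟨C, g, ε, q, hg, hc, hεg, hqg, hjq, hq, h1, h2, ?_⟩
  ext c
  constructor
  · intro hc1 hc2
    have : c ∈ Set.range (V0.ι ≫ q) ∩ Set.range ε := ⟨hc1, hc2⟩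
    rw [h3] at this
    exact this
  · intro hcε
    have hcl : IsClosed (Set.range q) := q.isClosedMap.isClosed_range
    obtain ⟨v, rfl⟩ := exists_eq_of_notMem B hqg hεg hc hcl c hcε
    have hv : v ∈ (V0 : Set V) := by
      rw [hV0]
      rintro ⟨x, rfl⟩
      refine hcε ⟨p x, ?_⟩
      rw [← Scheme.Hom.comp_apply, ← hjq]
      rfl
    exact ⟨⟨v, hv⟩, rfl⟩

end K30.Grauert5

end
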