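import Groth.Agent.EGA2.K30.DirIm
import Groth.Agent.EGA2.K30.Grauert5
import Groth.Agent.EGA2.K35.GammaIso
import Groth.Agent.S3567
import Mathlib.AlgebraicGeometry.Morphisms.UniversallyInjective

/-!
# Factorization of contractions through the spectrum of the direct image
-/

set_option autoImplicit false
universe u

open CategoryTheory CategoryTheory.Limits AlgebraicGeometry Opposite TopologicalSpace

noncomputable section

namespace K30.CtrFac

open K30.LBdl K30.Ctr K30.Grauert2 K30.Grauert3 K30.Grauert4 K30.DirIm Groth.Agent.Fdesc.LocGen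
  Groth.Agent.Ega2.Ample Groth.Agent.Ega2.Nv Groth.Agent.Ega2.H278

/-- A reduced scheme mapping into the range of a closed immersion factors through it. -/
theorem exists_lift {Z X T : Scheme.{u}} (i : Z ⟶ X) [IsClosedImmersion i] (f : T ⟶ X) [IsReduced T]
    (h : Set.range f ⊆ Set.range i) : ∃ y : T ⟶ Z, y ≫ i = f := by
  have h1 : Surjective (pullback.fst f i) := by
    rw [surjective_iff, ← Set.range_eq_univ, Scheme.Pullback.range_fst]
    exact Set.eq_univ_of_forall fun t => h ⟨t, rfl⟩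
  have h2 : IsIso (pullback.fst f i) := isIso_of_isClosedImmersion_of_surjective _
  refine ⟨inv (pullback.fst f i) ≫ pullback.snd f i, ?_⟩
  rw [Category.assoc, ← pullback.condition, IsIso.inv_hom_id_assoc]

theorem surjective_of_injective_app {X Y : Scheme.{u}} (p : X ⟶ Y) (hcl : IsClosedMap p)
    (hp : ∀ U : Y.Opens, Function.Injective (p.app U).hom) : Function.Surjective p := by
  intro y
  by_contra hcon
  let U : Y.Opens := ⟨(Set.range p)ᶜ, hcl.isClosed_range.isOpen_compl⟩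
  have hU : p ⁻¹ᵁ U = ⊥ := by
    rw [eq_bot_iff]
    intro x hx
    exact (hx ⟨x, rfl⟩).elim
  have h1 : (1 : Γ(Y, U)) = 0 := by
    apply hp U
    rw [map_one, map_zero]
    have h2 : ∀ W : X.Opens, W = ⊥ → (1 : Γ(X, W)) = 0 := by
      rintro _ rfl
      exact Subsingleton.elim _ _
    exact h2 _ hU
  have h3 : Y.basicOpen (1 : Γ(Y, U)) = U := Y.basicOpen_of_isUnit isUnit_one
  rw [h1, Scheme.basicOpen_zero] at h3
  have h4 : y ∈ U := fun ⟨x, hx⟩ => hcon ⟨x, hx⟩
  rw [← h3] at h4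
  exact h4

theorem bijective_app_of_canon {V Y : Scheme.{u}} (h : V ⟶ Y) [QuasiCompact h] [QuasiSeparated h]
    (q' : V ⟶ (RelSpec.QCAlg.directImage h).spec) (hq'π : q' ≫ (RelSpec.QCAlg.directImage h).π = h)
    (hq' : AffAlg.algHom (RelSpec.QCAlg.directImage h).π h q' hq'π = (RelSpec.QCAlg.directImage h).gammaMap)
    (U : Y.Opens) : Function.Bijective (q'.app ((RelSpec.QCAlg.directImage h).π ⁻¹ᵁ U)).hom := by
  have h1 := AlgOf.algHom_app (RelSpec.QCAlg.directImage h).π h q' hq'π U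
  have h2 : IsIso (RelSpec.QCAlg.directImage h).gammaMap := K35.GammaIso.isIso_gammaMap _
  have h3 : IsIso (q'.appLE ((RelSpec.QCAlg.directImage h).π ⁻¹ᵁ U) (h ⁻¹ᵁ U)
      (AlgOf.preimage_le (RelSpec.QCAlg.directImage h).π h q' hq'π U)) := by
    rw [← h1, hq']
    exact NatIso.isIso_app_of_isIso (RelSpec.QCAlg.directImage h).gammaMap (op U)
  have heq : q' ⁻¹ᵁ ((RelSpec.QCAlg.directImage h).π ⁻¹ᵁ U) = h ⁻¹ᵁ U := by
    rw [← Scheme.Hom.comp_preimage, hq'π]
  have h4 : q'.app ((RelSpec.QCAlg.directImage h).π ⁻¹ᵁ U) =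
      q'.appLE ((RelSpec.QCAlg.directImage h).π ⁻¹ᵁ U) (h ⁻¹ᵁ U)
      (AlgOf.preimage_le (RelSpec.QCAlg.directImage h).π h q' hq'π U) ≫
        V.presheaf.map (homOfLE heq.le).op := by
    rw [Scheme.Hom.appLE_map, Scheme.Hom.appLE_eq_app]
  have h5 : IsIso (V.presheaf.map (homOfLE heq.le).op) := by
    have : homOfLE heq.le = eqToHom heq := Subsingleton.elim _ _
    rw [this]
    infer_instance
  have h6 : IsIso (q'.app ((RelSpec.QCAlg.directImage h).π ⁻¹ᵁ U)) := by
    rw [h4]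
    infer_instance
  exact ConcreteCategory.bijective_of_isIso _

variable {X V Y C C' : Scheme.{u}} {L : X.Modules} {π : V ⟶ X} {j : X ⟶ V} (B : LineBdl L π j)
  {p : X ⟶ Y} [IsProper p] [IsIso p.c] {g' : C' ⟶ Y} [IsAffineHom g'] {q' : V ⟶ C'}

/-- The data attached to the spectrum of the direct image. -/
structure Pack (j : X ⟶ V) (p : X ⟶ Y) (g' : C' ⟶ Y) (q' : V ⟶ C') (ε' : Y ⟶ C') (O : C'.Opens) : Prop where
  εg : ε' ≫ g' = 𝟙 Y
  jq : j ≫ q' = p ≫ ε'
  proper : IsProper q'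
  surj : Surjective q'
  isIso_c : IsIso q'.c
  pre : ((q' ⁻¹ᵁ O : V.Opens) : Set V) = (Set.range j)ᶜ
  isIso : IsIso (q' ∣_ O)
  coe : (O : Set C') = (Set.range ε')ᶜ
  surjp : Surjective p

include B in
theorem exists_pack (hL : LocGen L ⊤) (hamp : RelAmple.IsRelAmple p L) (hqg : q' ≫ g' = π ≫ p)
    (hb : ∀ U : Y.Opens, IsAffineOpen U → Function.Bijective (q'.app (g' ⁻¹ᵁ U)).hom) :
    ∃ (ε' : Y ⟶ C') (O : C'.Opens), Pack j p g' q' ε' O := by
  have := B.affine
  have w : (j ≫ q') ≫ g' = p := by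
    rw [Category.assoc, hqg, ← Category.assoc, B.comp, Category.id_comp]
  obtain ⟨ε', hε', hjq⟩ := exists_section w
  have hc : Contr j q' g' ε' := contr hjq injective_app_of_isIso_c hb
  have i1 : QuasiCompact (q' ≫ g') := by rw [hqg]; infer_instance
  have i2 : QuasiSeparated (q' ≫ g') := by rw [hqg]; infer_instance
  obtain ⟨O, hO1, hO2, hO3, -⟩ := exists_open B hqg hjq hc hamp
  have hprop := isProper_q B hqg hc hL hamp
  have hcl : IsClosed (Set.range q') := q'.isClosedMap.isClosed_range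
  have hps : Function.Surjective p := surjective_of_injective_app p p.isClosedMap injective_app_of_isIso_c
  refine ⟨ε', O, hε', hjq, hprop, ⟨fun c => ?_⟩, DirIm.isIso_c hb, hO1, hO2,
    range_eq B hqg hjq hε' hc hcl hO1 hO3, ⟨hps⟩⟩
  by_cases hcε : c ∈ Set.range ε'
  · obtain ⟨y, rfl⟩ := hcε
    obtain ⟨x, rfl⟩ := hps y
    refine ⟨j x, ?_⟩
    rw [← Scheme.Hom.comp_apply, hjq]
    rfl
  · exact exists_eq_of_notMem B hqg hε' hc hcl c hcε

variable {ε' : Y ⟶ C'} {O : C'.Opens} (P : Pack j p g' q' ε' O)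

include P

omit [IsProper p] [IsIso p.c] [IsAffineHom g'] in
theorem Pack.isQuotientMap : Topology.IsQuotientMap q' := by
  have := P.proper
  have := P.surj
  exact q'.isClosedMap.isQuotientMap q'.continuous q'.surjective

omit [IsProper p] [IsIso p.c] [IsAffineHom g'] in
theorem Pack.mem_iff (v : V) : q' v ∈ O ↔ v ∉ Set.range j := by
  have := P.pre
  constructor
  · intro hv
    have h1 : v ∈ ((q' ⁻¹ᵁ O : V.Opens) : Set V) := hv
    rw [this] at h1
    exact h1
  · intro hv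
    have h1 : v ∈ (Set.range j)ᶜ := hv
    rw [← this] at h1
    exact h1

omit [IsProper p] [IsIso p.c] [IsAffineHom g'] in
theorem Pack.injective_of_mem {v v' : V} (hv : q' v ∈ O) (h : q' v = q' v') : v = v' := by
  have := P.isIso
  have hv' : q' v' ∈ O := h ▸ hv
  have h1 : Function.Injective (q' ∣_ O) := (q' ∣_ O).isOpenEmbedding.injective
  have h2 : (q' ∣_ O) ⟨v, hv⟩ = (q' ∣_ O) ⟨v', hv'⟩ := by
    exact Subtype.ext ((morphismRestrict_base_coe q' O ⟨v, hv⟩).trans
      (h.trans (morphismRestrict_base_coe q' O ⟨v', hv'⟩).symm))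
  exact congrArg Subtype.val (h1 h2)

omit [IsProper p] [IsIso p.c] [IsAffineHom g'] in
theorem Pack.const {q : V ⟶ C} {ε : Y ⟶ C} (hjq : j ≫ q = p ≫ ε) {v v' : V} (h : q' v = q' v') : q v = q v' := by
  by_cases hv : q' v ∈ O
  · rw [P.injective_of_mem hv h]
  · have hv' : q' v' ∉ O := h ▸ hv
    rw [P.mem_iff, not_not] at hv hv'
    obtain ⟨x, rfl⟩ := hv
    obtain ⟨x', rfl⟩ := hv'
    have h1 : ε' (p x) = ε' (p x') := by
      rw [← Scheme.Hom.comp_apply, ← Scheme.Hom.comp_apply, ← P.jq]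
      exact h
    have h2 : p x = p x' := by
      have h4 : ∀ y : Y, g' (ε' y) = y := fun y => by
        rw [← Scheme.Hom.comp_apply, P.εg]
        rfl
      rw [← h4 (p x), h1, h4]
    change (j ≫ q) x = (j ≫ q) x'
    rw [hjq]
    change ε (p x) = ε (p x')
    rw [h2]

omit [IsProper p] [IsIso p.c] [IsAffineHom g'] in
/-- The unique factorization. -/
theorem Pack.existsUnique {q : V ⟶ C} {ε : Y ⟶ C} {g : C ⟶ Y} (hqg : q ≫ g = π ≫ p) (hqg' : q' ≫ g' = π ≫ p)
    (hjq : j ≫ q = p ≫ ε) : ∃! u : C' ⟶ C, u ≫ g = g' ∧ q' ≫ u = q := by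
  have := P.surj
  have := P.isIso_c
  obtain ⟨u, hu⟩ := (Groth.Agent.S3567.result q' P.isQuotientMap C).2 q fun v v' h => P.const hjq h
  refine ⟨u, ⟨?_, hu⟩, fun u' hu' => ?_⟩
  · apply (Groth.Agent.S3567.result q' P.isQuotientMap Y).1
    rw [← Category.assoc, hu, hqg, hqg']
  · exact (Groth.Agent.S3567.result q' P.isQuotientMap C).1 _ _ (hu'.2.trans hu.symm)

end K30.CtrFac

end
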