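import Groth.Agent.EGA2.K30.AffRad
import Groth.Agent.CohqA.AffMorCrit

/-!
# Affineness criteria for schemes and morphisms through the ideals of reduced closed subschemes
-/

set_option autoImplicit false
universe u

open CategoryTheory Limits TopologicalSpace AlgebraicGeometry Opposite

namespace K30.AffCritRad

open K30.AffRad Groth.Agent.CohqA

variable {X Y : Scheme.{u}}

theorem epi_toSubscheme (I : X.IdealSheafData) : Epi (C := X.Modules) (ClSub.toSubscheme I) := by
  have h := H1Lift.epi_toAb_of_locSurj (ClSub.toSubscheme I) (IdealMod.toSubscheme_locSurj I)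
  exact (SheafOfModules.toSheaf X.ringCatSheaf).epi_of_epi_map h

theorem isAffine_of_surjective [CompactSpace X] [QuasiSeparatedSpace X]
    (h : ∀ I : X.IdealSheafData, Function.Surjective ((ClSub.toSubscheme I).app ⊤)) : IsAffine X := by
  have h1 : IsAffineOpen (⊤ : X.Opens) :=
    isAffineOpen_of_surjective isCompact_univ isQuasiSeparated_univ fun _ => h _
  have h2 : IsAffine ((⊤ : X.Opens) : Scheme.{u}) := h1
  exact .of_isIso X.topIso.inv

theorem isAffineHom_of_surjective (f : X ⟶ Y) [QuasiCompact f] [QuasiSeparated f]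
    (h : ∀ (V : Y.Opens), IsAffineOpen V → ∀ I : X.IdealSheafData,
      Function.Surjective ((ClSub.toSubscheme I).app (f ⁻¹ᵁ V))) : IsAffineHom f :=
  ⟨fun V hV => isAffineOpen_of_surjective (f.isCompact_preimage hV.isCompact)
    (f.isQuasiSeparated_preimage hV.isQuasiSeparated) fun _ => h V hV _⟩

end K30.AffCritRad
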