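import Groth.Agent.Ega1.ReducedSub
import Mathlib.AlgebraicGeometry.Morphisms.Affine
import Mathlib.AlgebraicGeometry.Morphisms.ClosedImmersion

/-!
# Serre's affineness criterion with radical ideals only, relative to an open subset

`isAffineOpen_of_surjective`: a quasi-compact quasi-separated open `W` of `X` such that, for all closed subsets `Z` of
`X` (with the reduced structure), functions on `Z ∩ W` lift to functions on `W`, is affine.
-/

set_option autoImplicit false
universe u

open CategoryTheory TopologicalSpace AlgebraicGeometry Opposite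

namespace K30.AffRad

variable {X : Scheme.{u}}

/-- The reduced closed subscheme on a closed subset. -/
noncomputable abbrev rS (Z : Closeds X) : Scheme.{u} := (Scheme.IdealSheafData.vanishingIdeal Z).subscheme

/-- Its inclusion. -/
noncomputable abbrev rι (Z : Closeds X) : rS Z ⟶ X := (Scheme.IdealSheafData.vanishingIdeal Z).subschemeι

instance (Z : Closeds X) : IsReduced (rS Z) := Groth.Agent.Ega1.ReducedSub.isReduced_subscheme_vanishingIdeal Z

lemma range_rι (Z : Closeds X) : Set.range (rι Z) = Z := by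
  rw [Scheme.IdealSheafData.range_subschemeι, Scheme.IdealSheafData.coe_support_vanishingIdeal]

lemma app_eq_zero_iff (Z : Closeds X) {W : X.Opens} (a : Γ(X, W)) :
    (rι Z).app W a = 0 ↔ ∀ x ∈ Z, x ∉ X.basicOpen a := by
  rw [← basicOpen_eq_bot_iff, ← Scheme.preimage_basicOpen]
  constructor
  · intro h x hx hxa
    have hx' : x ∈ Set.range (rι Z) := by rw [range_rι]; exact hx
    obtain ⟨z, rfl⟩ := hx'
    have : z ∈ (rι Z) ⁻¹ᵁ X.basicOpen a := hxa
    rw [h] at this
    exact this
  · intro h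
    rw [eq_bot_iff]
    intro z hz
    exact h _ (by
      have := Set.mem_range_self (f := rι Z) z
      rwa [range_rι] at this) hz

/-- Functions on the reduced closed subschemes lift. -/
def SurjOn (W : X.Opens) : Prop := ∀ Z : Closeds X, Function.Surjective ((rι Z).app W)

theorem key {W : X.Opens} (hc : IsCompact (W : Set X)) (hq : IsQuasiSeparated (W : Set X))
    (h : SurjOn W) (S : Finset Γ(X, W)) :
    ∀ Z : Closeds X, (∀ x ∈ Z, x ∈ W → ∃ f ∈ S, x ∈ X.basicOpen f) →
      ∃ g ∈ Ideal.span (S : Set Γ(X, W)), ∀ x ∈ Z, x ∉ X.basicOpen (1 - g) := by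
  classical
  induction S using Finset.induction_on with
  | empty =>
    intro Z hZ
    refine ⟨0, zero_mem _, fun x hx hx' => ?_⟩
    obtain ⟨f, hf, -⟩ := hZ x hx (X.basicOpen_le _ hx')
    exact absurd hf (Finset.notMem_empty _)
  | insert f S hf ih =>
    intro Z hZ
    let Z' : Closeds X := ⟨(Z : Set X) ∩ ((X.basicOpen f : X.Opens) : Set X)ᶜ,
      Z.isClosed.inter (X.basicOpen f).isOpen.isClosed_compl⟩
    obtain ⟨g', hg', hgZ'⟩ := ih Z' (by
      rintro x ⟨hxZ, hxf⟩ hxW
      obtain ⟨f', hf', hxf'⟩ := hZ x hxZ hxW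
      rcases Finset.mem_insert.1 hf' with rfl | hf'
      · exact absurd hxf' hxf
      · exact ⟨f', hf', hxf'⟩)
    have h1 : ∀ x ∈ Z, x ∈ X.basicOpen (1 - g') → x ∈ X.basicOpen f := by
      intro x hx hx'
      by_contra hxf
      exact hgZ' x ⟨hx, hxf⟩ hx'
    let a : Γ(rS Z, (rι Z) ⁻¹ᵁ W) := (rι Z).app W (1 - g')
    let b : Γ(rS Z, (rι Z) ⁻¹ᵁ W) := (rι Z).app W f
    have hab : (rS Z).basicOpen a ≤ (rS Z).basicOpen b := by
      intro z hz
      have hz' : z ∈ (rι Z) ⁻¹ᵁ X.basicOpen (1 - g') := by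
        rw [Scheme.preimage_basicOpen]; exact hz
      have : z ∈ (rι Z) ⁻¹ᵁ X.basicOpen f := h1 _ (by
        have := Set.mem_range_self (f := rι Z) z
        rwa [range_rι] at this) hz'
      rw [Scheme.preimage_basicOpen] at this
      exact this
    have hWc : IsCompact (((rι Z) ⁻¹ᵁ W : (rS Z).Opens) : Set (rS Z)) := (rι Z).isCompact_preimage hc
    have hWq : IsQuasiSeparated (((rι Z) ⁻¹ᵁ W : (rS Z).Opens) : Set (rS Z)) :=
      (rι Z).isQuasiSeparated_preimage hq
    have hloc := isLocalization_basicOpen_of_qcqs hWc hWq a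
    obtain ⟨n, c, hn⟩ : ∃ n, b ∣ a ^ n := by
      rw [← IsLocalization.Away.algebraMap_isUnit_iff (S := Γ(rS Z, (rS Z).basicOpen a)) a]
      have h2 : IsUnit ((rS Z).presheaf.map (homOfLE ((rS Z).basicOpen_le b)).op b) :=
        RingedSpace.isUnit_res_basicOpen _ b
      have h3 := h2.map ((rS Z).presheaf.map (homOfLE hab).op).hom
      rw [← CommRingCat.comp_apply, ← Functor.map_comp] at h3
      exact h3
    obtain ⟨k, hk⟩ := h Z c
    refine ⟨1 - ((1 - g') ^ n - f * k), ?_, ?_⟩
    · have h2 : 1 - (1 - g') ^ n ∈ Ideal.span (S : Set Γ(X, W)) := by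
        have h3 := sub_dvd_pow_sub_pow (1 : Γ(X, W)) (1 - g') n
        rw [one_pow, sub_sub_cancel] at h3
        exact Ideal.mem_of_dvd _ h3 hg'
      have h4 : 1 - ((1 - g') ^ n - f * k) = (1 - (1 - g') ^ n) + f * k := by ring
      rw [h4, Finset.coe_insert]
      refine add_mem (Ideal.span_mono (Set.subset_insert _ _) h2) (Ideal.mul_mem_right _ _ ?_)
      exact Ideal.subset_span (Set.mem_insert _ _)
    · rw [sub_sub_cancel, ← app_eq_zero_iff, map_sub, map_pow, map_mul, hk]
      change a ^ n - b * c = 0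
      rw [hn, sub_self]

theorem span_eq_top {W : X.Opens} (hc : IsCompact (W : Set X)) (hq : IsQuasiSeparated (W : Set X))
    (h : SurjOn W) (S : Finset Γ(X, W)) (hS : ∀ x ∈ W, ∃ f ∈ S, x ∈ X.basicOpen f) :
    Ideal.span (S : Set Γ(X, W)) = ⊤ := by
  obtain ⟨g, hg, hg'⟩ := key hc hq h S ⊤ fun x _ hx => hS x hx
  have h1 : X.basicOpen (1 - g) = ⊥ := by
    rw [eq_bot_iff]
    intro x hx
    exact hg' x trivial hx
  have h2 : IsNilpotent (1 - g) := (Scheme.isNilpotent_iff_basicOpen_eq_bot_of_isCompact hc _).2 h1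
  have h3 : IsUnit g := by
    have := h2.isUnit_one_sub
    rwa [sub_sub_cancel] at this
  exact Ideal.eq_top_of_isUnit_mem _ hg h3

/-- Around a point which is closed in `W` there is an affine open of the form `D(t)`, `t` a function on `W`. -/
theorem exists_basicOpen {W : X.Opens} (h : SurjOn W) {x : X} (hxW : x ∈ W)
    (hx : ∀ y ∈ W, y ∈ closure {x} → y = x) :
    ∃ t : Γ(X, W), x ∈ X.basicOpen t ∧ IsAffineOpen (X.basicOpen t) := by
  obtain ⟨_, ⟨A, hA, rfl⟩, hxA, hAW⟩ :=
    X.isBasis_affineOpens.exists_subset_of_mem_open (show x ∈ (W : Set X) from hxW) W.2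
  let Z : Closeds X := ⟨closure ((W : Set X) \ A) ∪ closure {x}, isClosed_closure.union isClosed_closure⟩
  have hZA : ∀ y ∈ Z, y ∈ A → y = x := by
    rintro y (hy | hy) hyA
    · rw [mem_closure_iff] at hy
      obtain ⟨z, hz, hz', hz''⟩ := hy A A.isOpen hyA
      exact absurd hz hz''
    · exact hx y (hAW hyA) hy
  let C : X.Opens := ⟨(closure {x} : Set X)ᶜ, isClosed_closure.isOpen_compl⟩
  let O : Bool → (rS Z).Opens := fun b => bif b then (rι Z) ⁻¹ᵁ A else (rι Z) ⁻¹ᵁ (W ⊓ C)
  have hmem : ∀ z : rS Z, rι Z z ∈ Z := fun z => by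
    have := Set.mem_range_self (f := rι Z) z
    rwa [range_rι] at this
  have hdisj : (rι Z) ⁻¹ᵁ A ⊓ (rι Z) ⁻¹ᵁ (W ⊓ C) = ⊥ := by
    rw [eq_bot_iff]
    rintro z ⟨hz1, hz2⟩
    have h1 := hZA _ (hmem z) hz1
    have h2 : rι Z z ∈ C := hz2.2
    rw [h1] at h2
    exact h2 (subset_closure rfl)
  have hcov : (rι Z) ⁻¹ᵁ W ≤ iSup O := by
    intro z hz
    by_cases hzx : rι Z z ∈ closure {x}
    · have h1 := hx _ hz hzx
      refine Opens.mem_iSup.2 ⟨true, ?_⟩
      change rι Z z ∈ A
      rw [h1]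
      exact hxA
    · exact Opens.mem_iSup.2 ⟨false, hz, hzx⟩
  have hle : ∀ b, O b ≤ (rι Z) ⁻¹ᵁ W := by
    rintro (_ | _)
    · exact (rι Z).preimage_mono inf_le_left
    · exact (rι Z).preimage_mono hAW
  let s : ∀ b, Γ(rS Z, O b) := fun b => if b then 1 else 0
  obtain ⟨e, he⟩ : ∃ e : Γ(rS Z, (rι Z) ⁻¹ᵁ W), ∀ b, (rS Z).presheaf.map (homOfLE (hle b)).op e = s b := by
    refine ((rS Z).sheaf.existsUnique_gluing' O ((rι Z) ⁻¹ᵁ W) (fun b => homOfLE (hle b)) hcov s
      (by
      intro b b'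
      have h2 : b ≠ b' → ∀ u v : Γ(rS Z, O b ⊓ O b'), u = v := by
        intro hb u v
        have h3 : O b ⊓ O b' = ⊥ := by
          rcases b with _ | _ <;> rcases b' with _ | _
          · exact absurd rfl hb
          · rw [inf_comm]; exact hdisj
          · exact hdisj
          · exact absurd rfl hb
        have : Subsingleton Γ(rS Z, O b ⊓ O b') := by
          rw [h3]
          infer_instance
        exact Subsingleton.elim _ _
      by_cases hb : b = b'
      · subst hb; rfl
      · exact h2 hb _ _)).exists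
  obtain ⟨t, ht⟩ := h Z e
  have hD : (rι Z) ⁻¹ᵁ X.basicOpen t = (rS Z).basicOpen e := by
    rw [Scheme.preimage_basicOpen, ht]
  have hle' : X.basicOpen t ≤ A := by
    intro y hy
    by_contra hyA
    have hyW := X.basicOpen_le _ hy
    have hyZ : y ∈ Set.range (rι Z) := by
      rw [range_rι]
      exact Or.inl (subset_closure ⟨hyW, hyA⟩)
    obtain ⟨z, rfl⟩ := hyZ
    have hzx : rι Z z ∉ closure {x} := by
      intro h'
      have h1 := hx _ hyW h'
      rw [h1] at hyA
      exact hyA hxA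
    have hz0 : z ∈ O false := ⟨hyW, hzx⟩
    have hz : z ∈ (rS Z).basicOpen e := by
      rw [← hD]; exact hy
    have h1 : z ∈ (rS Z).basicOpen ((rS Z).presheaf.map (homOfLE (hle false)).op e) := by
      rw [Scheme.basicOpen_res]
      exact ⟨hz0, hz⟩
    have h2 : (rS Z).presheaf.map (homOfLE (hle false)).op e = 0 := he false
    rw [h2, Scheme.basicOpen_zero] at h1
    exact h1
  refine ⟨t, ?_, ?_⟩
  · have hxZ : x ∈ Set.range (rι Z) := by
      rw [range_rι]
      exact Or.inr (subset_closure rfl)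
    obtain ⟨z, hz⟩ := hxZ
    have hz1 : z ∈ O true := by
      change rι Z z ∈ A
      rw [hz]
      exact hxA
    have h2 : (rS Z).presheaf.map (homOfLE (hle true)).op e = 1 := he true
    have h1 : z ∈ (rS Z).basicOpen ((rS Z).presheaf.map (homOfLE (hle true)).op e) := by
      rw [h2, Scheme.basicOpen_of_isUnit _ isUnit_one]
      exact hz1
    rw [Scheme.basicOpen_res, ← hD] at h1
    have h3 : rι Z z ∈ X.basicOpen t := h1.2
    rwa [hz] at h3
  · have : X.basicOpen t = X.basicOpen (X.presheaf.map (homOfLE hAW : A ⟶ W).op t) := by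
      rw [Scheme.basicOpen_res]
      exact (inf_eq_right.mpr hle').symm
    rw [this]
    exact IsAffineOpen.basicOpen hA _

lemma exists_closed_point {T : Type*} [TopologicalSpace T] [T0Space T] {s : Set T} (hs : IsCompact s)
    {C : Set T} (hC : IsClosed C) (hne : (s ∩ C).Nonempty) :
    ∃ x ∈ s, x ∈ C ∧ ∀ y ∈ s, y ∈ closure {x} → y = x := by
  have hcpt : CompactSpace s := isCompact_iff_compactSpace.1 hs
  obtain ⟨z, hzs, hzC⟩ := hne
  obtain ⟨x, hx, hx'⟩ := (hC.preimage (continuous_subtype_val (p := fun t => t ∈ s))).exists_closed_singleton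
    ⟨⟨z, hzs⟩, hzC⟩
  refine ⟨x.1, x.2, hx, fun y hy hyx => ?_⟩
  have h1 : (⟨y, hy⟩ : s) ∈ closure ({x} : Set s) := by
    rw [Topology.IsInducing.subtypeVal.closure_eq_preimage_closure_image, Set.image_singleton]
    exact hyx
  rw [hx'.closure_eq] at h1
  exact congrArg Subtype.val h1

/-- **Serre's criterion**, radical form, relative to an open subset. -/
theorem isAffineOpen_of_surjective {W : X.Opens} (hc : IsCompact (W : Set X))
    (hq : IsQuasiSeparated (W : Set X)) (h : SurjOn W) : IsAffineOpen W := by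
  classical
  let A := {f : Γ(X, W) // IsAffineOpen (X.basicOpen f)}
  have hA : (W : Set X) ⊆ ⋃ f : A, (X.basicOpen f.1 : Set X) := by
    by_contra hne
    rw [Set.not_subset] at hne
    obtain ⟨y, hyW, hy⟩ := hne
    obtain ⟨x, hxW, hx, hx'⟩ := exists_closed_point hc
      (isOpen_iUnion fun f : A => (X.basicOpen f.1).isOpen).isClosed_compl ⟨y, hyW, hy⟩
    obtain ⟨f, hf, hf'⟩ := exists_basicOpen h hxW hx'
    exact hx (Set.mem_iUnion.2 ⟨⟨f, hf'⟩, hf⟩)
  obtain ⟨T, hT⟩ := hc.elim_finite_subcover _ (fun f : A => (X.basicOpen f.1).isOpen) hA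
  apply isAffineOpen_of_isAffineOpen_basicOpen W ((T.image Subtype.val : Finset Γ(X, W)) : Set Γ(X, W))
  · apply span_eq_top hc hq h
    intro x hx
    obtain ⟨f, hf, hxf⟩ := Set.mem_iUnion₂.1 (hT hx)
    exact ⟨f.1, Finset.mem_image_of_mem _ hf, hxf⟩
  · intro i hi
    obtain ⟨a, -, rfl⟩ := Finset.mem_image.1 (Finset.mem_coe.1 hi)
    exact a.2

end K30.AffRad
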