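import Groth.Agent.EGA2.K30.AmpleLoc

/-!
# Ampleness on disjoint unions
-/

set_option autoImplicit false
universe u
open CategoryTheory CategoryTheory.Limits AlgebraicGeometry TopologicalSpace

namespace K30.AmpleSum

open Groth.Agent.Ega2.Ample Groth.Agent.Ega2.RelAmp K30.AmpleLoc

variable {X X' Y : Scheme.{u}}

/-- The characteristic function of an open and closed part. -/
lemma exists_basicOpen_eq {U₁ U₂ : X.Opens} (h : U₁ ⊓ U₂ = ⊥) :
    ∃ a : Γ(X, U₁ ⊔ U₂), X.basicOpen a = U₁ := by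
  let O : Bool → X.Opens := fun b => bif b then U₁ else U₂
  have hle : ∀ b, O b ≤ U₁ ⊔ U₂ := by
    rintro (_ | _)
    · exact le_sup_right
    · exact le_sup_left
  have hcov : U₁ ⊔ U₂ ≤ iSup O := sup_le (le_iSup O true) (le_iSup O false)
  let s : ∀ b, Γ(X, O b) := fun b => if b then 1 else 0
  obtain ⟨e, he⟩ : ∃ e : Γ(X, U₁ ⊔ U₂), ∀ b, X.presheaf.map (homOfLE (hle b)).op e = s b := by
    refine (X.sheaf.existsUnique_gluing' O (U₁ ⊔ U₂) (fun b => homOfLE (hle b)) hcov s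
      (by
      intro b b'
      have h2 : b ≠ b' → ∀ u v : Γ(X, O b ⊓ O b'), u = v := by
        intro hb u v
        have h3 : O b ⊓ O b' = ⊥ := by
          rcases b with _ | _ <;> rcases b' with _ | _
          · exact absurd rfl hb
          · rw [inf_comm]; exact h
          · exact h
          · exact absurd rfl hb
        have : Subsingleton Γ(X, O b ⊓ O b') := by
          rw [h3]
          infer_instance
        exact Subsingleton.elim _ _
      by_cases hb : b = b'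
      · subst hb; rfl
      · exact h2 hb _ _)).exists
  have h1 : U₁ ⊓ X.basicOpen e = U₁ := by
    have := X.basicOpen_res e (homOfLE (hle true)).op
    rw [he true] at this
    exact this.symm.trans (Scheme.basicOpen_of_isUnit _ isUnit_one)
  have h0 : U₂ ⊓ X.basicOpen e = ⊥ := by
    have := X.basicOpen_res e (homOfLE (hle false)).op
    rw [he false] at this
    exact this.symm.trans (Scheme.basicOpen_zero _ _)
  refine ⟨e, le_antisymm ?_ (inf_eq_left.1 h1)⟩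
  intro x hx
  rcases X.basicOpen_le e hx with hx' | hx'
  · exact hx'
  · have : x ∈ U₂ ⊓ X.basicOpen e := ⟨hx', hx⟩
    rw [h0] at this
    exact absurd this id

theorem ampleOn_sup {L : X.Modules} {U₁ U₂ : X.Opens} (h : U₁ ⊓ U₂ = ⊥) (h₁ : AmpleOn L U₁)
    (h₂ : AmpleOn L U₂) : AmpleOn L (U₁ ⊔ U₂) := by
  obtain ⟨a, ha⟩ := exists_basicOpen_eq h
  obtain ⟨b, hb⟩ : ∃ b : Γ(X, U₁ ⊔ U₂), X.basicOpen b = U₂ := by
    rw [sup_comm]
    exact exists_basicOpen_eq (by rw [inf_comm]; exact h)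
  refine ampleOn_of_basicOpen_cover (ι := Bool) (fun i => bif i then a else b) ?_ ?_
  · refine sup_le ?_ ?_
    · exact le_trans ha.ge (le_iSup (fun i : Bool => X.basicOpen (bif i then a else b)) true)
    · exact le_trans hb.ge (le_iSup (fun i : Bool => X.basicOpen (bif i then a else b)) false)
  · rintro (_ | _)
    · exact hb.symm ▸ h₂
    · exact ha.symm ▸ h₁

theorem relAmple_coprod_iff (f : X ⟶ Y) (f' : X' ⟶ Y) [QuasiCompact f] [QuasiCompact f']
    (L : (X ⨿ X').Modules) :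
    RelAmple.IsRelAmple (coprod.desc f f') L ↔
      RelAmple.IsRelAmple f ((Scheme.Modules.pullback (coprod.inl : X ⟶ X ⨿ X')).obj L) ∧
        RelAmple.IsRelAmple f' ((Scheme.Modules.pullback (coprod.inr : X' ⟶ X ⨿ X')).obj L) := by
  have hcov : ∀ V : Y.Opens, coprod.desc f f' ⁻¹ᵁ V =
      (coprod.inl : X ⟶ X ⨿ X') ''ᵁ (f ⁻¹ᵁ V) ⊔ (coprod.inr : X' ⟶ X ⨿ X') ''ᵁ (f' ⁻¹ᵁ V) := by
    intro V
    have e1 : f ⁻¹ᵁ V = (coprod.inl : X ⟶ X ⨿ X') ⁻¹ᵁ (coprod.desc f f' ⁻¹ᵁ V) := by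
      rw [← Scheme.Hom.comp_preimage, coprod.inl_desc]
    have e2 : f' ⁻¹ᵁ V = (coprod.inr : X' ⟶ X ⨿ X') ⁻¹ᵁ (coprod.desc f f' ⁻¹ᵁ V) := by
      rw [← Scheme.Hom.comp_preimage, coprod.inr_desc]
    rw [e1, e2, Scheme.Hom.image_preimage_eq_opensRange_inf, Scheme.Hom.image_preimage_eq_opensRange_inf,
      ← inf_sup_right]
    have h3 : (coprod.inl : X ⟶ X ⨿ X').opensRange ⊔ (coprod.inr : X' ⟶ X ⨿ X').opensRange = ⊤ := by
      have := (isCompl_opensRange_inl_inr X X').sup_eq_top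
      exact this
    rw [h3, top_inf_eq]
  have hdisj : ∀ V : Y.Opens, (coprod.inl : X ⟶ X ⨿ X') ''ᵁ (f ⁻¹ᵁ V) ⊓
      (coprod.inr : X' ⟶ X ⨿ X') ''ᵁ (f' ⁻¹ᵁ V) = ⊥ := by
    intro V
    rw [eq_bot_iff, ← (isCompl_opensRange_inl_inr X X').inf_eq_bot]
    exact inf_le_inf (Scheme.Hom.image_le_opensRange _ _) (Scheme.Hom.image_le_opensRange _ _)
  have key : ∀ V : Y.Opens, IsAffineOpen V → (AmpleOn L (coprod.desc f f' ⁻¹ᵁ V) ↔
      AmpleOn ((Scheme.Modules.pullback (coprod.inl : X ⟶ X ⨿ X')).obj L) (f ⁻¹ᵁ V) ∧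
        AmpleOn ((Scheme.Modules.pullback (coprod.inr : X' ⟶ X ⨿ X')).obj L) (f' ⁻¹ᵁ V)) := by
    intro V hV
    have i1 : (Scheme.Modules.pullback (coprod.inl : X ⟶ X ⨿ X')).obj L ≅
        L.restrict (coprod.inl : X ⟶ X ⨿ X') :=
      ((Scheme.Modules.restrictFunctorIsoPullback (coprod.inl : X ⟶ X ⨿ X')).app L).symm
    have i2 : (Scheme.Modules.pullback (coprod.inr : X' ⟶ X ⨿ X')).obj L ≅
        L.restrict (coprod.inr : X' ⟶ X ⨿ X') :=
      ((Scheme.Modules.restrictFunctorIsoPullback (coprod.inr : X' ⟶ X ⨿ X')).app L).symm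
    have j1 : AmpleOn ((Scheme.Modules.pullback (coprod.inl : X ⟶ X ⨿ X')).obj L) (f ⁻¹ᵁ V) ↔
        AmpleOn L ((coprod.inl : X ⟶ X ⨿ X') ''ᵁ (f ⁻¹ᵁ V)) := by
      rw [← K30.AmpleLoc.ampleOn_restrict_iff]
      exact ⟨ampleOn_of_iso i1, ampleOn_of_iso i1.symm⟩
    have j2 : AmpleOn ((Scheme.Modules.pullback (coprod.inr : X' ⟶ X ⨿ X')).obj L) (f' ⁻¹ᵁ V) ↔
        AmpleOn L ((coprod.inr : X' ⟶ X ⨿ X') ''ᵁ (f' ⁻¹ᵁ V)) := by
      rw [← K30.AmpleLoc.ampleOn_restrict_iff]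
      exact ⟨ampleOn_of_iso i2, ampleOn_of_iso i2.symm⟩
    rw [j1, j2, hcov]
    constructor
    · intro h
      refine ⟨h.mono le_sup_left ?_, h.mono le_sup_right ?_⟩
      · have := (f.isCompact_preimage hV.isCompact).image (coprod.inl : X ⟶ X ⨿ X').continuous
        exact this
      · have := (f'.isCompact_preimage hV.isCompact).image (coprod.inr : X' ⟶ X ⨿ X').continuous
        exact this
    · rintro ⟨h1, h2⟩
      exact ampleOn_sup (hdisj V) h1 h2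
  rw [isRelAmple_iff, isRelAmple_iff, isRelAmple_iff]
  constructor
  · rintro ⟨-, h⟩
    exact ⟨⟨inferInstance, fun V => ((key V.1 V.2).1 (h V)).1⟩,
      ⟨inferInstance, fun V => ((key V.1 V.2).1 (h V)).2⟩⟩
  · rintro ⟨⟨-, h1⟩, -, h2⟩
    have h : ∀ V : Y.affineOpens, AmpleOn L (coprod.desc f f' ⁻¹ᵁ V.1) := fun V =>
      (key V.1 V.2).2 ⟨h1 V, h2 V⟩
    exact ⟨quasiCompact_iff_forall_isAffineOpen.2 fun V hV => (h ⟨V, hV⟩).isCompact, h⟩

end K30.AmpleSum
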