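import Groth.Agent.EGA2.K30.CtrFac
import Groth.Agent.S2347

/-!
# The factor of a proper contraction is universally closed, surjective and radicial
-/

set_option autoImplicit false
universe u

open CategoryTheory CategoryTheory.Limits AlgebraicGeometry Opposite TopologicalSpace

noncomputable section

namespace K30.CtrFac

open K30.LBdl K30.Ctr K30.Grauert2 K30.Grauert3 K30.Grauert4 K30.DirIm Groth.Agent.Fdesc.LocGen
  Groth.Agent.Ega2.Ample Groth.Agent.Ega2.Nv Groth.Agent.Ega2.H278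

variable {X V Y C C' : Scheme.{u}} {j : X ⟶ V}
  {p : X ⟶ Y} {g' : C' ⟶ Y} {q' : V ⟶ C'}
  {ε' : Y ⟶ C'} {O : C'.Opens} (P : Pack j p g' q' ε' O) {g : C ⟶ Y} {ε : Y ⟶ C} {q : V ⟶ C}
  {u : C' ⟶ C}

include P

theorem Pack.image_range : q' '' Set.range j = Set.range ε' := by
  have := P.surjp
  ext c
  constructor
  · rintro ⟨_, ⟨x, rfl⟩, rfl⟩
    refine ⟨p x, ?_⟩
    rw [← Scheme.Hom.comp_apply, ← P.jq]
    rfl
  · rintro ⟨y, rfl⟩
    obtain ⟨x, rfl⟩ := p.surjective y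
    refine ⟨j x, ⟨x, rfl⟩, ?_⟩
    rw [← Scheme.Hom.comp_apply, P.jq]
    rfl

theorem Pack.universallyClosed [IsProper q] (hu : q' ≫ u = q) : UniversallyClosed u := by
  have := P.surj
  have h1 : UniversallyClosed (q' ≫ u) := by rw [hu]; infer_instance
  exact UniversallyClosed.of_comp_surjective q' u

theorem Pack.surjective (hjq : j ≫ q = p ≫ ε) {V0 : V.Opens}
    (hqr : Set.range (V0.ι ≫ q) = (Set.range ε)ᶜ) (hu : q' ≫ u = q) : Function.Surjective u := by
  have := P.surjp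
  intro c
  by_cases hc : c ∈ Set.range ε
  · obtain ⟨y, rfl⟩ := hc
    obtain ⟨x, rfl⟩ := p.surjective y
    refine ⟨q' (j x), ?_⟩
    rw [← Scheme.Hom.comp_apply, hu, ← Scheme.Hom.comp_apply, hjq]
    rfl
  · have h1 : c ∈ Set.range (V0.ι ≫ q) := by rw [hqr]; exact hc
    obtain ⟨v, rfl⟩ := h1
    refine ⟨q' (V0.ι v), ?_⟩
    rw [← Scheme.Hom.comp_apply, hu]
    rfl

theorem Pack.open {V0 : V.Opens} (hV0 : (V0 : Set V) = (Set.range j)ᶜ) (hqo : IsOpenImmersion (V0.ι ≫ q))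
    (hqr : Set.range (V0.ι ≫ q) = (Set.range ε)ᶜ) (hu : q' ≫ u = q) :
    IsOpenImmersion (O.ι ≫ u) ∧ Set.range (O.ι ≫ u) = (Set.range ε)ᶜ := by
  have hV : q' ⁻¹ᵁ O = V0 := by
    ext v
    change v ∈ ((q' ⁻¹ᵁ O : V.Opens) : Set V) ↔ v ∈ (V0 : Set V)
    rw [P.pre, hV0]
  subst hV
  have := P.isIso
  have h1 : O.ι ≫ u = inv (q' ∣_ O) ≫ (q' ⁻¹ᵁ O).ι ≫ q := by
    rw [IsIso.eq_inv_comp, ← Category.assoc, morphismRestrict_ι, Category.assoc, hu]
  rw [h1]
  refine ⟨inferInstance, ?_⟩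
  rw [← hqr, Scheme.Hom.comp_base, TopCat.coe_comp, Set.range_comp, Set.range_eq_univ.2, Set.image_univ]
  exact (inv (q' ∣_ O)).surjective

omit P in
theorem isOpen_eq {W O : C'.Opens} (h : (W : Set C') = (O : Set C')) : W = O := TopologicalSpace.Opens.ext h

theorem Pack.εu (hjq : j ≫ q = p ≫ ε) (hcp : IsClosedMap p) [IsIso p.c] (hu : q' ≫ u = q) : ε' ≫ u = ε := by
  have := P.surjp
  have hq : Topology.IsQuotientMap p := hcp.isQuotientMap p.continuous p.surjective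
  apply (Groth.Agent.S3567.result p hq C).1
  rw [← Category.assoc, ← P.jq, Category.assoc, hu, hjq]

theorem Pack.universallyInjective [IsSeparated g'] (hε : ε ≫ g = 𝟙 Y) (hjq : j ≫ q = p ≫ ε) (hcp : IsClosedMap p)
    [IsIso p.c] {V0 : V.Opens}
    (hV0 : (V0 : Set V) = (Set.range j)ᶜ) (hqo : IsOpenImmersion (V0.ι ≫ q))
    (hqr : Set.range (V0.ι ≫ q) = (Set.range ε)ᶜ) (hu : q' ≫ u = q) : UniversallyInjective u := by
  obtain ⟨h1, h2⟩ := P.open hV0 hqo hqr hu
  have hεu := P.εu hjq hcp hu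
  have hcl : IsClosedImmersion ε' := by
    have : IsClosedImmersion (ε' ≫ g') := by rw [P.εg]; infer_instance
    exact IsClosedImmersion.of_comp ε' g'
  have htf : UniversallyInjective u ↔ ∀ (K : Type u) [Field K],
      Function.Injective (fun g : Spec (.of K) ⟶ C' ↦ g ≫ u) := (tfae_universallyInjective u).out 0 1
  refine htf.2 ?_
  intro K _ x₁ x₂ (h : x₁ ≫ u = x₂ ≫ u)
  -- dichotomy
  have hO : ∀ c : C', c ∈ O ↔ u c ∉ Set.range ε := by
    intro c
    constructor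
    · intro hc
      have h3 : u c ∈ Set.range (O.ι ≫ u) := ⟨⟨c, hc⟩, rfl⟩
      rw [h2] at h3
      exact h3
    · intro hc
      have h3 : c ∈ (O : Set C') := by
        rw [P.coe]
        rintro ⟨y, rfl⟩
        refine hc ⟨y, ?_⟩
        rw [← Scheme.Hom.comp_apply, hεu]
      exact h3
  obtain ⟨s₀, hpt⟩ : ∃ s₀ : Spec (CommRingCat.of K), ∀ s, s = s₀ :=
    ⟨IsLocalRing.closedPoint K, fun s => Subsingleton.elim _ _⟩
  have hu12 : ∀ s, u (x₁ s) = u (x₂ s) := fun s => by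
    rw [← Scheme.Hom.comp_apply, h]
    rfl
  by_cases hc : x₁ s₀ ∈ O
  · have hc2 : x₂ s₀ ∈ O := by
      rw [hO, ← hu12, ← hO]
      exact hc
    have r1 : Set.range x₁ ⊆ Set.range O.ι := by
      rintro _ ⟨s, rfl⟩
      rw [hpt s, Scheme.Opens.range_ι]
      exact hc
    have r2 : Set.range x₂ ⊆ Set.range O.ι := by
      rintro _ ⟨s, rfl⟩
      rw [hpt s, Scheme.Opens.range_ι]
      exact hc2
    rw [← IsOpenImmersion.lift_fac O.ι x₁ r1, ← IsOpenImmersion.lift_fac O.ι x₂ r2]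
    congr 1
    rw [← cancel_mono (O.ι ≫ u), ← Category.assoc, ← Category.assoc, IsOpenImmersion.lift_fac,
      IsOpenImmersion.lift_fac, h]
  · have hc2 : x₂ s₀ ∉ O := by
      rw [hO, ← hu12, ← hO]
      exact hc
    have hmem : ∀ c : C', c ∉ O → c ∈ Set.range ε' := by
      intro c hc
      by_contra hn
      apply hc
      change c ∈ (O : Set C')
      rw [P.coe]
      exact hn
    obtain ⟨y₁, hy₁⟩ := exists_lift ε' x₁ (by
      rintro _ ⟨s, rfl⟩
      rw [hpt s]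
      exact hmem _ hc)
    obtain ⟨y₂, hy₂⟩ := exists_lift ε' x₂ (by
      rintro _ ⟨s, rfl⟩
      rw [hpt s]
      exact hmem _ hc2)
    rw [← hy₁, ← hy₂] at h ⊢
    have h3 : y₁ = y₂ := by
      have h4 := congrArg (· ≫ g) h
      simpa only [Category.assoc, reassoc_of% hεu, hεu, hε, Category.comp_id] using h4
    rw [h3]

end K30.CtrFac

end
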