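import Groth.Agent.EGA2.K30.CtrFac2

/-!
# Integral line bundles; the factor of a proper contraction onto a normal scheme is an isomorphism
-/

set_option autoImplicit false
universe u

open CategoryTheory CategoryTheory.Limits AlgebraicGeometry Opposite TopologicalSpace

noncomputable section

namespace K30.CtrFac

open K30.LBdl K30.Taylor K30.TaylorPt K30.Ctr K30.Grauert2 K30.Grauert3 K30.Grauert4 K30.DirIm
  Groth.Agent.Fdesc.LocGen Groth.Agent.Ega2.Ample Groth.Agent.Ega2.Nv Groth.Agent.Ega2.H278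

section integral

variable {X V : Scheme.{u}} {L : X.Modules} {π : V ⟶ X} {j : X ⟶ V} (B : LineBdl L π j)

include B in
theorem isDomain_preimage [IsIntegral X] {A : X.Opens} (hA : IsAffineOpen A) {e : Γ(L, A)} (he : IsGen e)
    (hne : (A : Set X).Nonempty) : IsDomain Γ(V, π ⁻¹ᵁ A) := by
  have : Nonempty A := hne.to_subtype
  exact MulEquiv.isDomain (Polynomial Γ(X, A)) (polyEquiv B hA he).symm.toMulEquiv

include B in
/-- A line bundle over an integral scheme is integral. -/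
theorem isIntegral_of_lineBdl (hL : LocGen L ⊤) [IsIntegral X] : IsIntegral V := by
  have := B.affine
  have hfr : ∀ x : X, ∃ (A : X.Opens) (_ : IsAffineOpen A), x ∈ A ∧ IsDomain Γ(V, π ⁻¹ᵁ A) := by
    intro x
    obtain ⟨A₁, e₁, hxA₁, -, he₁⟩ := hL x trivial
    obtain ⟨A, hA, hxA, hle⟩ := exists_isAffineOpen_mem_and_subset (x := x) (U := A₁) hxA₁
    exact ⟨A, hA, hxA, isDomain_preimage B hA (he₁.res (show A ≤ A₁ from hle)) ⟨x, hxA⟩⟩
  choose A hA hxA hdom using hfr
  have hirr : ∀ x, IsPreirreducible ((π ⁻¹ᵁ (A x) : V.Opens) : Set V) := by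
    intro x
    have h1 : IsAffineOpen (π ⁻¹ᵁ (A x)) := (hA x).preimage π
    have := hdom x
    have h2 : IsPreirreducible (Set.univ : Set (Spec Γ(V, π ⁻¹ᵁ (A x)))) :=
      (PreirreducibleSpace.isPreirreducible_univ (X := PrimeSpectrum Γ(V, π ⁻¹ᵁ (A x))))
    have h3 := h2.image h1.fromSpec h1.fromSpec.continuous.continuousOn
    rw [Set.image_univ, h1.range_fromSpec] at h3
    exact h3
  obtain ⟨x₀⟩ : Nonempty X := inferInstance
  -- every nonempty open meets the chart at `x₀`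
  have hmeet : ∀ W : V.Opens, (W : Set V).Nonempty → ((π ⁻¹ᵁ (A x₀) : V.Opens) ∩ (W : Set V) : Set V).Nonempty := by
    rintro W ⟨v, hv⟩
    obtain ⟨x, hx1, hx2⟩ : ((A x₀ : Set X) ∩ (A (π v))).Nonempty :=
      nonempty_preirreducible_inter (A x₀).2 (A (π v)).2 ⟨x₀, hxA _⟩ ⟨π v, hxA _⟩
    obtain ⟨w, hw1, hw2, hw3⟩ := hirr (π v) W (π ⁻¹ᵁ (A x₀)) W.2 (π ⁻¹ᵁ (A x₀)).2
      ⟨v, hxA _, hv⟩ ⟨j x, (mem_preimage_section_iff B x _).2 hx2, (mem_preimage_section_iff B x _).2 hx1⟩
    exact ⟨w, hw3, hw2⟩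
  have hpre : PreirreducibleSpace V := by
    refine ⟨?_⟩
    intro W W' hW hW' hne hne'
    obtain ⟨w, -, hw⟩ := hirr x₀ W W' hW hW'
      (hmeet ⟨W, hW⟩ (by simpa using hne)) (hmeet ⟨W', hW'⟩ (by simpa using hne'))
    exact ⟨w, trivial, hw⟩
  have hnev : Nonempty V := ⟨j x₀⟩
  have hirrS : IrreducibleSpace V := { toPreirreducibleSpace := hpre, toNonempty := hnev }
  have hred : IsReduced V := by
    have : ∀ v : V, _root_.IsReduced (V.presheaf.stalk v) := by
      intro v
      have h1 : IsAffineOpen (π ⁻¹ᵁ (A (π v))) := (hA _).preimage π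
      have := hdom (π v)
      have hv : v ∈ (π ⁻¹ᵁ (A (π v)) : V.Opens) := hxA _
      let := TopCat.Presheaf.algebra_section_stalk V.presheaf (⟨v, hv⟩ : (π ⁻¹ᵁ (A (π v)) : V.Opens))
      have h2 : IsLocalization.AtPrime (V.presheaf.stalk v) (h1.primeIdealOf ⟨v, hv⟩).asIdeal :=
        h1.isLocalization_stalk ⟨v, hv⟩
      have h3 : _root_.IsReduced Γ(V, π ⁻¹ᵁ (A (π v))) := inferInstance
      exact isReduced_localizationPreserves (h1.primeIdealOf ⟨v, hv⟩).asIdeal.primeCompl (V.presheaf.stalk v) h3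
    exact isReduced_of_isReduced_stalk V
  exact isIntegral_of_irreducibleSpace_of_isReduced V

include B in
theorem nonempty_compl [IsIntegral X] (hL : LocGen L ⊤) : ((Set.range j)ᶜ : Set V).Nonempty := by
  have := B.affine
  obtain ⟨x₀⟩ : Nonempty X := inferInstance
  obtain ⟨A₁, e₁, hxA₁, -, he₁⟩ := hL x₀ trivial
  obtain ⟨A, hA, hxA, hle⟩ := exists_isAffineOpen_mem_and_subset (x := x₀) (U := A₁) hxA₁
  have he := he₁.res (show A ≤ A₁ from hle)
  have hne : Nonempty A := ⟨⟨x₀, hxA⟩⟩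
  have := isDomain_preimage B hA he ⟨x₀, hxA⟩
  by_contra hcon
  have h1 : V.basicOpen (B.tau A hA (res L hle e₁)) = ⊥ := by
    rw [eq_bot_iff]
    intro v hv
    exact (hcon ⟨v, (mem_basicOpen_tau_iff B hA he (V.basicOpen_le _ hv)).1 hv⟩).elim
  have h2 := (Scheme.isNilpotent_iff_basicOpen_eq_bot_of_isCompact (hA.preimage π).isCompact _).2 h1
  have h3 : B.tau A hA (res L hle e₁) = 0 := h2.eq_zero
  rw [← polyEquiv_X B hA he] at h3
  have h4 : (Polynomial.X : Polynomial Γ(X, A)) = 0 :=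
    (polyEquiv B hA he).injective (h3.trans (map_zero _).symm)
  exact Polynomial.X_ne_zero h4

end integral

theorem isIntegral_of_isIso_c {V C' : Scheme.{u}} (q' : V ⟶ C') [IsIntegral V] [Surjective q'] [IsIso q'.c] :
    IsIntegral C' := by
  obtain ⟨v⟩ : Nonempty V := inferInstance
  have hn : Nonempty C' := ⟨q' v⟩
  refine { nonempty := hn, component_integral := fun W hW => ?_ }
  have h1 : IsIso (q'.c.app (op W)) := inferInstance
  have hb : Function.Bijective (q'.app W).hom := ConcreteCategory.bijective_of_isIso (q'.c.app (op W))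
  obtain ⟨c, hc⟩ := hW
  obtain ⟨v, rfl⟩ := q'.surjective c
  have : Nonempty (q' ⁻¹ᵁ W) := ⟨⟨v, hc⟩⟩
  exact MulEquiv.isDomain Γ(V, q' ⁻¹ᵁ W) (RingEquiv.ofBijective _ hb).toMulEquiv

theorem isIntegral_of_normal {C C' : Scheme.{u}} (u : C' ⟶ C) [IsIntegral C'] (hu : Function.Surjective u)
    (hC : Pi1.IsNormalScheme C) : IsIntegral C := by
  have h1 : ∀ c : C, _root_.IsReduced (C.presheaf.stalk c) := fun c => by
    have := (hC c).1
    infer_instance
  have h2 : IsReduced C := isReduced_of_isReduced_stalk C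
  have h3 : IrreducibleSpace C := by
    obtain ⟨c⟩ : Nonempty C' := inferInstance
    have h4 : IsPreirreducible (Set.univ : Set C) := by
      rw [← Set.range_eq_univ.2 hu, ← Set.image_univ]
      exact (PreirreducibleSpace.isPreirreducible_univ (X := C')).image u u.continuous.continuousOn
    exact { isPreirreducible_univ := h4, toNonempty := ⟨u c⟩ }
  exact isIntegral_of_irreducibleSpace_of_isReduced C

theorem isIntegralHom_of_injective {C C' : Scheme.{u}} (u : C' ⟶ C) [UniversallyClosed u]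
    (hu : Function.Injective u) : IsIntegralHom u := by
  have h1 : Topology.IsClosedEmbedding u := .of_continuous_injective_isClosedMap u.continuous hu u.isClosedMap
  have h2 : IsAffineHom u := isAffineHom_of_isInducing u h1.isInducing h1.isClosed_range
  exact IsIntegralHom.iff_universallyClosed_and_isAffineHom.2 ⟨inferInstance, h2⟩

theorem isIso_of_dense {C C' : Scheme.{u}} (u : C' ⟶ C) [IsIntegral C'] [IsIntegral C] (hC : Pi1.IsNormalScheme C)
    [IsIntegralHom u] (O : C'.Opens) (hO : (O : Set C').Nonempty) [IsOpenImmersion (O.ι ≫ u)] : IsIso u := by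
  have hr : Set.range (O.ι ≫ u) = Set.range (O.ι ≫ u).opensRange.ι := by
    rw [Scheme.Opens.range_ι]
    rfl
  refine Groth.Agent.S2347.result hC u (O.ι ≫ u).opensRange ?_
    ((IsOpenImmersion.isoOfRangeEq (O.ι ≫ u) (O.ι ≫ u).opensRange.ι hr).inv ≫ O.ι) ?_
  · obtain ⟨c, hc⟩ := hO
    exact (O.ι ≫ u).opensRange.2.dense ⟨(O.ι ≫ u) ⟨c, hc⟩, ⟨⟨c, hc⟩, rfl⟩⟩
  · rw [Category.assoc, IsOpenImmersion.isoOfRangeEq_inv_fac]

end K30.CtrFac

end
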