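import Groth.Agent.Ega2.H278.AlgOf
import Groth.Agent.EGA2.K30.Contr
import Groth.Agent.EGA2.K30.FibAlg

/-!
# The spectrum of a direct image as a contraction

* `exists_section`: for `q : V ⟶ C` over `Y` with `C` affine over `Y`, `j : X ⟶ V` and `p : X ⟶ Y` with
  `O_Y ≅ p_*O_X`, the section `ε` of `C` with `j ≫ q = p ≫ ε`;
* `contr`: `Contr j q g ε` if `O_C(g⁻¹U) ≅ O_V(q⁻¹g⁻¹U)` for `U` affine;
* `bijective_app`: then `O_C ≅ q_*O_V`.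
-/

set_option autoImplicit false
universe u

open CategoryTheory CategoryTheory.Limits AlgebraicGeometry Opposite TopologicalSpace

noncomputable section

namespace K30.DirIm

open Groth.Agent.Fdesc.LocGen K30.Ctr Groth.Agent.Ega2.H278

variable {X V Y C : Scheme.{u}} {j : X ⟶ V} {p : X ⟶ Y} {g : C ⟶ Y} {q : V ⟶ C}

theorem exists_section [IsAffineHom g] (w : (j ≫ q) ≫ g = p) [IsIso p.c] :
    ∃ ε : Y ⟶ C, ε ≫ g = 𝟙 Y ∧ j ≫ q = p ≫ ε := by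
  let ω : AffAlg.alg g ⟶ AffAlg.alg (𝟙 Y) :=
    AffAlg.algHom g p (j ≫ q) w ≫ inv p.c ≫ (𝟙 Y : Y ⟶ Y).c
  have hω : g.c ≫ ω = (𝟙 Y : Y ⟶ Y).c := by
    change g.c ≫ AffAlg.algHom g p (j ≫ q) w ≫ inv p.c ≫ (𝟙 Y : Y ⟶ Y).c = _
    rw [← Category.assoc, AffAlg.algHom_comm, IsIso.hom_inv_id_assoc]
  obtain ⟨⟨ε, hε⟩, he⟩ := AlgOf.surjective g (𝟙 Y) ⟨ω, hω⟩
  have he' : AffAlg.algHom g (𝟙 Y) ε hε = ω := congrArg Subtype.val he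
  refine ⟨ε, hε, ?_⟩
  have w2 : (p ≫ ε) ≫ g = p := by rw [Category.assoc, hε, Category.comp_id]
  have key := AlgOf.injective g p (a₁ := ⟨j ≫ q, w⟩) (a₂ := ⟨p ≫ ε, w2⟩) (Subtype.ext
    (AlgOf.hom_ext _ _ _ _ fun U => by
      change (AffAlg.algHom g p (j ≫ q) w).app (op U.1) = (AffAlg.algHom g p (p ≫ ε) w2).app (op U.1)
      have k1 : ε.appLE (g ⁻¹ᵁ U.1) ((𝟙 Y : Y ⟶ Y) ⁻¹ᵁ U.1) (AlgOf.preimage_le g (𝟙 Y) ε hε U.1) =
          (j ≫ q).appLE (g ⁻¹ᵁ U.1) (p ⁻¹ᵁ U.1) (AlgOf.preimage_le g p (j ≫ q) w U.1) ≫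
            (inv p.c).app (op U.1) ≫ (𝟙 Y : Y ⟶ Y).app U.1 := by
        rw [← AlgOf.algHom_app g (𝟙 Y) ε hε, ← AlgOf.algHom_app g p (j ≫ q) w, he']
        rfl
      rw [AlgOf.algHom_app, AlgOf.algHom_app]
      have e1 : p ⁻¹ᵁ U.1 ≤ p ⁻¹ᵁ ((𝟙 Y : Y ⟶ Y) ⁻¹ᵁ U.1) := le_rfl
      have k2 : (p ≫ ε).appLE (g ⁻¹ᵁ U.1) (p ⁻¹ᵁ U.1) (AlgOf.preimage_le g p (p ≫ ε) w2 U.1) =
          ε.appLE (g ⁻¹ᵁ U.1) ((𝟙 Y : Y ⟶ Y) ⁻¹ᵁ U.1) (AlgOf.preimage_le g (𝟙 Y) ε hε U.1) ≫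
            p.appLE ((𝟙 Y : Y ⟶ Y) ⁻¹ᵁ U.1) (p ⁻¹ᵁ U.1) e1 := (Scheme.Hom.appLE_comp_appLE _ _ _ _ _ _ _).symm
      have k3 : (𝟙 Y : Y ⟶ Y).app U.1 ≫ p.appLE ((𝟙 Y : Y ⟶ Y) ⁻¹ᵁ U.1) (p ⁻¹ᵁ U.1) e1 = p.app U.1 := by
        have h1 : p.appLE ((𝟙 Y : Y ⟶ Y) ⁻¹ᵁ U.1) (p ⁻¹ᵁ U.1) e1 = p.app ((𝟙 Y : Y ⟶ Y) ⁻¹ᵁ U.1) :=
          Scheme.Hom.appLE_eq_app _
        rw [h1]
        exact (Category.id_comp _)
      have k4 : (inv p.c).app (op U.1) ≫ p.app U.1 = 𝟙 _ := by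
        change (inv p.c).app (op U.1) ≫ p.c.app (op U.1) = 𝟙 _
        rw [← NatTrans.comp_app, IsIso.inv_hom_id]
        rfl
      rw [k2, k1, Category.assoc, Category.assoc, k3, k4]
      exact (Category.comp_id _).symm))
  exact congrArg Subtype.val key

theorem injective_app_of_isIso_c [IsIso p.c] (U : Y.Opens) : Function.Injective (p.app U).hom := by
  have : IsIso (p.c.app (op U)) := inferInstance
  exact (ConcreteCategory.bijective_of_isIso (p.c.app (op U))).1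

theorem contr {ε : Y ⟶ C} (hjq : j ≫ q = p ≫ ε) (hp : ∀ U : Y.Opens, Function.Injective (p.app U).hom)
    (hb : ∀ U : Y.Opens, IsAffineOpen U → Function.Bijective (q.app (g ⁻¹ᵁ U)).hom) : Contr j q g ε where
  surj U hU F hF := by
    obtain ⟨b, hb⟩ := (hb U hU).2 F
    refine ⟨b, hb, ?_⟩
    have h1 := Scheme.Hom.congr_app hjq (g ⁻¹ᵁ U)
    have h2 : (j.app _ (q.app (g ⁻¹ᵁ U) b : Γ(V, q ⁻¹ᵁ (g ⁻¹ᵁ U))) : Γ(X, j ⁻¹ᵁ (q ⁻¹ᵁ (g ⁻¹ᵁ U)))) =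
        (j ≫ q).app (g ⁻¹ᵁ U) b := by
      rw [Scheme.Hom.comp_app]
      rfl
    have hb' : (q.app (g ⁻¹ᵁ U) b : Γ(V, q ⁻¹ᵁ (g ⁻¹ᵁ U))) = F := hb
    rw [hb', hF, h1, Scheme.Hom.comp_app] at h2
    have heq2 : (j ≫ q) ⁻¹ᵁ (g ⁻¹ᵁ U) = (p ≫ ε) ⁻¹ᵁ (g ⁻¹ᵁ U) := by rw [hjq]
    have h3 : X.presheaf.map (eqToHom heq2).op
        (p.app (ε ⁻¹ᵁ (g ⁻¹ᵁ U)) (ε.app (g ⁻¹ᵁ U) b) : Γ(X, (p ≫ ε) ⁻¹ᵁ (g ⁻¹ᵁ U))) = 0 := h2.symm
    have h4 : (p.app _ (ε.app (g ⁻¹ᵁ U) b : Γ(Y, ε ⁻¹ᵁ (g ⁻¹ᵁ U))) : Γ(X, p ⁻¹ᵁ _)) = 0 := by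
      apply (ConcreteCategory.bijective_of_isIso (X.presheaf.map (eqToHom heq2).op)).1
      exact h3.trans (map_zero _).symm
    apply hp
    exact h4.trans (map_zero _).symm
  inj U hU b h1 _ := (hb U hU).1 (h1.trans (map_zero _).symm)

variable [IsAffineHom g]

theorem bijective_basicOpen [QuasiCompact (q ≫ g)] [QuasiSeparated (q ≫ g)]
    {U : Y.Opens} (hU : IsAffineOpen U) (hb : Function.Bijective (q.app (g ⁻¹ᵁ U)).hom) (b : Γ(C, g ⁻¹ᵁ U)) :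
    Function.Bijective (q.app (C.basicOpen b)).hom := by
  have hgU : IsAffineOpen (g ⁻¹ᵁ U) := hU.preimage g
  have hcomp : IsCompact ((q ⁻¹ᵁ (g ⁻¹ᵁ U) : V.Opens) : Set V) := by
    rw [← Scheme.Hom.comp_preimage]
    exact (q ≫ g).isCompact_preimage hU.isCompact
  have hqs : IsQuasiSeparated ((q ⁻¹ᵁ (g ⁻¹ᵁ U) : V.Opens) : Set V) := by
    rw [← Scheme.Hom.comp_preimage]
    exact (q ≫ g).isQuasiSeparated_preimage hU.isQuasiSeparated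
  let φ : Γ(C, g ⁻¹ᵁ U) →+* Γ(V, q ⁻¹ᵁ (g ⁻¹ᵁ U)) := (q.app (g ⁻¹ᵁ U)).hom
  let F := φ b
  have hle1 : C.basicOpen b ≤ g ⁻¹ᵁ U := C.basicOpen_le b
  have hle2 : q ⁻¹ᵁ (C.basicOpen b) ≤ q ⁻¹ᵁ (g ⁻¹ᵁ U) := q.preimage_mono hle1
  have heq : V.basicOpen F = q ⁻¹ᵁ (C.basicOpen b) := (Scheme.preimage_basicOpen q b).symm
  let alg1 : Algebra Γ(C, g ⁻¹ᵁ U) Γ(C, C.basicOpen b) := (C.presheaf.map (homOfLE hle1).op).hom.toAlgebra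
  let alg2 : Algebra Γ(V, q ⁻¹ᵁ (g ⁻¹ᵁ U)) Γ(V, q ⁻¹ᵁ (C.basicOpen b)) :=
    (V.presheaf.map (homOfLE hle2).op).hom.toAlgebra
  have l1 : IsLocalization.Away b Γ(C, C.basicOpen b) := hgU.isLocalization_basicOpen b
  have l2 : IsLocalization.Away F Γ(V, q ⁻¹ᵁ (C.basicOpen b)) := by
    let : Algebra Γ(V, q ⁻¹ᵁ (g ⁻¹ᵁ U)) Γ(V, V.basicOpen F) :=
      (V.presheaf.map (homOfLE (V.basicOpen_le _)).op).hom.toAlgebra
    dsimp +instances [alg2]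
    rw! (castMode := .all) [← heq]
    exact isLocalization_basicOpen_of_qcqs hcomp hqs F
  refine bijective_away φ b (q.app (C.basicOpen b)).hom ?_ ?_ ?_
  · intro r
    exact congr($(q.naturality (homOfLE hle1).op) r)
  · intro s
    exact hb.2 (F * s)
  · intro r hr
    have : r = 0 := hb.1 (hr.trans (map_zero _).symm)
    rw [this, mul_zero]

/-- `O_C ≅ q_*O_V` if this holds over the affine opens of the base. -/
theorem bijective_app [QuasiCompact (q ≫ g)] [QuasiSeparated (q ≫ g)]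
    (hb : ∀ U : Y.Opens, IsAffineOpen U → Function.Bijective (q.app (g ⁻¹ᵁ U)).hom) (W : C.Opens) :
    Function.Bijective (q.app W).hom := by
  have hbasis : ∀ (W : C.Opens) (c : C) (_ : c ∈ W), ∃ D : C.Opens, c ∈ D ∧ D ≤ W ∧
      Function.Bijective (q.app D).hom := by
    intro W c hc
    obtain ⟨U, hU, hyU, -⟩ := exists_isAffineOpen_mem_and_subset (x := g c) (U := (⊤ : Y.Opens)) trivial
    obtain ⟨b, hbW, hcb⟩ := (hU.preimage g).exists_basicOpen_le (V := W) ⟨c, hc⟩ hyU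
    exact ⟨C.basicOpen b, hcb, hbW, bijective_basicOpen hU (hb U hU) b⟩
  have nat : ∀ {W D : C.Opens} (i : D ≤ W) (s : Γ(C, W)),
      ores (q.preimage_mono i) (q.app W s : Γ(V, q ⁻¹ᵁ W)) = (q.app D (ores i s) : Γ(V, q ⁻¹ᵁ D)) :=
    fun i s => congr($(q.naturality (homOfLE i).op) s).symm
  have hinj : ∀ (W : C.Opens), Function.Injective (q.app W).hom := by
    intro W
    rw [injective_iff_map_eq_zero]
    intro s hs
    choose D hcD hDW hD using fun c : W => hbasis W c.1 c.2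
    refine ores_ext D hDW (fun c hc => Opens.mem_iSup.2 ⟨⟨c, hc⟩, hcD _⟩) fun c => ?_
    apply (hD c).1
    have h1 := nat (hDW c) s
    have hs' : (q.app W s : Γ(V, q ⁻¹ᵁ W)) = 0 := hs
    rw [hs', map_zero] at h1
    rw [map_zero (ores (hDW c))]
    exact h1.symm.trans (map_zero _).symm
  refine ⟨hinj W, fun t => ?_⟩
  choose D hcD hDW hD using fun c : W => hbasis W c.1 c.2
  choose s hs using fun c => (hD c).2 (ores (q.preimage_mono (hDW c)) t)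
  have hs' : ∀ c, (q.app (D c) (s c) : Γ(V, q ⁻¹ᵁ (D c))) = ores (q.preimage_mono (hDW c)) t := hs
  have hcov : W ≤ ⨆ c, D c := fun c hc => Opens.mem_iSup.2 ⟨⟨c, hc⟩, hcD _⟩
  obtain ⟨r, hr⟩ := ores_glue D hDW hcov s (fun c c' => by
    apply hinj
    change (q.app (D c ⊓ D c') _ : Γ(V, q ⁻¹ᵁ (D c ⊓ D c'))) = q.app (D c ⊓ D c') _
    rw [← nat, ← nat, hs', hs', ores_ores, ores_ores])
  refine ⟨r, ?_⟩
  refine ores_ext (fun c => q ⁻¹ᵁ (D c)) (fun c => q.preimage_mono (hDW c))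
    (fun v hv => Opens.mem_iSup.2 ⟨⟨q v, hv⟩, hcD _⟩) fun c => ?_
  have h1 := nat (hDW c) r
  rw [hr, hs'] at h1
  exact h1

theorem isIso_c [QuasiCompact (q ≫ g)] [QuasiSeparated (q ≫ g)]
    (hb : ∀ U : Y.Opens, IsAffineOpen U → Function.Bijective (q.app (g ⁻¹ᵁ U)).hom) : IsIso q.c := by
  rw [NatTrans.isIso_iff_isIso_app]
  intro W
  exact (ConcreteCategory.isIso_iff_bijective (q.app W.unop)).2 (bijective_app hb W.unop)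

end K30.DirIm

end
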