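import Groth.Agent.Ega2.H270.ProjCover
import Mathlib.RingTheory.GradedAlgebra.Noetherian
import Mathlib.RingTheory.FiniteType

/-!
# Generators of the irrelevant ideal and of the algebra over the degree-zero part
(for an arbitrary grading by additive subgroups)
-/

set_option autoImplicit false
universe u v

namespace K30.GradedGen

variable {σ A : Type*} [CommRing A] [SetLike σ A] [AddSubgroupClass σ A] (𝒜 : ℕ → σ) [GradedRing 𝒜]

/-- If `E` (homogeneous of positive degrees) generates the irrelevant ideal, it generates the algebra. -/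
theorem adjoin_eq_top_of_irrelevant_le {E : Set A} (hE : ∀ e ∈ E, ∃ d : ℕ, 0 < d ∧ e ∈ 𝒜 d)
    (h : (HomogeneousIdeal.irrelevant 𝒜).toIdeal ≤ Ideal.span E) : Algebra.adjoin (𝒜 0) E = ⊤ := by
  classical
  have key : ∀ d : ℕ, ∀ a ∈ 𝒜 d, a ∈ Algebra.adjoin (𝒜 0) E := by
    intro d
    induction d using Nat.strong_induction_on with
    | _ d ih =>
      intro a ha
      rcases Nat.eq_zero_or_pos d with rfl | hd
      · exact (Algebra.adjoin (𝒜 0) E).algebraMap_mem ⟨a, ha⟩
      · have h1 : a ∈ Ideal.span E := h (HomogeneousIdeal.mem_irrelevant_of_mem _ hd ha)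
        have h2 : ∀ x ∈ Ideal.span E, (DirectSum.decompose 𝒜 x d : A) ∈ Algebra.adjoin (𝒜 0) E := by
          intro x hx
          rw [Ideal.span, Submodule.mem_span_set'] at hx
          obtain ⟨n, c, g, rfl⟩ := hx
          rw [DirectSum.decompose_sum, DFinsupp.finsetSum_apply, AddSubmonoidClass.coe_finsetSum]
          refine sum_mem fun i _ => ?_
          obtain ⟨k, hk, hgk⟩ := hE (g i).1 (g i).2
          rw [smul_eq_mul, DirectSum.coe_decompose_mul_of_right_mem 𝒜 d hgk]
          split_ifs with hkd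
          · exact mul_mem (ih (d - k) (by omega) _ (SetLike.coe_mem _)) (Algebra.subset_adjoin (g i).2)
          · exact zero_mem _
        have h3 := h2 a h1
        rwa [DirectSum.decompose_of_mem_same 𝒜 ha] at h3
  rw [eq_top_iff]
  intro a _
  rw [← DirectSum.sum_support_decompose 𝒜 a]
  exact sum_mem fun i _ => key i _ (SetLike.coe_mem _)

theorem span_le_irrelevant {E : Set A} (hE : ∀ e ∈ E, ∃ d : ℕ, 0 < d ∧ e ∈ 𝒜 d) :
    Ideal.span E ≤ (HomogeneousIdeal.irrelevant 𝒜).toIdeal := by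
  rw [Ideal.span_le]
  intro e he
  obtain ⟨d, hd, hed⟩ := hE e he
  exact HomogeneousIdeal.mem_irrelevant_of_mem _ hd hed

/-- Conversely. -/
theorem irrelevant_le_of_adjoin_eq_top {E : Set A} (hE : ∀ e ∈ E, ∃ d : ℕ, 0 < d ∧ e ∈ 𝒜 d)
    (h : Algebra.adjoin (𝒜 0) E = ⊤) : (HomogeneousIdeal.irrelevant 𝒜).toIdeal ≤ Ideal.span E := by
  classical
  have key : ∀ x : A, ∃ r ∈ 𝒜 0, x - r ∈ Ideal.span E := by
    intro x
    have hx : x ∈ Algebra.adjoin (𝒜 0) E := by rw [h]; trivial
    induction hx using Algebra.adjoin_induction with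
    | mem x hx => exact ⟨0, zero_mem _, by rw [sub_zero]; exact Ideal.subset_span hx⟩
    | algebraMap r => exact ⟨r.1, r.2, by
        have : algebraMap (𝒜 0) A r = r.1 := rfl
        rw [this, sub_self]; exact zero_mem _⟩
    | add x y _ _ hx hy =>
      obtain ⟨r, hr, hxr⟩ := hx
      obtain ⟨s, hs, hys⟩ := hy
      exact ⟨r + s, add_mem hr hs, by
        have : x + y - (r + s) = (x - r) + (y - s) := by ring
        rw [this]; exact add_mem hxr hys⟩
    | mul x y _ _ hx hy =>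
      obtain ⟨r, hr, hxr⟩ := hx
      obtain ⟨s, hs, hys⟩ := hy
      exact ⟨r * s, by simpa using SetLike.mul_mem_graded hr hs, by
        have : x * y - r * s = y * (x - r) + r * (y - s) := by ring
        rw [this]; exact add_mem (Ideal.mul_mem_left _ _ hxr) (Ideal.mul_mem_left _ _ hys)⟩
  have h' : HomogeneousIdeal.irrelevant 𝒜 ≤
      (⟨Ideal.span E, Ideal.homogeneous_span 𝒜 E (fun e he => (hE e he).imp fun d hd => hd.2)⟩ :
        HomogeneousIdeal 𝒜) := by
    rw [HomogeneousIdeal.irrelevant_le]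
    intro d hd a ha
    obtain ⟨r, hr, har⟩ := key a
    have h1 := span_le_irrelevant 𝒜 hE har
    have h2 : (DirectSum.decompose 𝒜 (a - r) 0 : A) = 0 := by
      exact HomogeneousIdeal.mem_irrelevant_iff _ _ |>.1 h1
    rw [DirectSum.decompose_sub, DirectSum.sub_apply, AddSubgroupClass.coe_sub,
      DirectSum.decompose_of_mem_ne 𝒜 ha hd.ne', DirectSum.decompose_of_mem_same 𝒜 hr, zero_sub,
      neg_eq_zero] at h2
    rw [h2, sub_zero] at har
    exact har
  exact h'

theorem irrelevant_eq_span_iff {E : Set A} (hE : ∀ e ∈ E, ∃ d : ℕ, 0 < d ∧ e ∈ 𝒜 d) :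
    (HomogeneousIdeal.irrelevant 𝒜).toIdeal = Ideal.span E ↔ Algebra.adjoin (𝒜 0) E = ⊤ :=
  ⟨fun h => adjoin_eq_top_of_irrelevant_le 𝒜 hE h.le,
    fun h => le_antisymm (irrelevant_le_of_adjoin_eq_top 𝒜 hE h) (span_le_irrelevant 𝒜 hE)⟩

/-- Finitely many homogeneous generators of positive degrees of an algebra of finite type. -/
theorem exists_homogeneous_generators_of_finiteType [Algebra.FiniteType (𝒜 0) A] :
    ∃ s : Finset A, (∀ e ∈ s, ∃ d : ℕ, 0 < d ∧ e ∈ 𝒜 d) ∧ Algebra.adjoin (𝒜 0) (s : Set A) = ⊤ := by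
  classical
  obtain ⟨t, ht⟩ := (inferInstance : Algebra.FiniteType (𝒜 0) A).out
  let s : Finset A := t.biUnion fun x => (((DirectSum.decompose 𝒜 x).support.erase 0).image
    fun i => (DirectSum.decompose 𝒜 x i : A))
  refine ⟨s, ?_, ?_⟩
  · intro e he
    simp only [s, Finset.mem_biUnion, Finset.mem_image, Finset.mem_erase] at he
    obtain ⟨x, -, i, ⟨hi, -⟩, rfl⟩ := he
    exact ⟨i, Nat.pos_of_ne_zero hi, SetLike.coe_mem _⟩
  · rw [eq_top_iff, ← ht]
    refine Algebra.adjoin_le fun x hx => ?_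
    rw [← DirectSum.sum_support_decompose 𝒜 x]
    refine sum_mem fun i hi => ?_
    by_cases h0 : i = 0
    · subst h0
      exact (Algebra.adjoin (𝒜 0) (s : Set A)).algebraMap_mem (DirectSum.decompose 𝒜 x 0)
    · refine Algebra.subset_adjoin ?_
      simp only [s, Finset.coe_biUnion, Set.mem_iUnion]
      exact ⟨x, hx, Finset.mem_coe.2 (Finset.mem_image.2 ⟨i, Finset.mem_erase.2 ⟨h0, hi⟩, rfl⟩)⟩

theorem irrelevant_fg_iff {A : Type u} [CommRing A] [SetLike σ A] [AddSubgroupClass σ A] (𝒜 : ℕ → σ)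
    [GradedRing 𝒜] :
    (HomogeneousIdeal.irrelevant 𝒜).toIdeal.FG ↔ Algebra.FiniteType (𝒜 0) A := by
  constructor
  · intro h
    obtain ⟨s, hs, hspan⟩ := Groth.Agent.Ega2.H270.ProjCover.exists_homogeneous_generators 𝒜 h
    exact ⟨⟨s, adjoin_eq_top_of_irrelevant_le 𝒜 (fun e he => hs e he) hspan.le⟩⟩
  · intro h
    obtain ⟨s, hs, hadj⟩ := exists_homogeneous_generators_of_finiteType 𝒜
    exact ⟨s, ((irrelevant_eq_span_iff 𝒜 (fun e he => hs e he)).2 hadj).symm⟩

theorem isNoetherianRing_iff {A : Type u} [CommRing A] [SetLike σ A] [AddSubgroupClass σ A] (𝒜 : ℕ → σ)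
    [GradedRing 𝒜] :
    IsNoetherianRing A ↔ IsNoetherianRing (𝒜 0) ∧ Algebra.FiniteType (𝒜 0) A := by
  constructor
  · intro h
    exact ⟨inferInstance, (irrelevant_fg_iff 𝒜).1 (IsNoetherian.noetherian _)⟩
  · rintro ⟨h1, h2⟩
    exact Algebra.FiniteType.isNoetherianRing (𝒜 0) A

end K30.GradedGen
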