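import Groth.Agent.EGA2.K30.TaylorPt

/-!
# Grauert's criterion: a contraction of the zero section gives relative ampleness
-/

set_option autoImplicit false
universe u

open CategoryTheory CategoryTheory.Limits AlgebraicGeometry Opposite TopologicalSpace

noncomputable section

namespace K30.Grauert1

open K30.LBdl K30.EvSpec K30.Taylor K30.TaylorPt Groth.Agent.Fdesc.LocGen Groth.Agent.Ega2.Nv
  Groth.Agent.Ega2.Ample Groth.Agent.Ega2.RelAmp

variable {X V Y C : Scheme.{u}} {L : X.Modules} {π : V ⟶ X} {j : X ⟶ V}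

/-- Grauert's criterion, sufficiency: if the complement `V0` of the zero section is an open subscheme of `C` under a
`Y`-morphism `q : V ⟶ C` contracting the zero section to a section `ε` of `C` disjoint from the image of `V0`, then `L`
is ample relative to `p`. -/
theorem isRelAmple_of_contraction (B : LineBdl L π j) (hL : PicF.IsInvertible L) (p : X ⟶ Y) [QuasiCompact p]
    (ε : Y ⟶ C) (q : V ⟶ C) (hjq : j ≫ q = p ≫ ε)
    (V0 : V.Opens) (hV0 : (V0 : Set V) = (Set.range j)ᶜ) (hop : IsOpenImmersion (V0.ι ≫ q))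
    (hdis : Set.range (V0.ι ≫ q) ∩ Set.range ε = ∅) : RelAmple.IsRelAmple p L := by
  refine isRelAmple_of_forall_exists fun y => ?_
  -- an affine neighbourhood of `ε y` in `C`, and one of `y` in `Y`
  obtain ⟨C', hC', hyC', -⟩ := exists_isAffineOpen_mem_and_subset (x := ε y) (U := ⊤) trivial
  obtain ⟨Y', hY', hyY', hY'C⟩ := exists_isAffineOpen_mem_and_subset (x := y) (U := ε ⁻¹ᵁ C') hyC'
  have hLG : LocGen L ⊤ := locGen_top_iff.2 hL
  refine ⟨Y', hY', hyY', hLG.mono le_top, QuasiCompact.isCompact_preimage (f := p) Y'.1 Y'.2 hY'.isCompact,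
    fun x hx => ?_⟩
  set D : X.Opens := p ⁻¹ᵁ Y' with hD
  set W : V.Opens := q ⁻¹ᵁ C' with hWdef
  have hqj : ∀ z : X, q (j z) = ε (p z) := fun z => by
    rw [← Scheme.Hom.comp_apply, hjq, Scheme.Hom.comp_apply]
  have hW : D ≤ j ⁻¹ᵁ W := by
    intro z hz
    change q (j z) ∈ C'
    rw [hqj]
    exact hY'C hz
  -- an affine neighbourhood of `x`
  obtain ⟨U, hU, hxU, hUD⟩ := exists_isAffineOpen_mem_and_subset (x := x) (U := D) hx
  have hUD : U ≤ D := hUD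
  -- frames
  have hfr : ∀ z : D, ∃ (A : X.Opens) (_ : IsAffineOpen A) (e : Γ(L, A)), z.1 ∈ A ∧ A ≤ D ∧ IsGen e := by
    intro z
    obtain ⟨A₁, e₁, hzA, hA₁, he₁⟩ := (hLG.mono le_top : LocGen L D) z.1 z.2
    obtain ⟨A, hA, hzA', hle⟩ := exists_isAffineOpen_mem_and_subset (x := z.1) (U := A₁) hzA
    exact ⟨A, hA, res L hle e₁, hzA', (show A ≤ A₁ from hle).trans hA₁, he₁.res _⟩
  choose A hA e hzA hAD he using hfr
  have hcov : D ≤ ⨆ z, A z := fun z hz => Opens.mem_iSup.mpr ⟨⟨z, hz⟩, hzA _⟩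
  -- the open subset of `C`
  let O : C.Opens := (V0.ι ≫ q) ''ᵁ (V0.ι ⁻¹ᵁ (W ⊓ π ⁻¹ᵁ U))
  have hinj : Function.Injective (V0.ι ≫ q) := (V0.ι ≫ q).isOpenEmbedding.injective
  have hmemV0 : ∀ v : V, v ∉ Set.range j → v ∈ V0 := fun v hv => by
    have : v ∈ (V0 : Set V) := by rw [hV0]; exact hv
    exact this
  have hO : ∀ v : V, v ∉ Set.range j → q v ∈ O → v ∈ π ⁻¹ᵁ U := by
    intro v hv hvO
    obtain ⟨w, hw, hwv⟩ := hvO
    have h1 : w = ⟨v, hmemV0 v hv⟩ := by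
      apply hinj
      exact hwv
    rw [h1] at hw
    exact hw.2
  have hOε : ∀ z : X, q (j z) ∉ O := by
    intro z hz
    obtain ⟨w, -, hwz⟩ := hz
    have : q (j z) ∈ Set.range (V0.ι ≫ q) ∩ Set.range ε := ⟨⟨w, hwz⟩, ⟨p z, (hqj z).symm⟩⟩
    rw [hdis] at this
    exact this
  -- the point over `x`
  let x' : A ⟨x, hx⟩ := ⟨x, hzA ⟨x, hx⟩⟩
  let v := eta B (hA ⟨x, hx⟩) (he ⟨x, hx⟩) x'
  have hvW : v ∈ W := eta_mem B (hA ⟨x, hx⟩) (he ⟨x, hx⟩) x' ((hAD _).trans hW)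
  have hvj : v ∉ Set.range j := eta_notMem_range B _ _ _
  have hvU : v ∈ π ⁻¹ᵁ U := by
    change π v ∈ U
    rw [show π v = x from π_eta B _ _ _]
    exact hxU
  have hqvO : q v ∈ O := ⟨⟨v, hmemV0 v hvj⟩, ⟨hvW, hvU⟩, rfl⟩
  obtain ⟨f, hfO, hvf⟩ := hC'.exists_basicOpen_le ⟨q v, hqvO⟩ hvW
  let F : Γ(V, W) := q.app C' f
  have hF : V.basicOpen F = q ⁻¹ᵁ (C.basicOpen f) := (Scheme.preimage_basicOpen q f).symm
  -- the Taylor coefficients
  choose s hs using exists_coef B hW hA hAD hcov he F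
  have hnv : ∀ (n : ℕ) (z : D) , z.1 ∈ nv _ (s n) ↔
      z.1 ∈ X.basicOpen (PowerSeries.coeff n (tay B (hA z) (he z) ((hAD z).trans hW) F)) := by
    intro n z
    rw [← nv_inf_of_eq_smul (s n) (hAD z) ((he z).pow n) _ (hs n z)]
    exact ⟨fun h => ⟨hzA z, h⟩, fun h => h.2⟩
  have hvF : v ∈ V.basicOpen F := by rw [hF]; exact hvf
  obtain ⟨n, hn⟩ := (eta_mem_basicOpen_iff B (hA ⟨x, hx⟩) (he ⟨x, hx⟩) x' ((hAD _).trans hW) F).1 hvF
  have hxn : x ∈ nv _ (s n) := (hnv n ⟨x, hx⟩).2 hn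
  have hle : nv _ (s n) ≤ U := by
    intro z hz
    have hzD : z ∈ D := nv_le _ _ hz
    have h1 := (hnv n ⟨z, hzD⟩).1 hz
    have h2 := (eta_mem_basicOpen_iff B (hA ⟨z, hzD⟩) (he ⟨z, hzD⟩) ⟨z, hzA _⟩ ((hAD _).trans hW) F).2 ⟨n, h1⟩
    rw [hF] at h2
    have h3 := hO _ (eta_notMem_range B _ _ _) (hfO h2)
    change π _ ∈ U at h3
    rwa [π_eta] at h3
  have hn0 : 0 < n := by
    rcases Nat.eq_zero_or_pos n with h0 | h0
    · exfalso
      subst h0
      have h1 := (hnv 0 ⟨x, hx⟩).1 hxn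
      rw [PowerSeries.coeff_zero_eq_constantCoeff_apply, constantCoeff_tay,
        ← section_mem_basicOpen_iff _ F (hzA ⟨x, hx⟩), hF] at h1
      exact hOε x (hfO h1)
    · exact h0
  refine ⟨n, hn0, s n, hxn, ?_⟩
  have h5 := isAffineOpen_inf_nv (locGen_tensorPow (hLG.mono le_top) n) (s n) hU hUD
  rwa [inf_eq_right.2 hle] at h5

end K30.Grauert1

end
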