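import Groth.Agent.EGA2.K30.Grauert2

/-!
# Grauert's criterion, the necessity: the complement of the zero section embeds in a contraction
-/

set_option autoImplicit false
universe u

open CategoryTheory CategoryTheory.Limits AlgebraicGeometry Opposite TopologicalSpace

noncomputable section

namespace K30.Grauert3

open K30.LBdl K30.EvSpec K30.Taylor K30.TaylorPt K30.SecFun K30.Ctr K30.Grauert2 Groth.Agent.Fdesc.LocGen
  Groth.Agent.Ega2.Nv Groth.Agent.Ega2.Ample Groth.Agent.Ega2.RelAmp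

theorem isIso_restrict_iSup {V C : Scheme.{u}} (q : V ⟶ C) {ι : Type*} (D : ι → C.Opens)
    (h : ∀ i, IsIso (q ∣_ D i)) : IsIso (q ∣_ (⨆ i, D i)) := by
  have hle : ∀ i, D i ≤ ⨆ i, D i := le_iSup D
  have key : MorphismProperty.isomorphisms Scheme.{u} (q ∣_ (⨆ i, D i)) := by
    refine IsZariskiLocalAtTarget.of_iSup_eq_top (P := MorphismProperty.isomorphisms Scheme.{u})
      (fun i => (⨆ i, D i).ι ⁻¹ᵁ D i) ?_ ?_
    · rw [eq_top_iff]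
      rintro ⟨x, hx⟩ -
      obtain ⟨i, hi⟩ := Opens.mem_iSup.1 hx
      exact Opens.mem_iSup.2 ⟨i, hi⟩
    · intro i
      have h1 : (⨆ i, D i).ι ''ᵁ ((⨆ i, D i).ι ⁻¹ᵁ D i) = D i := by
        rw [Scheme.Hom.image_preimage_eq_opensRange_inf, Scheme.Opens.opensRange_ι]
        exact inf_eq_right.2 (hle i)
      rw [(MorphismProperty.isomorphisms Scheme.{u}).arrow_mk_iso_iff
        (morphismRestrictRestrict q (⨆ i, D i) ((⨆ i, D i).ι ⁻¹ᵁ D i)), h1]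
      exact h i
  exact key

variable {X V Y C : Scheme.{u}} {L : X.Modules} {π : V ⟶ X} {j : X ⟶ V} (B : LineBdl L π j)
  {p : X ⟶ Y} {g : C ⟶ Y} {ε : Y ⟶ C} {q : V ⟶ C}

include B in
/-- Every point off the zero section lies in the inverse image of `D(b)` for a function `b` on `g⁻¹U` vanishing along
`ε`, with `q⁻¹D(b)` affine. -/
theorem exists_b (hqg : q ≫ g = π ≫ p) (hc : Contr j q g ε) (h : RelAmple.IsRelAmple p L) (v : V)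
    (hv : v ∉ Set.range j) :
    ∃ (U : Y.Opens) (_ : IsAffineOpen U) (b : Γ(C, g ⁻¹ᵁ U)), (ε.app _ b : Γ(Y, ε ⁻¹ᵁ (g ⁻¹ᵁ U))) = 0 ∧
      q v ∈ C.basicOpen b ∧ IsAffineOpen (q ⁻¹ᵁ (C.basicOpen b)) := by
  obtain ⟨U, hU, hyU, -⟩ := exists_isAffineOpen_mem_and_subset (x := p (π v)) (U := (⊤ : Y.Opens)) trivial
  have ha : AmpleOn L (p ⁻¹ᵁ U) := (isRelAmple_iff.1 h).2 ⟨U, hU⟩
  obtain ⟨n, hn, s, hs, haff⟩ := ha.exists_nv (π v) hyU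
  obtain ⟨F₀, hF₀⟩ := exists_fun B ha.locGen s
  have heq : q ⁻¹ᵁ (g ⁻¹ᵁ U) = π ⁻¹ᵁ (p ⁻¹ᵁ U) := by
    rw [← Scheme.Hom.comp_preimage, hqg, Scheme.Hom.comp_preimage]
  have h0 : (j.app _ (ores heq.le F₀ : Γ(V, q ⁻¹ᵁ (g ⁻¹ᵁ U))) : Γ(X, j ⁻¹ᵁ (q ⁻¹ᵁ (g ⁻¹ᵁ U)))) = 0 := by
    have e1 := app_fun_eq_zero B ha.locGen hn hF₀
    have e2 : (j.app _ (ores heq.le F₀ : Γ(V, q ⁻¹ᵁ (g ⁻¹ᵁ U))) : Γ(X, j ⁻¹ᵁ (q ⁻¹ᵁ (g ⁻¹ᵁ U)))) =
        ores (j.preimage_mono heq.le) (j.app _ F₀ : Γ(X, j ⁻¹ᵁ (π ⁻¹ᵁ (p ⁻¹ᵁ U)))) :=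
      congr($(j.naturality (homOfLE heq.le).op) F₀)
    rw [e2, e1, map_zero]
  obtain ⟨b, hb, hεb⟩ := hc.surj U hU (ores heq.le F₀) h0
  have hbO : q ⁻¹ᵁ (C.basicOpen b) = V.basicOpen F₀ := by
    rw [Scheme.preimage_basicOpen, hb]
    have : V.basicOpen (ores heq.le F₀) = q ⁻¹ᵁ (g ⁻¹ᵁ U) ⊓ V.basicOpen F₀ := V.basicOpen_res F₀ (homOfLE _).op
    rw [this, heq]
    exact inf_eq_right.2 (V.basicOpen_le _)
  refine ⟨U, hU, b, hεb, ?_, ?_⟩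
  · change v ∈ q ⁻¹ᵁ (C.basicOpen b)
    rw [hbO]
    exact (mem_basicOpen_fun_iff B ha.locGen hn hF₀).2 ⟨hs, hv⟩
  · rw [hbO]
    exact isAffineOpen_basicOpen_fun B ha.locGen hn hF₀ haff

theorem notMem_range_of_mem_basicOpen {W : C.Opens} {b : Γ(C, W)} (hb : (ε.app W b : Γ(Y, ε ⁻¹ᵁ W)) = 0) {c : C}
    (hc : c ∈ C.basicOpen b) : c ∉ Set.range ε := by
  rintro ⟨y, rfl⟩
  have h1 : y ∈ ε ⁻¹ᵁ (C.basicOpen b) := hc
  rw [Scheme.preimage_basicOpen, hb, Scheme.basicOpen_zero] at h1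
  exact h1

include B in
/-- The complement of the zero section is the inverse image of an open of `C` over which `q` is an isomorphism. -/
theorem exists_open [IsAffineHom g] [QuasiCompact p] [QuasiSeparated p] (hqg : q ≫ g = π ≫ p)
    (hjq : j ≫ q = p ≫ ε) (hc : Contr j q g ε)
    (h : RelAmple.IsRelAmple p L) : ∃ O : C.Opens, ((q ⁻¹ᵁ O : V.Opens) : Set V) = (Set.range j)ᶜ ∧ IsIso (q ∣_ O) ∧
      (∀ c ∈ O, c ∉ Set.range ε) ∧ (∀ c ∈ O, ∃ (U : Y.Opens) (_ : IsAffineOpen U) (b : Γ(C, g ⁻¹ᵁ U)),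
        c ∈ C.basicOpen b ∧ C.basicOpen b ≤ O ∧ (ε.app _ b : Γ(Y, ε ⁻¹ᵁ (g ⁻¹ᵁ U))) = 0) := by
  have := B.affine
  have i1 : QuasiCompact (q ≫ g) := by rw [hqg]; infer_instance
  have i2 : QuasiSeparated (q ≫ g) := by rw [hqg]; infer_instance
  let ι := {a : Σ U : Y.Opens, Γ(C, g ⁻¹ᵁ U) // IsAffineOpen a.1 ∧
    (ε.app _ a.2 : Γ(Y, ε ⁻¹ᵁ (g ⁻¹ᵁ a.1))) = 0 ∧ IsAffineOpen (q ⁻¹ᵁ (C.basicOpen a.2))}
  let D : ι → C.Opens := fun a => C.basicOpen a.1.2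
  refine ⟨⨆ a, D a, ?_, isIso_restrict_iSup q D fun a => hc.isIso hjq a.2.1 _ a.2.2.1 a.2.2.2, ?_, ?_⟩
  · ext v
    constructor
    · intro hv hr
      obtain ⟨a, ha⟩ := Opens.mem_iSup.1 (show q v ∈ ⨆ a, D a from hv)
      obtain ⟨x, rfl⟩ := hr
      refine notMem_range_of_mem_basicOpen a.2.2.1 ha ⟨p x, ?_⟩
      rw [← Scheme.Hom.comp_apply, ← hjq]
      rfl
    · intro hv
      obtain ⟨U, hU, b, hb, hqv, haff⟩ := exists_b B hqg hc h v hv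
      exact Opens.mem_iSup.2 ⟨⟨⟨U, b⟩, hU, hb, haff⟩, hqv⟩
  · intro c hc'
    obtain ⟨a, ha⟩ := Opens.mem_iSup.1 hc'
    exact notMem_range_of_mem_basicOpen a.2.2.1 ha
  · intro c hc'
    obtain ⟨a, ha⟩ := Opens.mem_iSup.1 hc'
    exact ⟨a.1.1, a.2.1, a.1.2, ha, le_iSup D a, a.2.2.1⟩

/-- The embedding `V0 ⟶ C`. -/
theorem isOpenImmersion_of_isIso {O : C.Opens} (hO : IsIso (q ∣_ O)) (V0 : V.Opens)
    (hV0 : q ⁻¹ᵁ O = V0) : IsOpenImmersion (V0.ι ≫ q) ∧ Set.range (V0.ι ≫ q) = (O : Set C) := by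
  subst hV0
  rw [← morphismRestrict_ι]
  refine ⟨inferInstance, ?_⟩
  rw [Scheme.Hom.comp_base, TopCat.coe_comp, Set.range_comp, Set.range_eq_univ.2, Set.image_univ]
  · exact Scheme.Opens.range_ι O
  · exact (q ∣_ O).surjective

end K30.Grauert3

end
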