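import Groth.Agent.EGA2.K30.Grauert3
import Mathlib.AlgebraicGeometry.Morphisms.Integral
import Mathlib.AlgebraicGeometry.Morphisms.Proper

/-!
# Grauert's criterion for proper morphisms: the contraction is proper and its image is everything
-/

set_option autoImplicit false
universe u

open CategoryTheory CategoryTheory.Limits AlgebraicGeometry Opposite TopologicalSpace

noncomputable section

namespace K30.Grauert4

open K30.LBdl K30.EvSpec K30.Taylor K30.TaylorPt K30.SecFun K30.Ctr K30.Grauert2 K30.Grauert3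
  Groth.Agent.Fdesc.LocGen Groth.Agent.Ega2.Nv Groth.Agent.Ega2.Ample Groth.Agent.Ega2.RelAmp

theorem isUnit_of_le {X : Scheme.{u}} {U : X.Opens} (f : Γ(X, U)) (h : U ≤ X.basicOpen f) : IsUnit f := by
  have h1 : IsUnit (ores (X.basicOpen_le f) f) := X.toRingedSpace.isUnit_res_basicOpen f
  have h2 := h1.map (ores h)
  rwa [ores_ores, ores_refl] at h2

theorem isIntegral_restrict {V P : Scheme.{u}} (f : V ⟶ P) (U : P.Opens) (h2 : (f.app U).hom.IsIntegral) :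
    ((f ∣_ U).app ⊤).hom.IsIntegral := by
  have h3 : ∀ W (_ : W = U), (f.app W).hom.IsIntegral := by
    rintro _ rfl
    exact h2
  rw [morphismRestrict_app]
  exact (RingHom.isIntegral_respectsIso.cancel_right_isIso _ _).2 (h3 _ U.ι_image_top)

set_option backward.isDefEq.respectTransparency.types false in
theorem isIntegralHom_of_cover {V P : Scheme.{u}} (f : V ⟶ P) {ι : Type*} (U : ι → P.Opens)
    (hUa : ∀ i, IsAffineOpen (U i)) (hU : ∀ x : P, ∃ i, x ∈ U i) (h1 : ∀ i, IsAffineOpen (f ⁻¹ᵁ U i))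
    (h2 : ∀ i, (f.app (U i)).hom.IsIntegral) : IsIntegralHom f := by
  rw [HasAffineProperty.iff_of_iSup_eq_top (P := @IsIntegralHom) (fun i => (⟨U i, hUa i⟩ : P.affineOpens))]
  · intro i
    exact ⟨h1 i, isIntegral_restrict f (U i) (h2 i)⟩
  · rw [eq_top_iff]
    intro x _
    obtain ⟨i, hi⟩ := hU x
    exact Opens.mem_iSup.2 ⟨i, hi⟩

variable {X V Y C : Scheme.{u}} {L : X.Modules} {π : V ⟶ X} {j : X ⟶ V} (B : LineBdl L π j)
  {p : X ⟶ Y} {g : C ⟶ Y} {ε : Y ⟶ C} {q : V ⟶ C}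

include B in
/-- Locally on `X` a power of the coordinate of the line bundle is, up to a unit, a function coming from `C`. -/
theorem exists_pow (hqg : q ≫ g = π ≫ p) (hc : Contr j q g ε) (h : RelAmple.IsRelAmple p L) (x : X) :
    ∃ (U : Y.Opens) (_ : IsAffineOpen U) (A : X.Opens) (hA : IsAffineOpen A) (_ : x ∈ A) (_ : A ≤ p ⁻¹ᵁ U)
      (e : Γ(L, A)) (_ : IsGen e) (a : Γ(X, A)) (_ : IsUnit a) (n : ℕ) (_ : 0 < n) (b : Γ(C, g ⁻¹ᵁ U))
      (e1 : π ⁻¹ᵁ A ≤ q ⁻¹ᵁ (g ⁻¹ᵁ U)),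
      (q.appLE (g ⁻¹ᵁ U) (π ⁻¹ᵁ A) e1 b : Γ(V, π ⁻¹ᵁ A)) = (π.app A a : Γ(V, π ⁻¹ᵁ A)) * B.tau A hA e ^ n := by
  obtain ⟨U, hU, hyU, -⟩ := exists_isAffineOpen_mem_and_subset (x := p x) (U := (⊤ : Y.Opens)) trivial
  have ha : AmpleOn L (p ⁻¹ᵁ U) := (isRelAmple_iff.1 h).2 ⟨U, hU⟩
  obtain ⟨n, hn, s, hs, -⟩ := ha.exists_nv x hyU
  obtain ⟨F₀, hF₀⟩ := exists_fun B ha.locGen s
  have heq : q ⁻¹ᵁ (g ⁻¹ᵁ U) = π ⁻¹ᵁ (p ⁻¹ᵁ U) := by
    rw [← Scheme.Hom.comp_preimage, hqg, Scheme.Hom.comp_preimage]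
  have h0 : (j.app _ (ores heq.le F₀ : Γ(V, q ⁻¹ᵁ (g ⁻¹ᵁ U))) : Γ(X, j ⁻¹ᵁ (q ⁻¹ᵁ (g ⁻¹ᵁ U)))) = 0 := by
    have e1 := app_fun_eq_zero B ha.locGen hn hF₀
    have e2 : (j.app _ (ores heq.le F₀ : Γ(V, q ⁻¹ᵁ (g ⁻¹ᵁ U))) : Γ(X, j ⁻¹ᵁ (q ⁻¹ᵁ (g ⁻¹ᵁ U)))) =
        ores (j.preimage_mono heq.le) (j.app _ F₀ : Γ(X, j ⁻¹ᵁ (π ⁻¹ᵁ (p ⁻¹ᵁ U)))) :=
      congr($(j.naturality (homOfLE heq.le).op) F₀)
    rw [e2, e1, map_zero]
  obtain ⟨b, hb, -⟩ := hc.surj U hU (ores heq.le F₀) h0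
  obtain ⟨A₁, e₁, hxA₁, hA₁, he₁⟩ := ha.locGen x hyU
  obtain ⟨A, hA, hxA, hle⟩ := exists_isAffineOpen_mem_and_subset (x := x) (U := A₁ ⊓ nv _ s) ⟨hxA₁, hs⟩
  have hle1 : A ≤ A₁ := (show A ≤ A₁ ⊓ nv _ s from hle).trans inf_le_left
  have hle2 : A ≤ nv _ s := (show A ≤ A₁ ⊓ nv _ s from hle).trans inf_le_right
  have hAU : A ≤ p ⁻¹ᵁ U := hle2.trans (nv_le _ _)
  have he := he₁.res hle1
  obtain ⟨a, haa⟩ := (he.pow n).exists_eq (res _ hAU s)
  have hFA := hF₀ A hA hAU _ he a haa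
  have hu : IsUnit a := by
    apply isUnit_of_le
    rw [← nv_inf_of_eq_smul s hAU (he.pow n) a haa]
    exact le_inf le_rfl hle2
  have hπA : π ⁻¹ᵁ A ≤ q ⁻¹ᵁ (g ⁻¹ᵁ U) := by
    rw [heq]
    exact π.preimage_mono hAU
  refine ⟨U, hU, A, hA, hxA, hAU, _, he, a, hu, n, hn, b, hπA, ?_⟩
  have e3 : (q.appLE (g ⁻¹ᵁ U) (π ⁻¹ᵁ A) hπA b : Γ(V, π ⁻¹ᵁ A)) =
      ores hπA (q.app _ b : Γ(V, q ⁻¹ᵁ (g ⁻¹ᵁ U))) := rfl
  rw [e3, hb, ores_ores]
  exact hFA

set_option backward.isDefEq.respectTransparency.types false in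
theorem isAffineHom_snd {X Y C : Scheme.{u}} (g : C ⟶ Y) [IsAffineHom g] (p : X ⟶ Y) :
    IsAffineHom (pullback.snd g p) :=
  MorphismProperty.pullback_snd (P := @IsAffineHom.{u}) g p ‹_›

include B in
/-- The morphism `(q, π) : V ⟶ C ×_Y X` is integral. -/
theorem isIntegralHom_lift [IsAffineHom g] (hqg : q ≫ g = π ≫ p) (hc : Contr j q g ε)
    (h : RelAmple.IsRelAmple p L) : IsIntegralHom (pullback.lift (f := g) (g := p) q π hqg) := by
  choose U hU A hA hxA hAU e he a ha n hn b hπA hb using exists_pow B hqg hc h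
  have := B.affine
  have haff : IsAffineHom (pullback.snd g p) := isAffineHom_snd g p
  have hpre : ∀ x, pullback.lift (f := g) (g := p) q π hqg ⁻¹ᵁ (pullback.snd g p ⁻¹ᵁ (A x)) = π ⁻¹ᵁ (A x) := by
    intro x
    rw [← Scheme.Hom.comp_preimage, pullback.lift_snd]
  refine isIntegralHom_of_cover _ (fun x => pullback.snd g p ⁻¹ᵁ (A x)) (fun x => (hA x).preimage _)
    (fun z => ⟨pullback.snd g p z, hxA _⟩) (fun x => ?_) fun x => ?_
  · rw [hpre]
    exact (hA x).preimage _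
  · have hle : pullback.snd g p ⁻¹ᵁ (A x) ≤ pullback.fst g p ⁻¹ᵁ (g ⁻¹ᵁ (U x)) := by
      rw [← Scheme.Hom.comp_preimage, pullback.condition, Scheme.Hom.comp_preimage]
      exact (pullback.snd g p).preimage_mono (hAU x)
    set r := pullback.lift (f := g) (g := p) q π hqg with hr
    have hr1 : r ≫ pullback.fst g p = q := pullback.lift_fst _ _ _
    have hr2 : r ≫ pullback.snd g p = π := pullback.lift_snd _ _ _
    -- the ring map through `appLE`
    let φ : Γ(pullback g p, pullback.snd g p ⁻¹ᵁ (A x)) →+* Γ(V, π ⁻¹ᵁ (A x)) :=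
      (r.appLE (pullback.snd g p ⁻¹ᵁ (A x)) (π ⁻¹ᵁ (A x)) (hpre x).ge).hom
    have hφ1 : ∀ s : Γ(X, A x), φ ((pullback.snd g p).app (A x) s) = (π.app (A x) s : Γ(V, π ⁻¹ᵁ (A x))) := by
      intro s
      have h1 : (pullback.snd g p).app (A x) ≫
          r.appLE (pullback.snd g p ⁻¹ᵁ (A x)) (π ⁻¹ᵁ (A x)) (hpre x).ge = π.app (A x) := by
        rw [← Scheme.Hom.appLE_eq_app, Scheme.Hom.appLE_comp_appLE, ← Scheme.Hom.appLE_eq_app (f := π)]
        congr 1
      exact congr($h1 s)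
    have hφ2 : φ ((pullback.fst g p).appLE (g ⁻¹ᵁ (U x)) (pullback.snd g p ⁻¹ᵁ (A x)) hle (b x)) =
        (q.appLE (g ⁻¹ᵁ (U x)) (π ⁻¹ᵁ (A x)) (hπA x) (b x) : Γ(V, π ⁻¹ᵁ (A x))) := by
      have h1 : (pullback.fst g p).appLE (g ⁻¹ᵁ (U x)) (pullback.snd g p ⁻¹ᵁ (A x)) hle ≫
          r.appLE (pullback.snd g p ⁻¹ᵁ (A x)) (π ⁻¹ᵁ (A x)) (hpre x).ge =
          q.appLE (g ⁻¹ᵁ (U x)) (π ⁻¹ᵁ (A x)) (hπA x) := by
        rw [Scheme.Hom.appLE_comp_appLE]
        congr 1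
      exact congr($h1 (b x))
    have hφ : φ.IsIntegral := by
      have htau : φ.IsIntegralElem (B.tau (A x) (hA x) (e x)) := by
        obtain ⟨a', ha'⟩ := (ha x).exists_left_inv
        have h1 : B.tau (A x) (hA x) (e x) ^ n x = φ ((pullback.snd g p).app (A x) a' *
            (pullback.fst g p).appLE (g ⁻¹ᵁ (U x)) (pullback.snd g p ⁻¹ᵁ (A x)) hle (b x)) := by
          rw [map_mul, hφ1, hφ2, hb, ← mul_assoc, ← map_mul, ha', map_one, one_mul]
        have h2 : φ.IsIntegralElem (B.tau (A x) (hA x) (e x) ^ n x) := by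
          rw [h1]
          exact φ.isIntegralElem_map
        let := φ.toAlgebra
        exact IsIntegral.of_pow (R := Γ(pullback g p, pullback.snd g p ⁻¹ᵁ (A x))) (hn x) h2
      intro F
      obtain ⟨f, rfl⟩ := (polyEquiv B (hA x) (he x)).surjective F
      induction f using Polynomial.induction_on' with
      | add f₁ f₂ h₁ h₂ =>
        rw [map_add]
        exact RingHom.IsIntegralElem.add φ h₁ h₂
      | monomial m c =>
        rw [← Polynomial.C_mul_X_pow_eq_monomial, map_mul, map_pow, polyEquiv_C, polyEquiv_X]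
        refine RingHom.IsIntegralElem.mul φ ?_ ?_
        · rw [← hφ1]
          exact φ.isIntegralElem_map
        · let := φ.toAlgebra
          exact IsIntegral.pow (R := Γ(pullback g p, pullback.snd g p ⁻¹ᵁ (A x))) htau m
    have h3 : (r.app (pullback.snd g p ⁻¹ᵁ (A x))).hom =
        ((V.presheaf.map (homOfLE (hpre x).le).op).hom).comp φ := by
      have h4 : r.app (pullback.snd g p ⁻¹ᵁ (A x)) =
          r.appLE (pullback.snd g p ⁻¹ᵁ (A x)) (π ⁻¹ᵁ (A x)) (hpre x).ge ≫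
            V.presheaf.map (homOfLE (hpre x).le).op := by
        rw [Scheme.Hom.appLE_map, Scheme.Hom.appLE_eq_app]
      rw [h4]
      rfl
    rw [h3]
    have h5 : Function.Surjective (V.presheaf.map (homOfLE (hpre x).le).op).hom := by
      intro F
      refine ⟨ores (hpre x).ge F, ?_⟩
      change ores (hpre x).le (ores (hpre x).ge F) = F
      rw [ores_ores, ores_refl]
    exact hφ.trans _ _ (RingHom.isIntegral_of_surjective _ h5)

include B in
/-- `π` is locally of finite type. -/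
theorem locallyOfFiniteType_π (hL : LocGen L ⊤) : LocallyOfFiniteType π := by
  have := B.affine
  rw [HasRingHomProperty.iff_exists_appLE (P := @LocallyOfFiniteType)
    (RingHom.finiteType_stableUnderComposition.stableUnderCompositionWithLocalizationAway
      RingHom.finiteType_holdsForLocalizationAway).1]
  intro v
  obtain ⟨A₁, e₁, hxA₁, -, he₁⟩ := hL (π v) trivial
  obtain ⟨A, hA, hxA, hle⟩ := exists_isAffineOpen_mem_and_subset (x := π v) (U := A₁) hxA₁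
  have he := he₁.res (show A ≤ A₁ from hle)
  refine ⟨⟨A, hA⟩, ⟨π ⁻¹ᵁ A, hA.preimage π⟩, hxA, le_rfl, ?_⟩
  rw [Scheme.Hom.appLE_eq_app]
  let := (π.app A).hom.toAlgebra
  have h1 : Function.Surjective (Polynomial.aeval (R := Γ(X, A)) (B.tau A hA (res L hle e₁))) :=
    (B.bij A hA _ he).2
  exact (RingHom.finiteType_algebraMap (A := Γ(X, A)) (B := Γ(V, π ⁻¹ᵁ A))).2 (Algebra.FiniteType.of_surjective _ h1)

include B in
/-- The contraction attached to a relatively ample line bundle over a proper morphism is proper. -/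
theorem isProper_q [IsAffineHom g] [IsProper p] (hqg : q ≫ g = π ≫ p) (hc : Contr j q g ε)
    (hL : LocGen L ⊤) (h : RelAmple.IsRelAmple p L) : IsProper q := by
  have := B.affine
  have h1 := isIntegralHom_lift B hqg hc h
  have h2 : UniversallyClosed q := by
    rw [← pullback.lift_fst (f := g) (g := p) q π hqg]
    infer_instance
  have h3 : LocallyOfFiniteType π := locallyOfFiniteType_π B hL
  have h4 : LocallyOfFiniteType (q ≫ g) := by rw [hqg]; infer_instance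
  have h5 : LocallyOfFiniteType q := locallyOfFiniteType_of_comp q g
  have h6 : IsSeparated (q ≫ g) := by rw [hqg]; infer_instance
  have h7 : IsSeparated q := IsSeparated.of_comp q g
  exact { }

include B in
/-- A closed contraction is surjective away from the image of the section. -/
theorem exists_eq_of_notMem [IsAffineHom g] [QuasiCompact p] (hqg : q ≫ g = π ≫ p) (hεg : ε ≫ g = 𝟙 Y) (hc : Contr j q g ε) (hcl : IsClosed (Set.range q)) (c : C) (hcε : c ∉ Set.range ε) :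
    ∃ v : V, q v = c := by
  have := B.affine
  by_contra hcon
  have hεc : IsClosed (Set.range ε) := by
    have h1 : IsClosedImmersion (ε ≫ g) := by rw [hεg]; infer_instance
    have h2 : IsClosedImmersion ε := IsClosedImmersion.of_comp ε g
    exact ε.isClosedEmbedding.isClosed_range
  obtain ⟨U, hU, hyU, -⟩ := exists_isAffineOpen_mem_and_subset (x := g c) (U := (⊤ : Y.Opens)) trivial
  let W : C.Opens := ⟨(Set.range q)ᶜ ∩ (Set.range ε)ᶜ, hcl.isOpen_compl.inter hεc.isOpen_compl⟩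
  have hgU : IsAffineOpen (g ⁻¹ᵁ U) := hU.preimage g
  obtain ⟨b, hbW, hcb⟩ := hgU.exists_basicOpen_le (V := W) ⟨c, ⟨fun ⟨v, hv⟩ => hcon ⟨v, hv⟩, hcε⟩⟩ hyU
  have hq0 : V.basicOpen (q.app _ b : Γ(V, q ⁻¹ᵁ (g ⁻¹ᵁ U))) = ⊥ := by
    rw [← Scheme.preimage_basicOpen, eq_bot_iff]
    intro v hv
    exact ((hbW hv).1 ⟨v, rfl⟩).elim
  have hε0 : Y.basicOpen (ε.app _ b : Γ(Y, ε ⁻¹ᵁ (g ⁻¹ᵁ U))) = ⊥ := by
    rw [← Scheme.preimage_basicOpen, eq_bot_iff]
    intro y hy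
    exact ((hbW hy).2 ⟨y, rfl⟩).elim
  have hc1 : IsCompact ((q ⁻¹ᵁ (g ⁻¹ᵁ U) : V.Opens) : Set V) := by
    rw [← Scheme.Hom.comp_preimage, hqg]
    exact (π ≫ p).isCompact_preimage hU.isCompact
  have hc2 : IsCompact ((ε ⁻¹ᵁ (g ⁻¹ᵁ U) : Y.Opens) : Set Y) := by
    rw [← Scheme.Hom.comp_preimage, hεg]
    exact hU.isCompact
  obtain ⟨N₁, hN₁⟩ := (Scheme.isNilpotent_iff_basicOpen_eq_bot_of_isCompact hc1 _).2 hq0
  obtain ⟨N₂, hN₂⟩ := (Scheme.isNilpotent_iff_basicOpen_eq_bot_of_isCompact hc2 _).2 hε0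
  have hb0 : b ^ (N₁ + N₂) = 0 := by
    apply hc.inj U hU
    · rw [map_pow, pow_add, hN₁, zero_mul]
    · rw [map_pow, pow_add, hN₂, mul_zero]
  have h1 : C.basicOpen b = ⊥ := C.basicOpen_eq_bot_of_isNilpotent _ _ ⟨_, hb0⟩
  rw [h1] at hcb
  exact hcb

include B in
/-- The complement of the zero section maps onto the complement of the section. -/
theorem range_eq [IsAffineHom g] [QuasiCompact p] (hqg : q ≫ g = π ≫ p) (hjq : j ≫ q = p ≫ ε)
    (hεg : ε ≫ g = 𝟙 Y) (hc : Contr j q g ε) (hcl : IsClosed (Set.range q)) {O : C.Opens}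
    (hO : ((q ⁻¹ᵁ O : V.Opens) : Set V) = (Set.range j)ᶜ) (hOε : ∀ c ∈ O, c ∉ Set.range ε) :
    (O : Set C) = (Set.range ε)ᶜ := by
  ext c
  constructor
  · exact hOε c
  · intro hcε
    obtain ⟨v, rfl⟩ := exists_eq_of_notMem B hqg hεg hc hcl c hcε
    have hv : v ∈ (Set.range j)ᶜ := by
      rintro ⟨x, rfl⟩
      refine hcε ⟨p x, ?_⟩
      rw [← Scheme.Hom.comp_apply, ← hjq]
      rfl
    rw [← hO] at hv
    exact hv

include B in
/-- The inclusion of the complement of the zero section is quasi-compact. -/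
theorem quasiCompact_ι (hL : LocGen L ⊤) (V0 : V.Opens) (hV0 : (V0 : Set V) = (Set.range j)ᶜ) :
    QuasiCompact V0.ι := by
  have := B.affine
  have h1 : IsAffineHom (V0.ι ≫ π) := by
    refine isAffineHom_of_forall_exists_isAffineOpen _ fun x => ?_
    obtain ⟨A₁, e₁, hxA₁, -, he₁⟩ := hL x trivial
    obtain ⟨A, hA, hxA, hle⟩ := exists_isAffineOpen_mem_and_subset (x := x) (U := A₁) hxA₁
    have he := he₁.res (show A ≤ A₁ from hle)
    refine ⟨A, hxA, hA, ?_⟩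
    have h2 : V0 ⊓ π ⁻¹ᵁ A = V.basicOpen (B.tau A hA (res L hle e₁)) := by
      ext v
      constructor
      · rintro ⟨hv0, hvA⟩
        refine (mem_basicOpen_tau_iff B hA he hvA).2 ?_
        have : v ∈ (V0 : Set V) := hv0
        rw [hV0] at this
        exact this
      · intro hv
        have hvA : v ∈ π ⁻¹ᵁ A := V.basicOpen_le _ hv
        refine ⟨?_, hvA⟩
        change v ∈ (V0 : Set V)
        rw [hV0]
        exact (mem_basicOpen_tau_iff B hA he hvA).1 hv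
    have h3 : IsAffineOpen (V0 ⊓ π ⁻¹ᵁ A) := by
      rw [h2]
      exact (hA.preimage π).basicOpen _
    rw [Scheme.Hom.comp_preimage, ← V0.ι.isAffineOpen_iff_of_isOpenImmersion,
      Scheme.Hom.image_preimage_eq_opensRange_inf, Scheme.Opens.opensRange_ι]
    exact h3
  have : QuasiCompact (V0.ι ≫ π) := inferInstance
  exact QuasiCompact.of_comp _ π

end K30.Grauert4

end
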