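import Groth.Agent.Fdesc.LocGen
import Groth.Prelude.Def_Pi1
import Mathlib.RingTheory.IntegralClosure.IntegrallyClosed
import Mathlib.RingTheory.Localization.Integral
import Mathlib.RingTheory.Polynomial.IntegralNormalization

/-!
# Functions on an open subset of a normal, locally integral scheme

`NormBasis V`: every point of `V` has an affine neighbourhood `D` with `Γ(V, D)` an integrally closed domain.
`isDomain_atPrime`, `isIntegrallyClosed_atPrime`: for every open `W` of such a `V`, the localizations of `Γ(V, W)` at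
its primes are integrally closed domains.
-/

set_option autoImplicit false
universe u

open CategoryTheory CategoryTheory.Limits AlgebraicGeometry Opposite TopologicalSpace

noncomputable section

namespace K30.NormSec

open Groth.Agent.Fdesc.LocGen

variable {V : Scheme.{u}}

/-- An affine open with ring of functions an integrally closed domain. -/
structure Good (D : V.Opens) : Prop where
  aff : IsAffineOpen D
  dom : IsDomain Γ(V, D)
  int : IsIntegrallyClosed Γ(V, D)

theorem Good.nonempty {D : V.Opens} (h : Good D) : (D : Set V).Nonempty := by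
  by_contra hcon
  rw [Set.not_nonempty_iff_eq_empty] at hcon
  have h1 : D = ⊥ := TopologicalSpace.Opens.ext hcon
  have := h.dom
  subst h1
  exact zero_ne_one (α := Γ(V, ⊥)) (Subsingleton.elim _ _)

theorem Good.basicOpen {D : V.Opens} (h : Good D) (t : Γ(V, D)) (ht : ((V.basicOpen t : V.Opens) : Set V).Nonempty) :
    Good (V.basicOpen t) := by
  have := h.dom
  have := h.int
  have ht0 : t ≠ 0 := by
    rintro rfl
    rw [Scheme.basicOpen_zero] at ht
    exact Set.not_nonempty_empty ht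
  let : Algebra Γ(V, D) Γ(V, V.basicOpen t) := (V.presheaf.map (homOfLE (V.basicOpen_le t)).op).hom.toAlgebra
  have l : IsLocalization.Away t Γ(V, V.basicOpen t) := h.aff.isLocalization_basicOpen t
  have hle : Submonoid.powers t ≤ nonZeroDivisors Γ(V, D) :=
    powers_le_nonZeroDivisors_of_noZeroDivisors ht0
  exact ⟨h.aff.basicOpen t, IsLocalization.isDomain_of_le_nonZeroDivisors _ hle,
    isIntegrallyClosed_of_isLocalization _ (Submonoid.powers t) hle⟩

theorem Good.injective_ores {D D' : V.Opens} (h : Good D) (i : D' ≤ D) (hne : (D' : Set V).Nonempty) :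
    Function.Injective (ores i) := by
  rw [injective_iff_map_eq_zero]
  intro s hs
  obtain ⟨v, hv⟩ := hne
  obtain ⟨t, htD, hvt⟩ := h.aff.exists_basicOpen_le (V := D') ⟨v, hv⟩ (i hv)
  have := h.dom
  have ht0 : t ≠ 0 := by
    rintro rfl
    rw [Scheme.basicOpen_zero] at hvt
    exact hvt
  let : Algebra Γ(V, D) Γ(V, V.basicOpen t) := (V.presheaf.map (homOfLE (V.basicOpen_le t)).op).hom.toAlgebra
  have l : IsLocalization.Away t Γ(V, V.basicOpen t) := h.aff.isLocalization_basicOpen t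
  have hle : Submonoid.powers t ≤ nonZeroDivisors Γ(V, D) :=
    powers_le_nonZeroDivisors_of_noZeroDivisors ht0
  have hinj := IsLocalization.injective Γ(V, V.basicOpen t) hle
  apply hinj
  rw [map_zero]
  change ores (V.basicOpen_le t) s = 0
  rw [← ores_ores i htD s, hs, map_zero]

/-- Every point has a good neighbourhood. -/
def NormBasis (V : Scheme.{u}) : Prop := ∀ v : V, ∃ D : V.Opens, v ∈ D ∧ Good D

theorem NormBasis.exists_le (hV : NormBasis V) {W : V.Opens} {v : V} (hv : v ∈ W) :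
    ∃ D : V.Opens, v ∈ D ∧ D ≤ W ∧ Good D := by
  obtain ⟨D, hvD, hD⟩ := hV v
  obtain ⟨t, htW, hvt⟩ := hD.aff.exists_basicOpen_le (V := W) ⟨v, hv⟩ hvD
  exact ⟨V.basicOpen t, hvt, htW, hD.basicOpen t ⟨v, hvt⟩⟩

theorem ores_eq_zero_iff {D D' : V.Opens} (h : Good D) (i : D' ≤ D) (hne : (D' : Set V).Nonempty) (s : Γ(V, D)) :
    ores i s = 0 ↔ s = 0 :=
  ⟨fun hs => h.injective_ores i hne (hs.trans (map_zero _).symm), fun hs => by rw [hs, map_zero]⟩

theorem subsingleton_of_not_nonempty {W : V.Opens} (h : ¬ (W : Set V).Nonempty) : Subsingleton Γ(V, W) := by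
  rw [Set.not_nonempty_iff_eq_empty] at h
  have h1 : W = ⊥ := TopologicalSpace.Opens.ext h
  subst h1
  infer_instance

/-- The good open sets inside `W`. -/
abbrev GoodIn (W : V.Opens) : Type u := {D : V.Opens // D ≤ W ∧ Good D}

theorem NormBasis.cover (hV : NormBasis V) (W : V.Opens) : W ≤ ⨆ D : GoodIn W, D.1 := fun v hv => by
  obtain ⟨D, hvD, hDW, hD⟩ := hV.exists_le hv
  exact Opens.mem_iSup.2 ⟨⟨D, hDW, hD⟩, hvD⟩

theorem NormBasis.ext (hV : NormBasis V) {W : V.Opens} {s t : Γ(V, W)}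
    (h : ∀ D : GoodIn W, ores D.2.1 s = ores D.2.1 t) : s = t :=
  ores_ext (fun D : GoodIn W => D.1) (fun D => D.2.1) (hV.cover W) h

/-- Glueing along a decision: a family of local functions on the good open sets on which a given function does not
vanish, `0` on the others. -/
theorem NormBasis.glue (hV : NormBasis V) {W : V.Opens} (P : GoodIn W → Prop)
    (hP : ∀ D D' : GoodIn W, ((D.1 ⊓ D'.1 : V.Opens) : Set V).Nonempty → (P D ↔ P D'))
    (a : ∀ D : GoodIn W, Γ(V, D.1)) (hz : ∀ D, ¬ P D → a D = 0)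
    (ha : ∀ D D' : GoodIn W, P D → P D' →
      ores (inf_le_left : D.1 ⊓ D'.1 ≤ D.1) (a D) = ores (inf_le_right : D.1 ⊓ D'.1 ≤ D'.1) (a D')) :
    ∃ z : Γ(V, W), ∀ D : GoodIn W, ores D.2.1 z = a D := by
  refine ores_glue (fun D : GoodIn W => D.1) (fun D => D.2.1) (hV.cover W) a (fun D D' => ?_)
  by_cases hne : ((D.1 ⊓ D'.1 : V.Opens) : Set V).Nonempty
  · by_cases h1 : P D
    · exact ha D D' h1 ((hP D D' hne).1 h1)
    · have h2 : ¬ P D' := fun h => h1 ((hP D D' hne).2 h)
      rw [hz D h1, hz D' h2, map_zero, map_zero]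
  · have := subsingleton_of_not_nonempty hne
    exact Subsingleton.elim _ _

theorem iff_of_meet {W : V.Opens} (s : Γ(V, W)) (D D' : GoodIn W)
    (hne : ((D.1 ⊓ D'.1 : V.Opens) : Set V).Nonempty) : ores D.2.1 s = 0 ↔ ores D'.2.1 s = 0 := by
  rw [← ores_eq_zero_iff D.2.2 (inf_le_left : D.1 ⊓ D'.1 ≤ D.1) hne,
    ← ores_eq_zero_iff D'.2.2 (inf_le_right : D.1 ⊓ D'.1 ≤ D'.1) hne, ores_ores, ores_ores]

/-- The idempotent of the locus where `s` vanishes. -/
theorem NormBasis.exists_idem (hV : NormBasis V) {W : V.Opens} (s : Γ(V, W)) :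
    ∃ e : Γ(V, W), ∀ D : GoodIn W, (ores D.2.1 s = 0 → ores D.2.1 e = 1) ∧ (ores D.2.1 s ≠ 0 → ores D.2.1 e = 0) := by
  classical
  obtain ⟨e, he⟩ := hV.glue (W := W) (fun D => ores D.2.1 s = 0) (iff_of_meet s)
    (fun D => if ores D.2.1 s = 0 then 1 else 0) (fun D h => if_neg h) (fun D D' h h' => by
      rw [if_pos h, if_pos h', map_one, map_one])
  refine ⟨e, fun D => ⟨fun h => ?_, fun h => ?_⟩⟩
  · rw [he, if_pos h]
  · rw [he, if_neg h]

theorem NormBasis.idem_mul (hV : NormBasis V) {W : V.Opens} {s e : Γ(V, W)}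
    (he : ∀ D : GoodIn W, (ores D.2.1 s = 0 → ores D.2.1 e = 1) ∧ (ores D.2.1 s ≠ 0 → ores D.2.1 e = 0)) :
    e * s = 0 := by
  refine hV.ext fun D => ?_
  rw [map_mul, map_zero]
  by_cases h : ores D.2.1 s = 0
  · rw [h, mul_zero]
  · rw [(he D).2 h, zero_mul]

theorem NormBasis.one_sub_mul (hV : NormBasis V) {W : V.Opens} {s e t : Γ(V, W)}
    (he : ∀ D : GoodIn W, (ores D.2.1 s = 0 → ores D.2.1 e = 1) ∧ (ores D.2.1 s ≠ 0 → ores D.2.1 e = 0))
    (hst : s * t = 0) : (1 - e) * t = 0 := by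
  refine hV.ext fun D => ?_
  rw [map_mul, map_zero, map_sub, map_one]
  by_cases h : ores D.2.1 s = 0
  · rw [(he D).1 h, sub_self, zero_mul]
  · have := D.2.2.dom
    have h1 : ores D.2.1 s * ores D.2.1 t = 0 := by rw [← map_mul, hst, map_zero]
    rw [(mul_eq_zero.1 h1).resolve_left h, mul_zero]

section atPrime

variable (hV : NormBasis V) {W : V.Opens} (P : Ideal Γ(V, W)) [P.IsPrime]
  (S : Type u) [CommRing S] [Algebra Γ(V, W) S] [IsLocalization.AtPrime S P]

include hV P in
theorem noZeroDivisors_atPrime : NoZeroDivisors S := by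
  refine ⟨fun {x y} hxy => ?_⟩
  obtain ⟨a, s, rfl⟩ := IsLocalization.exists_mk'_eq P.primeCompl x
  obtain ⟨b, t, rfl⟩ := IsLocalization.exists_mk'_eq P.primeCompl y
  rw [← IsLocalization.mk'_mul, IsLocalization.mk'_eq_zero_iff] at hxy
  obtain ⟨c, hc⟩ := hxy
  obtain ⟨e, he⟩ := hV.exists_idem a
  by_cases heP : e ∈ P
  · right
    rw [IsLocalization.mk'_eq_zero_iff]
    have h1 : 1 - e ∈ P.primeCompl := fun h => (P.ne_top_iff_one.1 (Ideal.IsPrime.ne_top ‹_›))
      (by simpa using P.add_mem h heP)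
    refine ⟨⟨1 - e, h1⟩ * c, ?_⟩
    have h2 : (1 - e) * ((c : Γ(V, W)) * b) = 0 := hV.one_sub_mul he (by rw [← hc]; ring)
    change (1 - e) * (c : Γ(V, W)) * b = 0
    rw [mul_assoc, h2]
  · left
    rw [IsLocalization.mk'_eq_zero_iff]
    exact ⟨⟨e, heP⟩, hV.idem_mul he⟩

include hV P in
theorem isDomain_atPrime : IsDomain S := by
  have hnt : Nontrivial S := IsLocalization.AtPrime.nontrivial S P
  have := noZeroDivisors_atPrime hV P S
  exact NoZeroDivisors.to_isDomain S

omit [P.IsPrime] in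
/-- In an integrally closed domain, `s ∣ b` if `b / s` is integral. -/
theorem exists_mul_eq {A : Type*} [CommRing A] [IsDomain A] [IsIntegrallyClosed A] {s b : A} (hs : s ≠ 0)
    (p : Polynomial A) (hp : p.Monic) (h : (p.scaleRoots s).eval b = 0) : ∃ z, z * s = b := by
  let f := algebraMap A (FractionRing A)
  have hs' : f s ≠ 0 := by
    rw [Ne, map_eq_zero_iff _ (IsFractionRing.injective A (FractionRing A))]
    exact hs
  have h1 : IsIntegral A (f b / f s) := by
    refine ⟨p, hp, ?_⟩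
    have h2 := Polynomial.scaleRoots_eval₂_mul (p := p) f (f b / f s) s
    rw [mul_div_cancel₀ _ hs'] at h2
    have h3 : Polynomial.eval₂ f (f b) (p.scaleRoots s) = 0 := by
      rw [Polynomial.eval₂_hom, h, map_zero]
    rw [h3] at h2
    exact (mul_eq_zero.1 h2.symm).resolve_left (pow_ne_zero _ hs')
  obtain ⟨z, hz⟩ := IsIntegrallyClosed.isIntegral_iff.1 h1
  refine ⟨z, ?_⟩
  apply IsFractionRing.injective A (FractionRing A)
  rw [map_mul, hz]
  exact div_mul_cancel₀ _ hs'

include hV in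
theorem exists_quot {s u b : Γ(V, W)} {es eu : Γ(V, W)}
    (hes : ∀ D : GoodIn W, (ores D.2.1 s = 0 → ores D.2.1 es = 1) ∧ (ores D.2.1 s ≠ 0 → ores D.2.1 es = 0))
    (heu : ∀ D : GoodIn W, (ores D.2.1 u = 0 → ores D.2.1 eu = 1) ∧ (ores D.2.1 u ≠ 0 → ores D.2.1 eu = 0))
    (p : Polynomial Γ(V, W)) (hp : p.Monic) (h : u * (p.scaleRoots s).eval b = 0) :
    ∃ z : Γ(V, W), z * s = (1 - es) * (1 - eu) * b := by
  classical
  have h1 : ∀ D : GoodIn W, ores D.2.1 u ≠ 0 ∧ ores D.2.1 s ≠ 0 →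
      ∃ z : Γ(V, D.1), z * ores D.2.1 s = ores D.2.1 b := by
    rintro D ⟨hu, hs⟩
    have := D.2.2.dom
    have := D.2.2.int
    refine exists_mul_eq hs (p.map (ores D.2.1)) (hp.map _) ?_
    have h2 : ores D.2.1 u * ores D.2.1 ((p.scaleRoots s).eval b) = 0 := by rw [← map_mul, h, map_zero]
    have h3 := (mul_eq_zero.1 h2).resolve_left hu
    rw [← Polynomial.map_scaleRoots _ _ _ (by rw [hp.leadingCoeff, map_one]; exact one_ne_zero),
      Polynomial.eval_map, Polynomial.eval₂_hom]
    exact h3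
  choose f hf using h1
  obtain ⟨z, hz⟩ := hV.glue (W := W) (fun D => ores D.2.1 u ≠ 0 ∧ ores D.2.1 s ≠ 0)
    (fun D D' hne => and_congr (not_congr (iff_of_meet u D D' hne)) (not_congr (iff_of_meet s D D' hne)))
    (fun D => if hD : ores D.2.1 u ≠ 0 ∧ ores D.2.1 s ≠ 0 then f D hD else 0) (fun D h => dif_neg h)
    (fun D D' hD hD' => by
      rw [dif_pos hD, dif_pos hD']
      refine hV.ext fun D'' => ?_
      have := D''.2.2.dom
      have hle1 : D''.1 ≤ D.1 := D''.2.1.trans inf_le_left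
      have hle2 : D''.1 ≤ D'.1 := D''.2.1.trans inf_le_right
      have h3 : ores (hle1.trans D.2.1) s ≠ 0 := by
        rw [← ores_ores D.2.1 hle1]
        intro h4
        exact hD.2 ((ores_eq_zero_iff D.2.2 hle1 D''.2.2.nonempty _).1 h4)
      have h4 := congrArg (ores hle1) (hf D hD)
      have h5 := congrArg (ores hle2) (hf D' hD')
      rw [map_mul, ores_ores, ores_ores] at h4 h5
      rw [ores_ores, ores_ores]
      exact mul_right_cancel₀ h3 (h4.trans h5.symm))
  refine ⟨z, hV.ext fun D => ?_⟩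
  rw [map_mul, map_mul, map_mul, map_sub, map_sub, map_one, hz]
  by_cases hD : ores D.2.1 u ≠ 0 ∧ ores D.2.1 s ≠ 0
  · rw [dif_pos hD, hf D hD, (heu D).2 hD.1, (hes D).2 hD.2, sub_zero, one_mul, one_mul]
  · rw [dif_neg hD, zero_mul]
    rw [not_and_or, not_not, not_not] at hD
    rcases hD with hD | hD
    · rw [(heu D).1 hD, sub_self, mul_zero, zero_mul]
    · rw [(hes D).1 hD, sub_self, zero_mul, zero_mul]

include hV P in
theorem isIntegrallyClosed_atPrime : IsIntegrallyClosed S := by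
  have := isDomain_atPrime hV P S
  rw [isIntegrallyClosed_iff (FractionRing S)]
  intro x hx
  have hPM : ∀ e : Γ(V, W), e ∈ P → 1 - e ∉ P := fun e heP h => (P.ne_top_iff_one.1 (Ideal.IsPrime.ne_top ‹_›))
      (by simpa using P.add_mem h heP)
  have hinj := IsFractionRing.injective S (FractionRing S)
  let g : Γ(V, W) →+* FractionRing S := (algebraMap S (FractionRing S)).comp (algebraMap Γ(V, W) S)
  have gmk : ∀ (a : Γ(V, W)) (t : P.primeCompl),
      g t * algebraMap S (FractionRing S) (IsLocalization.mk' S a t) = g a := fun a t => by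
    have h1 := congrArg (algebraMap S (FractionRing S)) (IsLocalization.mk'_spec' S a t)
    rw [map_mul] at h1
    exact h1
  have hg0 : ∀ m : Γ(V, W), m ∉ P → g m ≠ 0 := fun m hm h => by
    have h1 : IsUnit (algebraMap Γ(V, W) S m) := IsLocalization.map_units S (⟨m, hm⟩ : P.primeCompl)
    exact (h1.map (algebraMap S (FractionRing S))).ne_zero h
  obtain ⟨a, s, hs0, hx'⟩ : ∃ a s : Γ(V, W), g s ≠ 0 ∧ x = g a / g s := by
    obtain ⟨a', s', hs', rfl⟩ := IsFractionRing.div_surjective (A := S) x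
    obtain ⟨a, t, rfl⟩ := IsLocalization.exists_mk'_eq P.primeCompl a'
    obtain ⟨s, r, rfl⟩ := IsLocalization.exists_mk'_eq P.primeCompl s'
    have e1 : g t * algebraMap S (FractionRing S) (IsLocalization.mk' S a t) = g a := gmk a t
    have e2 : g r * algebraMap S (FractionRing S) (IsLocalization.mk' S s r) = g s := gmk s r
    have n1 := hg0 t t.2
    have n2 := hg0 r r.2
    have n3 : algebraMap S (FractionRing S) (IsLocalization.mk' S s r) ≠ 0 := by
      rw [Ne, map_eq_zero_iff _ hinj]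
      exact nonZeroDivisors.ne_zero hs'
    refine ⟨a * r, s * t, ?_, ?_⟩
    · rw [map_mul, ← e2]
      exact mul_ne_zero (mul_ne_zero n2 n3) n1
    · rw [map_mul, map_mul, ← e1, ← e2]
      field_simp
  obtain ⟨c, p, hp, hpx⟩ := IsIntegral.exists_multiple_integral_of_isLocalization P.primeCompl (Rₘ := S) x hx
  have hg : algebraMap Γ(V, W) (FractionRing S) = g := IsScalarTower.algebraMap_eq _ S _
  rw [hg] at hpx
  have hcx : c • x = g c * x := by
    rw [Submonoid.smul_def, Algebra.smul_def, hg]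
  have h1 := Polynomial.scaleRoots_eval₂_mul (p := p) g (c • x) s
  rw [hpx, mul_zero, hcx, hx'] at h1
  have h2 : g s * (g c * (g a / g s)) = g (c * a) := by
    rw [map_mul]
    field_simp
  rw [h2, Polynomial.eval₂_hom] at h1
  have h3 : algebraMap Γ(V, W) S ((p.scaleRoots s).eval ((c : Γ(V, W)) * a)) = 0 := by
    apply hinj
    rw [map_zero]
    exact h1
  rw [IsLocalization.map_eq_zero_iff P.primeCompl S] at h3
  obtain ⟨u, hu⟩ := h3
  obtain ⟨es, hes⟩ := hV.exists_idem s
  obtain ⟨eu, heu⟩ := hV.exists_idem (u : Γ(V, W))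
  obtain ⟨z, hz⟩ := exists_quot hV hes heu p hp hu
  have hesP : es ∈ P := by
    by_contra hcon
    have h4 : g (es * s) = 0 := by rw [hV.idem_mul hes, map_zero]
    rw [map_mul] at h4
    exact (mul_ne_zero (hg0 _ hcon) hs0) h4
  have heuP : eu ∈ P := by
    have h4 : eu * (u : Γ(V, W)) ∈ P := by rw [hV.idem_mul heu]; exact P.zero_mem
    exact (Ideal.IsPrime.mem_or_mem ‹_› h4).resolve_right u.2
  let m : P.primeCompl := ⟨1 - es, hPM _ hesP⟩ * ⟨1 - eu, hPM _ heuP⟩ * c
  refine ⟨IsLocalization.mk' S z m, ?_⟩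
  have n1 := hg0 _ (hPM _ hesP)
  have n2 := hg0 _ (hPM _ heuP)
  have n3 := hg0 _ c.2
  have e1 : g m * algebraMap S (FractionRing S) (IsLocalization.mk' S z m) = g z := gmk z m
  have e2 : g m = g (1 - es) * g (1 - eu) * g c := by
    rw [← map_mul, ← map_mul]
    rfl
  have e3 : g z * g s = g (1 - es) * g (1 - eu) * (g c * g a) := by
    rw [← map_mul, hz, map_mul, map_mul, map_mul]
  have n4 : g m ≠ 0 := by rw [e2]; exact mul_ne_zero (mul_ne_zero n1 n2) n3
  rw [hx', eq_div_iff hs0]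
  apply mul_left_cancel₀ n4
  rw [← mul_assoc, e1, e3, e2]
  ring

end atPrime

end K30.NormSec
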