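import Groth.Agent.EGA2.K30.LineBdl
import Groth.Agent.EGA2.K30.NormSec
import Groth.Agent.EGA2.K30.CtrFac
import Mathlib.RingTheory.Polynomial.IsIntegral

/-!
# Line bundles over integral and over normal schemes; the spectrum of a direct image

* `PolyMor π`: locally on the target `π` is the projection of an affine line;
* `PolyMor.of_isSymAlg`: the spectrum of the symmetric algebra of an invertible module;
* `PolyMor.surjective`, `PolyMor.isIntegral`, `PolyMor.normBasis`;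
* `isIntegral_of_c`, `isNormalScheme_of_bijective_app`: integrality and normality descend along `q : V ⟶ C` with
  `O_C ≅ q_*O_V`.
-/

set_option autoImplicit false
universe u

open CategoryTheory CategoryTheory.Limits AlgebraicGeometry Opposite TopologicalSpace

noncomputable section

namespace K30.LineNorm

open Groth.Agent.Fdesc.LocGen K30.NormSec K30.LBdl K36.SymAlg Groth.Agent.Ega2.Nv Groth.Agent.Ega2.Ample

variable {X V : Scheme.{u}} {π : V ⟶ X}

/-- Locally on the target, `π` is the projection of an affine line. -/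
def PolyMor (π : V ⟶ X) : Prop :=
  ∀ x : X, ∃ A : X.Opens, x ∈ A ∧ ∀ A' : X.Opens, A' ≤ A → IsAffineOpen A' → IsAffineOpen (π ⁻¹ᵁ A') ∧
    ∃ τ : Γ(V, π ⁻¹ᵁ A'), Function.Bijective (Polynomial.eval₂RingHom (π.app A').hom τ)

theorem PolyMor.of_isSymAlg {L : X.Modules} (hL : LocGen L ⊤) (hLq : Coh.IsQCoh L)
    {𝒜 : RelSpec.QCAlg X} {jL : L ⟶ 𝒜.toModule} (hA : RelSpec.IsSymAlg L 𝒜 jL) : PolyMor 𝒜.π := by
  intro x
  obtain ⟨A, e, hxA, -, he⟩ := hL x trivial
  refine ⟨A, hxA, fun A' hle hA' => ⟨hA'.preimage 𝒜.π, (gam 𝒜 A' hA').symm (jApp L 𝒜 jL A' (res L hle e)), ?_⟩⟩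
  have h1 := K30.SymLine.bijective_eval₂ hLq hA hA' (he.res hle)
  have h2 : ((gam 𝒜 A' hA' : Γ(𝒜.spec, 𝒜.π ⁻¹ᵁ A') →+* _)).comp
      (Polynomial.eval₂RingHom (𝒜.π.app A').hom
        ((gam 𝒜 A' hA').symm (jApp L 𝒜 jL A' (res L hle e)))) =
      Polynomial.eval₂RingHom (𝒜.str.app (op A')).hom (jApp L 𝒜 jL A' (res L hle e)) := by
    apply Polynomial.ringHom_ext
    · intro a
      rw [RingHom.comp_apply, Polynomial.coe_eval₂RingHom, Polynomial.coe_eval₂RingHom, Polynomial.eval₂_C,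
        Polynomial.eval₂_C]
      exact gam_app 𝒜 A' hA' a
    · rw [RingHom.comp_apply, Polynomial.coe_eval₂RingHom, Polynomial.coe_eval₂RingHom, Polynomial.eval₂_X,
        Polynomial.eval₂_X]
      exact RingEquiv.apply_symm_apply _ _
  rw [← h2] at h1
  exact (Function.Bijective.of_comp_iff' (gam 𝒜 A' hA').bijective _).1 h1

theorem PolyMor.surjective (h : PolyMor π) : Function.Surjective π := by
  intro x
  obtain ⟨A, hxA, hA⟩ := h x
  obtain ⟨A', hA', hxA', hle⟩ := exists_isAffineOpen_mem_and_subset (x := x) (U := A) hxA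
  obtain ⟨hVA, τ, hτ⟩ := hA A' hle hA'
  let e : Polynomial Γ(X, A') ≃+* Γ(V, π ⁻¹ᵁ A') := RingEquiv.ofBijective _ hτ
  let ρ : Γ(V, π ⁻¹ᵁ A') ⟶ Γ(X, A') := CommRingCat.ofHom (Polynomial.constantCoeff.comp (e.symm : _ →+* _))
  have hρ : π.app A' ≫ ρ = 𝟙 _ := by
    ext a
    change Polynomial.constantCoeff (e.symm (π.app A' a)) = a
    have h1 : (π.app A' a : Γ(V, π ⁻¹ᵁ A')) = e (Polynomial.C a) := by
      change _ = Polynomial.eval₂RingHom (π.app A').hom τ (Polynomial.C a)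
      rw [Polynomial.coe_eval₂RingHom, Polynomial.eval₂_C]
    rw [h1, RingEquiv.symm_apply_apply, Polynomial.constantCoeff_apply, Polynomial.coeff_C_zero]
  have h1 : Spec.map (π.appLE A' (π ⁻¹ᵁ A') le_rfl) ≫ hA'.fromSpec = hVA.fromSpec ≫ π :=
    IsAffineOpen.SpecMap_appLE_fromSpec π hA' hVA le_rfl
  rw [Scheme.Hom.appLE_eq_app] at h1
  have h2 : Spec.map ρ ≫ hVA.fromSpec ≫ π = hA'.fromSpec := by
    rw [← h1, ← Category.assoc, ← Spec.map_comp, hρ, Spec.map_id, Category.id_comp]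
  have h3 : x ∈ Set.range hA'.fromSpec := by
    rw [hA'.range_fromSpec]
    exact hxA'
  obtain ⟨p, rfl⟩ := h3
  exact ⟨(Spec.map ρ ≫ hVA.fromSpec) p, by rw [← h2]; rfl⟩

theorem isDomain_of_bij {A : X.Opens} {τ : Γ(V, π ⁻¹ᵁ A)}
    (hτ : Function.Bijective (Polynomial.eval₂RingHom (π.app A).hom τ)) [IsDomain Γ(X, A)] :
    IsDomain Γ(V, π ⁻¹ᵁ A) :=
  MulEquiv.isDomain (Polynomial Γ(X, A)) (RingEquiv.ofBijective _ hτ).symm.toMulEquiv

theorem PolyMor.isIntegral (h : PolyMor π) [IsIntegral X] : IsIntegral V := by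
  have hfr : ∀ x : X, ∃ A : X.Opens, x ∈ A ∧ IsAffineOpen (π ⁻¹ᵁ A) ∧ IsDomain Γ(V, π ⁻¹ᵁ A) := by
    intro x
    obtain ⟨A, hxA, hA⟩ := h x
    obtain ⟨A', hA', hxA', hle⟩ := exists_isAffineOpen_mem_and_subset (x := x) (U := A) hxA
    obtain ⟨hVA, τ, hτ⟩ := hA A' hle hA'
    have : Nonempty A' := ⟨⟨x, hxA'⟩⟩
    exact ⟨A', hxA', hVA, isDomain_of_bij hτ⟩
  choose A hxA hVA hdom using hfr
  have hirr : ∀ x, IsPreirreducible ((π ⁻¹ᵁ (A x) : V.Opens) : Set V) := by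
    intro x
    have := hdom x
    have h2 : IsPreirreducible (Set.univ : Set (Spec Γ(V, π ⁻¹ᵁ (A x)))) :=
      (PreirreducibleSpace.isPreirreducible_univ (X := PrimeSpectrum Γ(V, π ⁻¹ᵁ (A x))))
    have h3 := h2.image (hVA x).fromSpec (hVA x).fromSpec.continuous.continuousOn
    rw [Set.image_univ, (hVA x).range_fromSpec] at h3
    exact h3
  obtain ⟨x₀⟩ : Nonempty X := inferInstance
  have hmeet : ∀ W : V.Opens, (W : Set V).Nonempty → ((π ⁻¹ᵁ (A x₀) : V.Opens) ∩ (W : Set V) : Set V).Nonempty := by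
    rintro W ⟨v, hv⟩
    obtain ⟨x, hx1, hx2⟩ : ((A x₀ : Set X) ∩ (A (π v))).Nonempty :=
      nonempty_preirreducible_inter (A x₀).2 (A (π v)).2 ⟨x₀, hxA _⟩ ⟨π v, hxA _⟩
    obtain ⟨v', rfl⟩ := h.surjective x
    obtain ⟨w, hw1, hw2, hw3⟩ := hirr (π v) W (π ⁻¹ᵁ (A x₀)) W.2 (π ⁻¹ᵁ (A x₀)).2
      ⟨v, hxA _, hv⟩ ⟨v', hx2, hx1⟩
    exact ⟨w, hw3, hw2⟩
  have hpre : PreirreducibleSpace V := by
    refine ⟨?_⟩
    intro W W' hW hW' hne hne'
    obtain ⟨w, -, hw⟩ := hirr x₀ W W' hW hW'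
      (hmeet ⟨W, hW⟩ (by simpa using hne)) (hmeet ⟨W', hW'⟩ (by simpa using hne'))
    exact ⟨w, trivial, hw⟩
  obtain ⟨v₀, -⟩ := h.surjective x₀
  have hnev : Nonempty V := ⟨v₀⟩
  have hirrS : IrreducibleSpace V := { toPreirreducibleSpace := hpre, toNonempty := hnev }
  have hred : IsReduced V := by
    have : ∀ v : V, _root_.IsReduced (V.presheaf.stalk v) := by
      intro v
      have := hdom (π v)
      have hv : v ∈ (π ⁻¹ᵁ (A (π v)) : V.Opens) := hxA _
      let := TopCat.Presheaf.algebra_section_stalk V.presheaf (⟨v, hv⟩ : (π ⁻¹ᵁ (A (π v)) : V.Opens))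
      have h2 : IsLocalization.AtPrime (V.presheaf.stalk v) ((hVA (π v)).primeIdealOf ⟨v, hv⟩).asIdeal :=
        (hVA (π v)).isLocalization_stalk ⟨v, hv⟩
      have h3 : _root_.IsReduced Γ(V, π ⁻¹ᵁ (A (π v))) := inferInstance
      exact isReduced_localizationPreserves ((hVA (π v)).primeIdealOf ⟨v, hv⟩).asIdeal.primeCompl
        (V.presheaf.stalk v) h3
    exact isReduced_of_isReduced_stalk V
  exact isIntegral_of_irreducibleSpace_of_isReduced V

theorem PolyMor.normBasis (h : PolyMor π) (hX : NormBasis X) : NormBasis V := by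
  intro v
  obtain ⟨A, hxA, hA⟩ := h (π v)
  obtain ⟨D, hD, hDA, hg⟩ := hX.exists_le hxA
  obtain ⟨hVD, τ, hτ⟩ := hA D hDA hg.aff
  have := hg.dom
  have := hg.int
  exact ⟨π ⁻¹ᵁ D, hD, hVD, isDomain_of_bij hτ, IsIntegrallyClosed.of_equiv (RingEquiv.ofBijective _ hτ)⟩

theorem good_of_isNormalScheme (hX : Pi1.IsNormalScheme X) {U : X.Opens} (hU : IsAffineOpen U)
    (hdom : IsDomain Γ(X, U)) : Good U := by
  refine ⟨hU, hdom, IsIntegrallyClosed.of_localization_maximal fun p _ hp => ?_⟩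
  let y : PrimeSpectrum Γ(X, U) := ⟨p, hp.isPrime⟩
  have hy : hU.fromSpec y ∈ U := by
    rw [← SetLike.mem_coe, ← hU.range_fromSpec]; exact ⟨y, rfl⟩
  let := TopCat.Presheaf.algebra_section_stalk X.presheaf ⟨hU.fromSpec y, hy⟩
  have : IsLocalization p.primeCompl (X.presheaf.stalk (hU.fromSpec y)) :=
    hU.isLocalization_stalk' y hy
  have h2 := (hX (hU.fromSpec y)).2
  exact .of_equiv (IsLocalization.algEquiv p.primeCompl (X.presheaf.stalk (hU.fromSpec y))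
    (Localization.AtPrime p)).toRingEquiv

/-- A normal locally integral scheme. -/
theorem normBasis_of_isNormalScheme (hi : ∀ x : X, ∃ U : X.Opens, x ∈ U ∧ IsIntegral (U : Scheme.{u}))
    (hX : Pi1.IsNormalScheme X) : NormBasis X := by
  intro x
  obtain ⟨U, hxU, hU⟩ := hi x
  obtain ⟨D, hD, hxD, hle⟩ := exists_isAffineOpen_mem_and_subset (x := x) (U := U) hxU
  refine ⟨D, hxD, good_of_isNormalScheme hX hD ?_⟩
  have h1 : Nonempty (U.ι ⁻¹ᵁ D) := ⟨⟨⟨x, hxU⟩, hxD⟩⟩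
  have h2 : IsDomain Γ((U : Scheme.{u}), U.ι ⁻¹ᵁ D) := inferInstance
  have h3 : U.ι ''ᵁ (U.ι ⁻¹ᵁ D) = D := by
    rw [Scheme.Hom.image_preimage_eq_opensRange_inf, Scheme.Opens.opensRange_ι]
    exact inf_eq_right.2 hle
  have h4 : IsDomain Γ(X, U.ι ''ᵁ (U.ι ⁻¹ᵁ D)) := h2
  rwa [h3] at h4

variable {C : Scheme.{u}}

theorem isIntegral_of_c (q : V ⟶ C) [IsIntegral V] [IsIso q.c] : IsIntegral C := by
  obtain ⟨v⟩ : Nonempty V := inferInstance
  have hn : Nonempty C := ⟨q v⟩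
  refine { nonempty := hn, component_integral := fun W hW => ?_ }
  have h1 : IsIso (q.c.app (op W)) := inferInstance
  have hb : Function.Bijective (q.app W).hom := ConcreteCategory.bijective_of_isIso (q.c.app (op W))
  have hne : Nonempty (q ⁻¹ᵁ W) := by
    by_contra hcon
    have h2 : q ⁻¹ᵁ W = ⊥ := by
      rw [eq_bot_iff]
      intro v hv
      exact (hcon ⟨⟨v, hv⟩⟩).elim
    have h3 : (1 : Γ(C, W)) = 0 := by
      apply hb.1
      rw [map_one, map_zero]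
      have h2' : ∀ W' : V.Opens, W' = ⊥ → (1 : Γ(V, W')) = 0 := by
        rintro _ rfl
        exact Subsingleton.elim _ _
      exact h2' _ h2
    have h4 : C.basicOpen (1 : Γ(C, W)) = W := C.basicOpen_of_isUnit isUnit_one
    rw [h3, Scheme.basicOpen_zero] at h4
    obtain ⟨⟨c, hc⟩⟩ := hW
    rw [← h4] at hc
    exact hc
  exact MulEquiv.isDomain Γ(V, q ⁻¹ᵁ W) (RingEquiv.ofBijective _ hb).toMulEquiv

theorem isNormalScheme_of_bijective_app (hV : NormBasis V) (q : V ⟶ C)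
    (h : ∀ c : C, ∃ W : C.Opens, c ∈ W ∧ IsAffineOpen W ∧ Function.Bijective (q.app W).hom) :
    Pi1.IsNormalScheme C := by
  intro c
  obtain ⟨W, hcW, hW, hb⟩ := h c
  let := TopCat.Presheaf.algebra_section_stalk C.presheaf (⟨c, hcW⟩ : W)
  have h1 : IsLocalization.AtPrime (C.presheaf.stalk c) (hW.primeIdealOf ⟨c, hcW⟩).asIdeal :=
    hW.isLocalization_stalk ⟨c, hcW⟩
  let e : Γ(C, W) ≃+* Γ(V, q ⁻¹ᵁ W) := RingEquiv.ofBijective _ hb
  let P := (hW.primeIdealOf ⟨c, hcW⟩).asIdeal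
  let Q : Ideal Γ(V, q ⁻¹ᵁ W) := P.comap e.symm
  have hQ : Q.IsPrime := Ideal.comap_isPrime _ _
  let alg : Algebra Γ(V, q ⁻¹ᵁ W) (C.presheaf.stalk c) :=
    ((algebraMap Γ(C, W) (C.presheaf.stalk c)).comp e.symm.toRingHom).toAlgebra
  have h2 : IsLocalization (P.primeCompl.map e) (C.presheaf.stalk c) :=
    IsLocalization.isLocalization_of_base_ringEquiv P.primeCompl (C.presheaf.stalk c) e
  have h3 : P.primeCompl.map e = Q.primeCompl := by
    ext z
    rw [Submonoid.mem_map]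
    constructor
    · rintro ⟨y, hy, rfl⟩
      intro hz
      apply hy
      have h4 : e.symm (e y) ∈ P := hz
      rwa [RingEquiv.symm_apply_apply] at h4
    · intro hz
      exact ⟨e.symm z, hz, e.apply_symm_apply z⟩
  rw [h3] at h2
  have h5 : IsLocalization.AtPrime (C.presheaf.stalk c) Q := h2
  exact ⟨isDomain_atPrime hV Q _, isIntegrallyClosed_atPrime hV Q _⟩

end K30.LineNorm

end
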