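import Groth.Agent.EGA2.K30.TaylorPt

/-!
# Functions on a line bundle attached to sections of powers
-/

set_option autoImplicit false
universe u

open CategoryTheory CategoryTheory.Limits AlgebraicGeometry Opposite TopologicalSpace

noncomputable section

namespace K30.SecFun

open K30.LBdl K30.EvSpec K30.Taylor K30.TaylorPt Groth.Agent.Fdesc.LocGen Groth.Agent.Ega2.Nv
  Groth.Agent.Ega2.Ample

variable {X V : Scheme.{u}} {L : X.Modules} {π : V ⟶ X} {j : X ⟶ V} (B : LineBdl L π j)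

theorem ores_app {A A' : X.Opens} (i : A' ≤ A) (a : Γ(X, A)) :
    ores (π.preimage_mono i) (π.app A a : Γ(V, π ⁻¹ᵁ A)) = (π.app A' (ores i a) : Γ(V, π ⁻¹ᵁ A')) :=
  congr($(π.naturality (homOfLE i).op) a).symm

/-- The local function `π^*(a) tau(e)^n`. -/
def fn {A : X.Opens} (hA : IsAffineOpen A) (e : Γ(L, A)) (n : ℕ) (a : Γ(X, A)) : Γ(V, π ⁻¹ᵁ A) :=
  (π.app A a : Γ(V, π ⁻¹ᵁ A)) * B.tau A hA e ^ n

theorem ores_fn {A A' : X.Opens} (hA : IsAffineOpen A) (hA' : IsAffineOpen A') (i : A' ≤ A) (e : Γ(L, A)) (n : ℕ)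
    (a : Γ(X, A)) : ores (π.preimage_mono i) (fn B hA e n a) = fn B hA' (res L i e) n (ores i a) := by
  unfold fn
  rw [map_mul, map_pow, ores_app, B.tau_res]

theorem fn_congr {A : X.Opens} (hA : IsAffineOpen A) {e e' : Γ(L, A)} (he' : IsGen e')
    (n : ℕ) (a a' : Γ(X, A)) (h : a • pow e n = a' • pow e' n) : fn B hA e n a = fn B hA e' n a' := by
  obtain ⟨u, rfl⟩ := he'.exists_eq e
  rw [smul_pow, smul_smul] at h
  have h1 : a * u ^ n = a' := (he'.pow n).ext h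
  unfold fn
  rw [B.tau_smul, ← h1, map_mul, map_pow, mul_pow, mul_assoc]

/-- The function on `π⁻¹D` attached to a section of `L^n` over `D`. -/
theorem exists_fun {D : X.Opens} (hD : LocGen L D) {n : ℕ} (s : Γ(CohB1.tensorPow L n, D)) :
    ∃ F : Γ(V, π ⁻¹ᵁ D), ∀ (A : X.Opens) (hA : IsAffineOpen A) (i : A ≤ D) (e : Γ(L, A)) (_ : IsGen e)
      (a : Γ(X, A)), res _ i s = a • pow e n → ores (π.preimage_mono i) F = fn B hA e n a := by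
  have hfr : ∀ z : D, ∃ (A : X.Opens) (_ : IsAffineOpen A) (e : Γ(L, A)), z.1 ∈ A ∧ A ≤ D ∧ IsGen e := by
    intro z
    obtain ⟨A₁, e₁, hzA, hA₁, he₁⟩ := hD z.1 z.2
    obtain ⟨A, hA, hzA', hle⟩ := exists_isAffineOpen_mem_and_subset (x := z.1) (U := A₁) hzA
    exact ⟨A, hA, res L hle e₁, hzA', (show A ≤ A₁ from hle).trans hA₁, he₁.res _⟩
  choose A hA e hzA hAD he using hfr
  have hcov : D ≤ ⨆ z, A z := fun z hz => Opens.mem_iSup.mpr ⟨⟨z, hz⟩, hzA _⟩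
  have hcoef : ∀ z, ∃ a : Γ(X, A z), res _ (hAD z) s = a • pow (e z) n := fun z => ((he z).pow n).exists_eq _
  choose a ha using hcoef
  -- comparison of two local functions
  have key : ∀ (A₁ A₂ : X.Opens) (hA₁ : IsAffineOpen A₁) (hA₂ : IsAffineOpen A₂) (i₁ : A₁ ≤ D) (i₂ : A₂ ≤ D)
      (e₁ : Γ(L, A₁)) (e₂ : Γ(L, A₂)) (_ : IsGen e₁) (_ : IsGen e₂) (a₁ : Γ(X, A₁)) (a₂ : Γ(X, A₂))
      (_ : res _ i₁ s = a₁ • pow e₁ n) (_ : res _ i₂ s = a₂ • pow e₂ n),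
      ores (show π ⁻¹ᵁ A₁ ⊓ π ⁻¹ᵁ A₂ ≤ π ⁻¹ᵁ A₁ from inf_le_left) (fn B hA₁ e₁ n a₁) =
        ores (show π ⁻¹ᵁ A₁ ⊓ π ⁻¹ᵁ A₂ ≤ π ⁻¹ᵁ A₂ from inf_le_right) (fn B hA₂ e₂ n a₂) := by
    intro A₁ A₂ hA₁ hA₂ i₁ i₂ e₁ e₂ he₁ he₂ a₁ a₂ h₁ h₂
    have hloc : ∀ x : (A₁ ⊓ A₂ : X.Opens), ∃ D' : X.Opens, IsAffineOpen D' ∧ x.1 ∈ D' ∧ D' ≤ A₁ ⊓ A₂ := by
      intro x
      obtain ⟨D', hD', hx, hle⟩ := exists_isAffineOpen_mem_and_subset x.2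
      exact ⟨D', hD', hx, hle⟩
    choose D' hD' hxD' hle using hloc
    have hle' : ∀ x, π ⁻¹ᵁ (D' x) ≤ π ⁻¹ᵁ A₁ ⊓ π ⁻¹ᵁ A₂ := fun x => π.preimage_mono (hle x)
    refine ores_ext (fun x => π ⁻¹ᵁ (D' x)) hle' (fun x hx => ?_) fun x => ?_
    · exact Opens.mem_iSup.mpr ⟨⟨π x, hx⟩, hxD' _⟩
    · have k₁ : D' x ≤ A₁ := (hle x).trans inf_le_left
      have k₂ : D' x ≤ A₂ := (hle x).trans inf_le_right
      rw [ores_ores, ores_ores]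
      refine (ores_fn B hA₁ (hD' x) k₁ e₁ n a₁).trans (Eq.trans ?_ (ores_fn B hA₂ (hD' x) k₂ e₂ n a₂).symm)
      refine fn_congr B (hD' x) (he₂.res _) n _ _ ?_
      have g₁ := congrArg (res _ k₁) h₁
      have g₂ := congrArg (res _ k₂) h₂
      rw [res_res, res_smul, res_pow] at g₁ g₂
      rw [← g₁, ← g₂]
  obtain ⟨F, hF⟩ := ores_glue (fun z => π ⁻¹ᵁ (A z)) (fun z => π.preimage_mono (hAD z))
    (fun v hv => Opens.mem_iSup.mpr ⟨⟨π v, hv⟩, hzA _⟩) (fun z => fn B (hA z) (e z) n (a z))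
    (fun z w => key _ _ (hA z) (hA w) (hAD z) (hAD w) _ _ (he z) (he w) _ _ (ha z) (ha w))
  refine ⟨F, fun A' hA' i e' he' a' h' => ?_⟩
  refine ores_ext (fun z : D => π ⁻¹ᵁ A' ⊓ π ⁻¹ᵁ (A z)) (fun z => inf_le_left) (fun v hv => ?_) fun z => ?_
  · exact Opens.mem_iSup.mpr ⟨⟨π v, i hv⟩, hv, hzA _⟩
  · rw [key A' (A z) hA' (hA z) i (hAD z) e' (e z) he' (he z) a' (a z) h' (ha z), ← hF z, ores_ores, ores_ores]

end K30.SecFun

end
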