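import Groth.Agent.EGA2.K36.SymAlg
import Groth.Agent.Ega2.Nv

/-!
# The symmetric algebra of an invertible module over an affine open with a generator is a polynomial ring
-/

set_option autoImplicit false
universe u

open CategoryTheory CategoryTheory.Limits AlgebraicGeometry Opposite TopologicalSpace

namespace K30.SymLine

open K36.SymAlg Groth.Agent.Fdesc.LocGen

/-- The symmetric algebra of a free module of rank one is a polynomial ring. -/
theorem bijective_aeval_ι {R M : Type*} [CommRing R] [AddCommGroup M] [Module R M] (e : M)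
    (he : Function.Bijective (fun a : R => a • e)) :
    Function.Bijective (Polynomial.aeval (R := R) (SymmetricAlgebra.ι R M e)) := by
  let c : R ≃ₗ[R] M := LinearEquiv.ofBijective (LinearMap.toSpanSingleton R M e) he
  have hc : ∀ a : R, c a = a • e := fun a => rfl
  let g : M →ₗ[R] Polynomial R := (LinearMap.toSpanSingleton R (Polynomial R) Polynomial.X).comp c.symm.toLinearMap
  have hg : ∀ a : R, g (a • e) = a • Polynomial.X := by
    intro a
    change c.symm (a • e) • Polynomial.X = _
    rw [← hc, c.symm_apply_apply]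
  let G : SymmetricAlgebra R M →ₐ[R] Polynomial R := SymmetricAlgebra.lift g
  have h1 : G.comp (Polynomial.aeval (R := R) (SymmetricAlgebra.ι R M e)) = AlgHom.id R _ := by
    apply Polynomial.algHom_ext
    rw [AlgHom.comp_apply, Polynomial.aeval_X, AlgHom.id_apply]
    have := hg 1
    rw [one_smul, one_smul] at this
    rw [← this]
    exact SymmetricAlgebra.lift_ι_apply g e
  have h2 : (Polynomial.aeval (R := R) (SymmetricAlgebra.ι R M e)).comp G = AlgHom.id R _ := by
    apply SymmetricAlgebra.algHom_ext
    ext m
    obtain ⟨a, rfl⟩ := he.2 m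
    dsimp only
    change (Polynomial.aeval (R := R) (SymmetricAlgebra.ι R M e)) (G (SymmetricAlgebra.ι R M (a • e))) =
      SymmetricAlgebra.ι R M (a • e)
    have h3 : G (SymmetricAlgebra.ι R M (a • e)) = g (a • e) := SymmetricAlgebra.lift_ι_apply g (a • e)
    rw [h3, hg, map_smul, map_smul, Polynomial.aeval_X]
  refine ⟨fun x y hxy => ?_, fun y => ⟨G y, DFunLike.congr_fun h2 y⟩⟩
  have h3 := congrArg G hxy
  have h4 : ∀ z, G (Polynomial.aeval (R := R) (SymmetricAlgebra.ι R M e) z) = z := fun z =>
    DFunLike.congr_fun h1 z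
  rwa [h4, h4] at h3

variable {S : Scheme.{u}} {E : S.Modules} {A : RelSpec.QCAlg S} {j : E ⟶ A.toModule}

/-- `Sym(E)(U) = O(U)[T]`, `T` a generator of `E` over the affine open `U`. -/
theorem bijective_eval₂ (hE : Coh.IsQCoh E) (hA : RelSpec.IsSymAlg E A j) {U : S.Opens} (hU : IsAffineOpen U)
    {e : Γ(E, U)} (he : IsGen e) :
    Function.Bijective (Polynomial.eval₂RingHom (A.str.app (op U)).hom (jApp E A j U e)) := by
  have h1 := bijective_aeval_ι e he.bijective
  have h2 := bijective_symHom hE hA U hU
  have h3 : (symHom E A j U).comp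
      (Polynomial.aeval (R := Γ(S, U)) (SymmetricAlgebra.ι Γ(S, U) Γ(E, U) e)).toRingHom =
      Polynomial.eval₂RingHom (A.str.app (op U)).hom (jApp E A j U e) := by
    apply Polynomial.ringHom_ext
    · intro a
      rw [RingHom.comp_apply]
      change symHom E A j U (Polynomial.aeval _ (Polynomial.C a)) = _
      rw [Polynomial.aeval_C, symHom_algebraMap, Polynomial.coe_eval₂RingHom, Polynomial.eval₂_C]
    · rw [RingHom.comp_apply]
      change symHom E A j U (Polynomial.aeval _ Polynomial.X) = _
      rw [Polynomial.aeval_X, symHom_ι, Polynomial.coe_eval₂RingHom, Polynomial.eval₂_X]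
  rw [← h3]
  exact h2.comp h1

end K30.SymLine
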