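import Groth.Agent.EGA2.K30.EvSpec
import Mathlib.RingTheory.PowerSeries.Basic
import Mathlib.RingTheory.PowerSeries.Inverse

/-!
# Taylor expansion of functions along the zero section of a line bundle
-/

set_option autoImplicit false
universe u

open CategoryTheory CategoryTheory.Limits AlgebraicGeometry Opposite TopologicalSpace

noncomputable section

namespace K30.Taylor

open K30.LBdl K30.EvSpec Groth.Agent.Fdesc.LocGen

variable {X V : Scheme.{u}} {L : X.Modules} {π : V ⟶ X} {j : X ⟶ V} (B : LineBdl L π j)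

section frame

variable {A : X.Opens} (hA : IsAffineOpen A) {e : Γ(L, A)} (he : IsGen e)

/-- `Γ(V, π⁻¹A) = Γ(X, A)[T]`. -/
def polyEquiv : Polynomial Γ(X, A) ≃+* Γ(V, π ⁻¹ᵁ A) := RingEquiv.ofBijective _ (B.bij A hA e he)

theorem polyEquiv_C (a : Γ(X, A)) : polyEquiv B hA he (Polynomial.C a) = (π.app A a : Γ(V, π ⁻¹ᵁ A)) := by
  change Polynomial.eval₂RingHom _ _ _ = _
  rw [Polynomial.coe_eval₂RingHom, Polynomial.eval₂_C]

theorem polyEquiv_X : polyEquiv B hA he Polynomial.X = B.tau A hA e := by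
  change Polynomial.eval₂RingHom _ _ _ = _
  rw [Polynomial.coe_eval₂RingHom, Polynomial.eval₂_X]

/-- The polynomial functions as power series. -/
def beta : Γ(V, π ⁻¹ᵁ A) →+* PowerSeries Γ(X, A) :=
  (Polynomial.coeToPowerSeries.ringHom (R := Γ(X, A))).comp (polyEquiv B hA he).symm.toRingHom

theorem beta_app (a : Γ(X, A)) : beta B hA he (π.app A a) = PowerSeries.C a := by
  change Polynomial.coeToPowerSeries.ringHom ((polyEquiv B hA he).symm (π.app A a)) = _
  rw [← polyEquiv_C B hA he, RingEquiv.symm_apply_apply, Polynomial.coeToPowerSeries.ringHom_apply,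
    Polynomial.coe_C]

theorem beta_tau : beta B hA he (B.tau A hA e) = PowerSeries.X := by
  change Polynomial.coeToPowerSeries.ringHom ((polyEquiv B hA he).symm _) = _
  rw [← polyEquiv_X B hA he, RingEquiv.symm_apply_apply, Polynomial.coeToPowerSeries.ringHom_apply,
    Polynomial.coe_X]

include he in
/-- Ring homomorphisms out of `Γ(V, π⁻¹A)` are determined on `Γ(X, A)` and on `tau e`. -/
theorem hom_ext {C : Type*} [CommRing C] {f g : Γ(V, π ⁻¹ᵁ A) →+* C}
    (h1 : ∀ a : Γ(X, A), f (π.app A a) = g (π.app A a)) (h2 : f (B.tau A hA e) = g (B.tau A hA e)) : f = g := by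
  have h : f.comp (polyEquiv B hA he : Polynomial Γ(X, A) →+* Γ(V, π ⁻¹ᵁ A)) =
      g.comp (polyEquiv B hA he : Polynomial Γ(X, A) →+* Γ(V, π ⁻¹ᵁ A)) := by
    apply Polynomial.ringHom_ext
    · intro a
      change f (polyEquiv B hA he (Polynomial.C a)) = g (polyEquiv B hA he (Polynomial.C a))
      rw [polyEquiv_C, h1]
    · change f (polyEquiv B hA he Polynomial.X) = g (polyEquiv B hA he Polynomial.X)
      rw [polyEquiv_X, h2]
  ext x
  obtain ⟨y, rfl⟩ := (polyEquiv B hA he).surjective x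
  exact DFunLike.congr_fun h y

include B hA in
theorem isAffineOpen_preimage : IsAffineOpen (π ⁻¹ᵁ A) := by
  have := B.affine
  exact hA.preimage π

/-- The formal neighbourhood of the zero section over `A`. -/
def phi : Spec (CommRingCat.of (PowerSeries Γ(X, A))) ⟶ V :=
  Spec.map (CommRingCat.ofHom (beta B hA he)) ≫ (isAffineOpen_preimage B hA).fromSpec

theorem fromSpec_π : (isAffineOpen_preimage B hA).fromSpec ≫ π = Spec.map (π.app A) ≫ hA.fromSpec := by
  rw [← IsAffineOpen.SpecMap_appLE_fromSpec π hA (isAffineOpen_preimage B hA) le_rfl, Scheme.Hom.appLE_eq_app]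

theorem phi_π : phi B hA he ≫ π =
    Spec.map (CommRingCat.ofHom (PowerSeries.C (R := Γ(X, A)))) ≫ hA.fromSpec := by
  rw [phi, Category.assoc, fromSpec_π B hA, ← Category.assoc, ← Spec.map_comp]
  congr 2
  exact CommRingCat.hom_ext (RingHom.ext fun a => beta_app B hA he a)

theorem const_phi : Spec.map (CommRingCat.ofHom (PowerSeries.constantCoeff (R := Γ(X, A)))) ≫ phi B hA he =
    hA.fromSpec ≫ j := by
  rw [phi, ← Category.assoc, ← Spec.map_comp,
    ← IsAffineOpen.SpecMap_appLE_fromSpec j (isAffineOpen_preimage B hA) hA (le_preimage_section B.comp A)]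
  congr 2
  have h : (PowerSeries.constantCoeff (R := Γ(X, A))).comp (beta B hA he) =
      (j.appLE (π ⁻¹ᵁ A) A (le_preimage_section B.comp A)).hom := by
    apply hom_ext B hA he
    · intro a
      rw [RingHom.comp_apply, beta_app, PowerSeries.constantCoeff_C]
      have h1 : π.app A ≫ j.appLE (π ⁻¹ᵁ A) A (le_preimage_section B.comp A) = 𝟙 _ := by
        rw [← Scheme.Hom.appLE_eq_app, Scheme.Hom.appLE_comp_appLE]
        have h2 : ∀ (k : X ⟶ X) (_ : k = 𝟙 X) (e : A ≤ k ⁻¹ᵁ A), k.appLE A A e = 𝟙 _ := by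
          rintro k rfl e
          exact (Category.id_comp _).trans (X.presheaf.map_id _)
        exact h2 _ B.comp _
      exact congr($h1 a).symm
    · rw [RingHom.comp_apply, beta_tau, PowerSeries.constantCoeff_X]
      exact (B.zero A hA e).symm
  exact CommRingCat.hom_ext h

/-- The formal neighbourhood of the zero section lies in every neighbourhood of the zero section. -/
theorem top_le_phi {W : V.Opens} (hW : A ≤ j ⁻¹ᵁ W) :
    (⊤ : (Spec (CommRingCat.of (PowerSeries Γ(X, A)))).Opens) ≤ (phi B hA he) ⁻¹ᵁ W := by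
  intro P _
  have hne : P.asIdeal ⊔ Ideal.span {(PowerSeries.X : PowerSeries Γ(X, A))} ≠ ⊤ := by
    intro h
    rw [Ideal.eq_top_iff_one, Submodule.mem_sup] at h
    obtain ⟨y, hy, z, hz, hyz⟩ := h
    obtain ⟨b, rfl⟩ := Ideal.mem_span_singleton'.mp hz
    have hu : IsUnit y := by
      rw [PowerSeries.isUnit_iff_constantCoeff]
      have := congrArg (PowerSeries.constantCoeff (R := Γ(X, A))) hyz
      rw [map_add, map_mul, PowerSeries.constantCoeff_X, mul_zero, add_zero, map_one] at this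
      rw [this]
      exact isUnit_one
    exact P.isPrime.ne_top (Ideal.eq_top_of_isUnit_mem _ hy hu)
  obtain ⟨m, hm, hle⟩ := Ideal.exists_le_maximal _ hne
  let Q : Spec (CommRingCat.of (PowerSeries Γ(X, A))) := ⟨m, hm.isPrime⟩
  have hXm : (PowerSeries.X : PowerSeries Γ(X, A)) ∈ m :=
    hle (Ideal.mem_sup_right (Ideal.mem_span_singleton_self _))
  have hspec : P ⤳ Q := (PrimeSpectrum.le_iff_specializes P Q).1 (le_sup_left.trans hle)
  have hsur : Function.Surjective (PowerSeries.constantCoeff (R := Γ(X, A))) :=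
    fun a => ⟨PowerSeries.C a, PowerSeries.constantCoeff_C a⟩
  obtain ⟨q, hq⟩ : Q ∈ Set.range (Spec.map (CommRingCat.ofHom (PowerSeries.constantCoeff (R := Γ(X, A))))) := by
    have h1 : Q ∈ PrimeSpectrum.zeroLocus (RingHom.ker (PowerSeries.constantCoeff (R := Γ(X, A))) : Set _) := by
      intro f hf
      rw [SetLike.mem_coe, RingHom.mem_ker] at hf
      obtain ⟨g, rfl⟩ := PowerSeries.X_dvd_iff.mpr hf
      exact Ideal.mul_mem_right _ _ hXm
    rw [← _root_.range_comap_of_surjective _ _ hsur] at h1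
    exact h1
  have h2 : phi B hA he Q ∈ W := by
    rw [← hq, ← Scheme.Hom.comp_apply, const_phi, Scheme.Hom.comp_apply]
    apply hW
    have : hA.fromSpec q ∈ Set.range hA.fromSpec := ⟨q, rfl⟩
    rwa [hA.range_fromSpec] at this
  exact (hspec.map (phi B hA he).continuous).mem_open W.isOpen h2

/-- The Taylor expansion. -/
def tay {W : V.Opens} (hW : A ≤ j ⁻¹ᵁ W) : Γ(V, W) →+* PowerSeries Γ(X, A) :=
  ev (phi B hA he) W (top_le_phi B hA he hW)

theorem tay_res {W W' : V.Opens} (hW : A ≤ j ⁻¹ᵁ W) (hW' : A ≤ j ⁻¹ᵁ W') (h : W' ≤ W) (F : Γ(V, W)) :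
    tay B hA he hW' (ores h F) = tay B hA he hW F :=
  ev_res _ _ _ _ F

theorem constantCoeff_tay {W : V.Opens} (hW : A ≤ j ⁻¹ᵁ W) (F : Γ(V, W)) :
    PowerSeries.constantCoeff (tay B hA he hW F) = (j.appLE W A hW F : Γ(X, A)) := by
  have e1 : (⊤ : (Spec Γ(X, A)).Opens) ≤ (hA.fromSpec ≫ j) ⁻¹ᵁ W := by
    rw [Scheme.Hom.comp_preimage]
    refine le_trans ?_ (hA.fromSpec.preimage_mono hW)
    rw [hA.fromSpec_preimage_self]
  have h1 := ev_comp (phi B hA he) (CommRingCat.ofHom (PowerSeries.constantCoeff (R := Γ(X, A)))) (hA.fromSpec ≫ j)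
    (const_phi B hA he).symm W (top_le_phi B hA he hW) e1 F
  refine h1.symm.trans ?_
  rw [ev_apply]
  have e0 : (⊤ : (Spec Γ(X, A)).Opens) ≤ hA.fromSpec ⁻¹ᵁ A := by rw [hA.fromSpec_preimage_self]
  have h2 : (hA.fromSpec ≫ j).appLE W ⊤ e1 = j.appLE W A hW ≫ (Scheme.ΓSpecIso Γ(X, A)).inv := by
    rw [← fromSpec_appLE hA e0, Scheme.Hom.appLE_comp_appLE]
  rw [h2]
  exact congr($((Scheme.ΓSpecIso Γ(X, A)).inv_hom_id) (j.appLE W A hW F))

end frame

section change

variable {A A' : X.Opens} (hA : IsAffineOpen A) {e : Γ(L, A)} (he : IsGen e) (hA' : IsAffineOpen A')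
  {e' : Γ(L, A')} (he' : IsGen e') (i : A' ≤ A) {u : Γ(X, A')} (hu : res L i e = u • e')

include hu in
theorem phi_change : phi B hA' he' = Spec.map (CommRingCat.ofHom
    ((PowerSeries.rescale u).comp (PowerSeries.map (ores i)))) ≫ phi B hA he := by
  have hle : π ⁻¹ᵁ A' ≤ π ⁻¹ᵁ A := π.preimage_mono i
  have h1 : (isAffineOpen_preimage B hA').fromSpec =
      Spec.map (V.presheaf.map (homOfLE hle).op) ≫ (isAffineOpen_preimage B hA).fromSpec :=
    ((isAffineOpen_preimage B hA).map_fromSpec (isAffineOpen_preimage B hA') (homOfLE hle).op).symm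
  rw [phi, phi, h1, ← Category.assoc, ← Category.assoc, ← Spec.map_comp, ← Spec.map_comp]
  congr 2
  refine CommRingCat.hom_ext ?_
  change (beta B hA' he').comp (V.presheaf.map (homOfLE hle).op).hom =
    ((PowerSeries.rescale u).comp (PowerSeries.map (ores i))).comp (beta B hA he)
  apply hom_ext B hA he
  · intro a
    rw [RingHom.comp_apply, RingHom.comp_apply, beta_app, RingHom.comp_apply, PowerSeries.map_C]
    have h2 : (V.presheaf.map (homOfLE hle).op).hom (π.app A a : Γ(V, π ⁻¹ᵁ A)) =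
        (π.app A' (ores i a) : Γ(V, π ⁻¹ᵁ A')) := congr($(π.naturality (homOfLE i).op) a).symm
    rw [h2, beta_app]
    ext n
    rw [PowerSeries.coeff_rescale, PowerSeries.coeff_C]
    split_ifs with h
    · rw [h, pow_zero, one_mul]
    · rw [mul_zero]
  · rw [RingHom.comp_apply, RingHom.comp_apply, beta_tau, RingHom.comp_apply, PowerSeries.map_X]
    have h2 : (V.presheaf.map (homOfLE hle).op).hom (B.tau A hA e) = B.tau A' hA' (res L i e) :=
      B.tau_res A A' hA hA' i e
    rw [h2, hu, B.tau_smul, map_mul, beta_app, beta_tau]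
    ext n
    rw [PowerSeries.coeff_rescale, PowerSeries.coeff_C_mul, PowerSeries.coeff_X]
    split_ifs with h
    · rw [h, pow_one]
    · rw [mul_zero, mul_zero]

include hu in
theorem coeff_tay_change {W : V.Opens} (hW : A ≤ j ⁻¹ᵁ W) (F : Γ(V, W)) (n : ℕ) :
    PowerSeries.coeff n (tay B hA' he' (i.trans hW) F) = u ^ n * ores i (PowerSeries.coeff n (tay B hA he hW F)) := by
  have h1 := ev_comp (phi B hA he) _ _ (phi_change B hA he hA' he' i hu) W (top_le_phi B hA he hW)
    (top_le_phi B hA' he' (i.trans hW)) F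
  have h2 : tay B hA' he' (i.trans hW) F =
      (PowerSeries.rescale u) (PowerSeries.map (ores i) (tay B hA he hW F)) := h1
  rw [h2, PowerSeries.coeff_rescale, PowerSeries.coeff_map]

end change

end K30.Taylor

end
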