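import Groth.Agent.EGA2.K30.Taylor
import Groth.Agent.Ega2.RelAmp

/-!
# Points over which the Taylor expansion does not vanish; gluing of Taylor coefficients
-/

set_option autoImplicit false
universe u

open CategoryTheory CategoryTheory.Limits AlgebraicGeometry Opposite TopologicalSpace

noncomputable section

namespace K30.TaylorPt

open K30.LBdl K30.EvSpec K30.Taylor Groth.Agent.Fdesc.LocGen Groth.Agent.Ega2.Nv Groth.Agent.Ega2.Ample

variable {X V : Scheme.{u}} {L : X.Modules} {π : V ⟶ X} {j : X ⟶ V} (B : LineBdl L π j)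

section point

variable {A : X.Opens} (hA : IsAffineOpen A) {e : Γ(L, A)} (he : IsGen e)

theorem mem_primeIdealOf_iff (x : A) (a : Γ(X, A)) :
    a ∈ (hA.primeIdealOf x).asIdeal ↔ x.1 ∉ X.basicOpen a := by
  have h1 := ev_mem_iff hA.fromSpec A (by rw [hA.fromSpec_preimage_self]) a (hA.primeIdealOf x)
  rw [ev_fromSpec, hA.fromSpec_primeIdealOf] at h1
  exact (not_iff_comm.mp h1.symm).symm

/-- The prime of `Γ(X, A)[[T]]` of the power series with all coefficients vanishing at `x`. -/
def xi (x : A) : Spec (CommRingCat.of (PowerSeries Γ(X, A))) :=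
  PrimeSpectrum.comap (PowerSeries.map (Ideal.Quotient.mk (hA.primeIdealOf x).asIdeal)) ⟨⊥, Ideal.isPrime_bot⟩

theorem mem_xi_iff (x : A) (f : PowerSeries Γ(X, A)) :
    f ∈ (xi hA x).asIdeal ↔ ∀ n, PowerSeries.coeff n f ∈ (hA.primeIdealOf x).asIdeal := by
  change PowerSeries.map (Ideal.Quotient.mk (hA.primeIdealOf x).asIdeal) f = 0 ↔ _
  rw [PowerSeries.ext_iff]
  simp only [PowerSeries.coeff_map, map_zero, Ideal.Quotient.eq_zero_iff_mem]

/-- The image of `xi` in the line bundle: the generic point of the fibre over `x`. -/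
def eta (x : A) : V := phi B hA he (xi hA x)

theorem eta_mem_basicOpen_iff (x : A) {W : V.Opens} (hW : A ≤ j ⁻¹ᵁ W) (F : Γ(V, W)) :
    eta B hA he x ∈ V.basicOpen F ↔ ∃ n, x.1 ∈ X.basicOpen (PowerSeries.coeff n (tay B hA he hW F)) := by
  rw [eta, ev_mem_iff (phi B hA he) W (top_le_phi B hA he hW)]
  change tay B hA he hW F ∉ (xi hA x).asIdeal ↔ _
  rw [mem_xi_iff, not_forall]
  refine exists_congr fun n => ?_
  rw [mem_primeIdealOf_iff, not_not]

theorem eta_mem (x : A) {W : V.Opens} (hW : A ≤ j ⁻¹ᵁ W) : eta B hA he x ∈ W :=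
  top_le_phi B hA he hW (Set.mem_univ _)

theorem π_eta (x : A) : π (eta B hA he x) = x.1 := by
  rw [eta, ← Scheme.Hom.comp_apply, phi_π, Scheme.Hom.comp_apply]
  have h : Spec.map (CommRingCat.ofHom (PowerSeries.C (R := Γ(X, A)))) (xi hA x) = hA.primeIdealOf x := by
    apply PrimeSpectrum.ext
    ext a
    change PowerSeries.C a ∈ (xi hA x).asIdeal ↔ _
    rw [mem_xi_iff]
    constructor
    · intro h
      have := h 0
      rwa [PowerSeries.coeff_C, if_pos rfl] at this
    · intro h n
      rw [PowerSeries.coeff_C]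
      split_ifs
      · exact h
      · exact Ideal.zero_mem _
  rw [h, hA.fromSpec_primeIdealOf]

include B in
theorem mem_preimage_section_iff (x : X) (A : X.Opens) : j x ∈ π ⁻¹ᵁ A ↔ x ∈ A := by
  have h : π (j x) = x := by
    rw [← Scheme.Hom.comp_apply, B.comp]
    rfl
  change π (j x) ∈ A ↔ _
  rw [h]

theorem section_mem_basicOpen_iff {W : V.Opens} {A : X.Opens} (hW : A ≤ j ⁻¹ᵁ W) (F : Γ(V, W)) {x : X}
    (hx : x ∈ A) : j x ∈ V.basicOpen F ↔ x ∈ X.basicOpen (j.appLE W A hW F : Γ(X, A)) := by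
  have e : (j.appLE W A hW F : Γ(X, A)) = X.presheaf.map (homOfLE hW).op (j.app W F) := rfl
  rw [e, Scheme.basicOpen_res, ← Scheme.preimage_basicOpen]
  exact ⟨fun h => ⟨hx, h⟩, fun h => h.2⟩

theorem eta_notMem_range (x : A) : eta B hA he x ∉ Set.range j := by
  rintro ⟨y, hy⟩
  have hy1 : y = x.1 := by
    have := congrArg π hy
    rw [π_eta, ← Scheme.Hom.comp_apply, B.comp] at this
    exact this
  have h1 : eta B hA he x ∈ V.basicOpen (B.tau A hA e) := by
    rw [eta_mem_basicOpen_iff B hA he x (le_preimage_section B.comp A)]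
    refine ⟨1, ?_⟩
    have h2 : tay B hA he (le_preimage_section B.comp A) (B.tau A hA e) = PowerSeries.X := by
      refine (ev_of_comp (isAffineOpen_preimage B hA) (CommRingCat.ofHom (beta B hA he)) _ rfl _ _).trans ?_
      exact beta_tau B hA he
    rw [h2, PowerSeries.coeff_one_X, Scheme.basicOpen_of_isUnit _ isUnit_one]
    exact x.2
  rw [← hy, section_mem_basicOpen_iff (le_preimage_section B.comp A) _ (hy1 ▸ x.2), B.zero,
    Scheme.basicOpen_zero] at h1
  exact h1

end point

section glue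

variable {D : X.Opens} {W : V.Opens} (hW : D ≤ j ⁻¹ᵁ W) {ι : Type*} {A : ι → X.Opens}
  (hA : ∀ i, IsAffineOpen (A i)) (hAD : ∀ i, A i ≤ D) (hcov : D ≤ ⨆ i, A i) {e : ∀ i, Γ(L, A i)}
  (he : ∀ i, IsGen (e i))

include hcov in
/-- The Taylor coefficients of a function near the zero section are sections of the powers of `L`. -/
theorem exists_coef (F : Γ(V, W)) (n : ℕ) : ∃ s : Γ(CohB1.tensorPow L n, D), ∀ i,
    res _ (hAD i) s = PowerSeries.coeff n (tay B (hA i) (he i) ((hAD i).trans hW) F) • pow (e i) n := by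
  have h2 : ∀ i k, ∃ g : Γ(X, A i ⊓ A k), res L (inf_le_left : A i ⊓ A k ≤ A i) (e i) =
      g • res L (inf_le_right : A i ⊓ A k ≤ A k) (e k) := fun i k =>
    ((he k).res inf_le_right).exists_eq _
  choose g hg using h2
  refine exists_of_coef (CohB1.tensorPow L n) A hAD hcov (fun i => pow (e i) n)
    (fun i => PowerSeries.coeff n (tay B (hA i) (he i) ((hAD i).trans hW) F)) (fun i k => g i k ^ n)
    (fun i k => by rw [res_pow, res_pow, hg, smul_pow]) (fun i k => ?_)
  -- check on affine opens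
  have hloc : ∀ x : (A i ⊓ A k : X.Opens), ∃ D' : X.Opens, IsAffineOpen D' ∧ x.1 ∈ D' ∧ D' ≤ A i ⊓ A k := by
    intro x
    obtain ⟨D', hD', hx, hle⟩ := exists_isAffineOpen_mem_and_subset x.2
    exact ⟨D', hD', hx, hle⟩
  choose D' hD' hxD' hle using hloc
  refine ores_ext D' hle (fun x hx => Opens.mem_iSup.mpr ⟨⟨x, hx⟩, hxD' _⟩) fun x => ?_
  have hi : D' x ≤ A i := (hle x).trans inf_le_left
  have hk : D' x ≤ A k := (hle x).trans inf_le_right
  have e1 := coeff_tay_change B (hA i) (he i) (hD' x) ((he k).res hk) hi (u := ores (hle x) (g i k))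
    (by
      have := congrArg (res L (hle x)) (hg i k)
      rwa [res_res, res_smul, res_res] at this) ((hAD i).trans hW) F n
  have e2 := coeff_tay_change B (hA k) (he k) (hD' x) ((he k).res hk) hk (u := 1)
    (one_smul _ _).symm ((hAD k).trans hW) F n
  rw [e1, one_pow, one_mul] at e2
  rw [ores_ores, ← e2, map_mul, map_pow, ores_ores, mul_comm]

end glue

end K30.TaylorPt

end
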