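import Groth.Agent.Ega2.AmpleVery
import Groth.Agent.Ega2.AmpleGlobGen
import Groth.Agent.Ega2.AmpleWeight

/-!
# `L^n ⊗ L'` is very ample for large `n`, relative to an affine base

`L` ample, `L'` invertible, `q : X ⟶ Y` of finite type with `Y` affine.
-/

set_option autoImplicit false
universe u
open CategoryTheory CategoryTheory.Limits AlgebraicGeometry TopologicalSpace Opposite
open Groth.Agent.Fdesc.LocGen

namespace K30.VeryAmpleTwist

open Groth.Agent Groth.Agent.Ega2 Groth.Agent.Ega2.Weight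

variable {X Y : Scheme.{u}}

/-- The auxiliary module `((L^m ⊗ L') ⊗ (L^d)^N) ⊗ L^d`. -/
noncomputable abbrev Q (L L' : X.Modules) (d m N : ℕ) : X.Modules :=
  CohB1.tensorMod (CohB1.tensorMod (CohB1.tensorMod (CohB1.tensorPow L m) L')
    (CohB1.tensorPow (CohB1.tensorPow L d) N)) (CohB1.tensorPow L d)

theorem nonempty_iso {L L' : X.Modules} (hL : PicF.IsInvertible L) (hL' : PicF.IsInvertible L')
    (d m N : ℕ) : Nonempty (Q L L' d m N ≅ CohB1.tensorMod (CohB1.tensorPow L (m + (N + 1) * d)) L') := by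
  have w1 : Wt L L' (m + (N + 1) * d) 1 (Q L L' d m N) := by
    have h1 := (((Wt.tensorPow_fst (L := L) (L' := L') m).tensor Wt.snd).tensor
      ((Wt.tensorPow_fst (L := L) (L' := L') d).pow N)).tensor (Wt.tensorPow_fst (L := L) (L' := L') d)
    have e1 : m + 0 + d * N + d = m + (N + 1) * d := by ring
    have e2 : 0 + 1 + 0 * N + 0 = 1 := by ring
    rw [e1, e2] at h1
    exact h1
  have w2 : Wt L L' (m + (N + 1) * d) 1 (CohB1.tensorMod (CohB1.tensorPow L (m + (N + 1) * d)) L') := by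
    have h1 := (Wt.tensorPow_fst (L := L) (L' := L') (m + (N + 1) * d)).tensor Wt.snd
    rw [add_zero, zero_add] at h1
    exact h1
  exact Wt.nonempty_iso hL hL' w1 w2

/-- If `L` and `L'` are trivialized on `X_t`, `t : O ⟶ L^d`, `d > 0`, then for all large `n` there is
`v : O ⟶ L^n ⊗ L'` with `X_v = X_t` such that `c • v` extends to `X` for all `c ∈ C`. -/
theorem exists_sections [CompactSpace X] [QuasiSeparatedSpace X] {L L' : X.Modules}
    (hL : PicF.IsInvertible L) (hL' : PicF.IsInvertible L') {d : ℕ} (hd : 0 < d)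
    (t : Coh.structureModule X ⟶ CohB1.tensorPow L d)
    (e : Γ(L, CohB1.genLocus _ t)) (he : IsGen e) (e' : Γ(L', CohB1.genLocus _ t)) (he' : IsGen e')
    (C : Set Γ(X, CohB1.genLocus _ t)) (hC : C.Finite) :
    ∃ n₀ : ℕ, ∀ n, n₀ ≤ n → ∃ v : Coh.structureModule X ⟶ CohB1.tensorMod (CohB1.tensorPow L n) L',
      CohB1.genLocus _ v = CohB1.genLocus _ t ∧
      ∀ c ∈ C, ∃ w : Coh.structureModule X ⟶ CohB1.tensorMod (CohB1.tensorPow L n) L',
        sec w (CohB1.genLocus _ t) = c • sec v (CohB1.genLocus _ t) := by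
  classical
  have hLd := isInvertible_tensorPow hL d
  have hF : ∀ m, PicF.IsInvertible (CohB1.tensorMod (CohB1.tensorPow L m) L') := fun m =>
    isInvertible_tensorMod (isInvertible_tensorPow hL m) hL'
  -- the basic section on `X_t`
  let g : ∀ m N : ℕ, Γ(Q L L' d m N, CohB1.genLocus _ t) := fun m N =>
    tmul (tmul (tmul (pow e m) e') (pow (sec t (CohB1.genLocus _ t)) N)) (sec t (CohB1.genLocus _ t))
  have ht : IsGen (sec t (CohB1.genLocus _ t)) := (le_genLocus_iff t _).mp le_rfl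
  have hg : ∀ m N, IsGen (g m N) := fun m N => (((he.pow m).tmul he').tmul (ht.pow N)).tmul ht
  have key : ∀ (c : Γ(X, CohB1.genLocus _ t)) (m : ℕ), ∃ N₀ : ℕ, ∀ N, N₀ ≤ N →
      ∃ w : Coh.structureModule X ⟶ Q L L' d m N, CohB1.genLocus _ w ≤ CohB1.genLocus _ t ∧
        sec w (CohB1.genLocus _ t) = c • g m N := by
    intro c m
    obtain ⟨N₀, hN₀⟩ := AmpleGlobGen.exists_extend_top (GlobGenCrit.isInvertible_isQCoh (hF m)) hLd t
      (c • tmul (pow e m) e')
    refine ⟨N₀, fun N hN => ?_⟩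
    obtain ⟨w', hw'⟩ := hN₀ N hN
    refine ⟨Weight.tmulHom (homOf w') t, ?_, ?_⟩
    · rw [Weight.genLocus_tmulHom (isInvertible_tensorMod (hF m) (isInvertible_tensorPow hLd N)) hLd]
      exact inf_le_right
    · rw [Weight.sec_tmulHom, sec_homOf, hw', smul_tmul, smul_tmul]
  choose N₀ hN₀ using key
  let S : Finset Γ(X, CohB1.genLocus _ t) := insert 1 hC.toFinset
  let M : ℕ := S.sup fun c => (Finset.range d).sup fun m => N₀ c m
  have hM : ∀ c ∈ S, ∀ m < d, N₀ c m ≤ M := fun c hc m hm =>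
    (Finset.le_sup (f := fun m => N₀ c m) (Finset.mem_range.mpr hm)).trans
      (Finset.le_sup (f := fun c => (Finset.range d).sup fun m => N₀ c m) hc)
  refine ⟨(M + 1) * d, fun n hn => ?_⟩
  obtain ⟨N, m, hm, rfl, hMN⟩ : ∃ N m, m < d ∧ n = m + (N + 1) * d ∧ M ≤ N := by
    have h1 : M + 1 ≤ n / d := (Nat.le_div_iff_mul_le hd).mpr hn
    refine ⟨n / d - 1, n % d, Nat.mod_lt _ hd, ?_, by omega⟩
    rw [Nat.sub_add_cancel (by omega), mul_comm]
    exact (Nat.mod_add_div n d).symm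
  obtain ⟨i⟩ := nonempty_iso hL hL' d m N
  obtain ⟨v, hv, hv'⟩ := hN₀ 1 m N ((hM 1 (Finset.mem_insert_self _ _) m hm).trans hMN)
  refine ⟨v ≫ i.hom, ?_, fun c hc => ?_⟩
  · rw [SecCalc.genLocus_comp]
    refine le_antisymm hv ?_
    rw [le_genLocus_iff, hv', one_smul]
    exact hg m N
  · obtain ⟨w, hw, hw'⟩ := hN₀ c m N
      ((hM c (Finset.mem_insert_of_mem (hC.mem_toFinset.mpr hc)) m hm).trans hMN)
    refine ⟨w ≫ i.hom, ?_⟩
    rw [sec_comp, sec_comp, hw', hv', one_smul, Scheme.Modules.Hom.app_smul]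

/-- Sections of the modules `L^n ⊗ L'`, `L` ample. -/
theorem exists_ample_sections [QuasiSeparatedSpace X] {L L' : X.Modules} (hL : CohB1.IsAmple L)
    (hL' : PicF.IsInvertible L')
    (C : ∀ U : X.Opens, Set Γ(X, U)) (hC : ∀ U : X.Opens, IsAffineOpen U → (C U).Finite) :
    ∃ (ι : Type) (_ : Finite ι) (U : ι → X.Opens), (⨆ i, U i = ⊤) ∧ (∀ i, IsAffineOpen (U i)) ∧
      ∃ n₀ : ℕ, ∀ n, n₀ ≤ n → ∀ i, ∃ v : Coh.structureModule X ⟶ CohB1.tensorMod (CohB1.tensorPow L n) L',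
        CohB1.genLocus _ v = U i ∧
        ∀ c ∈ C (U i), ∃ w : Coh.structureModule X ⟶ CohB1.tensorMod (CohB1.tensorPow L n) L',
          sec w (U i) = c • sec v (U i) := by
  classical
  have hinv := hL.1
  have hcpt : CompactSpace X := hL.2.1
  have h1 : ∀ x : X, ∃ U : X.Opens, x ∈ U ∧ IsAffineOpen U ∧ ∃ n₀ : ℕ, ∀ n, n₀ ≤ n →
      ∃ v : Coh.structureModule X ⟶ CohB1.tensorMod (CohB1.tensorPow L n) L', CohB1.genLocus _ v = U ∧
        ∀ c ∈ C U, ∃ w : Coh.structureModule X ⟶ CohB1.tensorMod (CohB1.tensorPow L n) L',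
          sec w U = c • sec v U := by
    intro x
    obtain ⟨W, e, hxW, he⟩ := (isInvertible_iff L).mp hinv x
    obtain ⟨W', e', hxW', he'⟩ := (isInvertible_iff L').mp hL' x
    obtain ⟨d, t, hxt, htW, haff⟩ := AmpleSec.exists_affine_genLocus_nhd hL (W ⊓ W') x ⟨hxW, hxW'⟩
    refine ⟨CohB1.genLocus _ t, hxt, haff, ?_⟩
    exact exists_sections hinv hL' (Nat.succ_pos d) t (res L (htW.trans inf_le_left) e) (he.res _)
      (res L' (htW.trans inf_le_right) e') (he'.res _) (C _) (hC _ haff)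
  choose U hxU hU n₀ hn₀ using h1
  obtain ⟨s, hs⟩ := isCompact_univ.elim_finite_subcover (fun x : X => (U x : Set X)) (fun x => (U x).2)
    (fun x _ => Set.mem_iUnion.mpr ⟨x, hxU x⟩)
  obtain ⟨k, ⟨eqv⟩⟩ := Finite.exists_equiv_fin (s : Type _)
  refine ⟨Fin k, inferInstance, fun i => U (eqv.symm i), ?_, fun i => hU _, s.sup n₀, fun n hn i => ?_⟩
  · ext x
    simp only [Opens.coe_iSup, Set.mem_iUnion, Opens.coe_top, Set.mem_univ, iff_true]
    obtain ⟨y, hy, hxy⟩ := Set.mem_iUnion₂.mp (hs (Set.mem_univ x))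
    exact ⟨eqv ⟨y, hy⟩, by simpa using hxy⟩
  · exact hn₀ _ n ((Finset.le_sup (f := n₀) (eqv.symm i).2).trans hn)

/-- `L^n ⊗ L'` is very ample relative to an affine base for all large `n`. -/
theorem exists_forall_isRelVeryAmplePn [IsAffine Y] (q : X ⟶ Y) [IsSeparated q] [LocallyOfFiniteType q]
    {L L' : X.Modules} (hL : CohB1.IsAmple L) (hL' : PicF.IsInvertible L') :
    ∃ n₀ : ℕ, ∀ n, n₀ ≤ n → RelAmple.IsRelVeryAmplePn q (CohB1.tensorMod (CohB1.tensorPow L n) L') := by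
  classical
  have hqs : QuasiSeparatedSpace X := quasiSeparatedSpace_of_quasiSeparated q
  have hft : ∀ U : X.Opens, IsAffineOpen U → ∃ S : Set Γ(X, U), S.Finite ∧
      Subring.closure (S ∪ Set.range (fun r : Γ(Y, ⊤) => ores (le_top : U ≤ q ⁻¹ᵁ ⊤) (q.app ⊤ r))) = ⊤ := by
    intro U hU
    have h1 : (q.appLE ⊤ U le_top).hom.FiniteType :=
      LocallyOfFiniteType.finiteType_appLE q (isAffineOpen_top Y) hU le_top
    algebraize [(q.appLE ⊤ U le_top).hom]
    obtain ⟨S, hS⟩ := (inferInstance : Algebra.FiniteType Γ(Y, ⊤) Γ(X, U)).out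
    refine ⟨S, S.finite_toSet, ?_⟩
    have h2 := Algebra.adjoin_eq_ring_closure (R := Γ(Y, ⊤)) (S : Set Γ(X, U))
    rw [hS, Set.union_comm] at h2
    refine Eq.trans ?_ h2.symm
    rfl
  choose! C hCfin hCgen using hft
  obtain ⟨ι, hι, U, hUcov, hUaff, n₀, hn₀⟩ := exists_ample_sections hL hL' C hCfin
  refine ⟨n₀, fun n hn => ?_⟩
  choose v hv w hw using hn₀ n hn
  have hfin : ∀ i, Finite (C (U i)) := fun i => (hCfin (U i) (hUaff i))
  let J := Option (Σ i : ι, Option (C (U i)))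
  let s : J → (Coh.structureModule X ⟶ CohB1.tensorMod (CohB1.tensorPow L n) L') := fun j =>
    match j with
    | none => 0
    | some ⟨i, none⟩ => v i
    | some ⟨i, some c⟩ => w i c c.2
  refine AmpleVery.isRelVeryAmplePn_of_family q _ s (Set.range fun i : ι => some ⟨i, none⟩) ?_ ?_ ?_
  · rw [eq_top_iff, ← hUcov]
    refine iSup_le fun i => le_iSup_of_le
      (f := fun k : (Set.range fun i : ι => (some ⟨i, none⟩ : J)) => CohB1.genLocus _ (s k)) ⟨some ⟨i, none⟩, i, rfl⟩ ?_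
    exact (hv i).ge
  · rintro ⟨_, i, rfl⟩
    change IsAffineOpen (CohB1.genLocus _ (v i))
    rw [hv]
    exact hUaff i
  · rintro ⟨_, i, rfl⟩
    refine VeryAmpleCrit.closure_eq_top_of_le (U := U i) (W := CohB1.genLocus _ (v i)) (hv i) _
      (hCgen (U i) (hUaff i)) _ ?_
    rintro a (ha | ⟨r, rfl⟩)
    · refine Subring.subset_closure (Or.inl ⟨some ⟨i, some ⟨a, ha⟩⟩, ?_⟩)
      change sec (w i a ha) _ = _ • sec (v i) _
      rw [← res_sec (w i a ha) (hv i).le, hw i a ha, res_smul, res_sec]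
    · exact Subring.subset_closure (Or.inr ⟨r, (ores_ores _ _ _).symm⟩)

end K30.VeryAmpleTwist
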